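import Cfsg.Agent.R2.H27.F4Th.SqY_m3
import Cfsg.Agent.R2.H28.SL2.Bas_m3
import Mathlib
import Cfsg.Agent.Lib.FinFast
import Cfsg.Agent.R2.H22.P11_m3
import Cfsg.Agent.R2.H22.Q7
import Cfsg.Agent.Prune
set_option linter.all false

section
prune_inst 0x7f00000000000000000000000000000000000000000000000000000000000000000000000000000000000000000000000000000000000000000000000000000000000000000000000000000000000000003fffffffffffffffffffffffffffaeffbdfbfeffff

-- part: R2/H1/F4/AlphaF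
section
prune_inst 0x4010000
set_option linter.all false
open scoped Cfsg.Agent.FastGrp

-- part: R2/H1/F4/AlphaN
section
/-!
# S5931: type alpha, normalisation of the bases (helper1)

`Sys.exists_norm` : there is an orthonormal system.
-/

set_option autoImplicit false
set_option linter.unusedSectionVars false

namespace Cfsg.Agent.R2.H1.F4

open Cfsg Cfsg.Lie Module Cfsg.Agent.H952.F4 Cfsg.Agent.H952.F4.Jord
open Cfsg.Agent.ChevalleyStructure.E6Min.Tables Cfsg.Agent.ChevalleyStructure.E6Min.Basic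
open Cfsg.Agent.R2.F4N (Str)
open Cfsg.Agent.R2.F4L (Act)
open Cfsg.Agent.H952.F4.FixV (W0 mem_W0 finrank_W0 trL tfL tfL_apply tr1_sub)
open Matrix Finset

universe u v w

section lin

variable {k : Type u} [Field k]

/-- orthonormal bases of the plane -/
theorem ortho2 (hsq : ∀ c : k, ∃ r, r * r = c) (h2 : (2 : k) ≠ 0) {A B D : k} (hd : A * D - B * B ≠ 0) :
    ∃ α β γ δ : k, α * α * A + 2 * α * β * B + β * β * D = 1 ∧ γ * γ * A + 2 * γ * δ * B + δ * δ * D = 1 ∧
      α * γ * A + (α * δ + β * γ) * B + β * δ * D = 0 := by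
  have key : ∀ A B D : k, A * D - B * B ≠ 0 → A ≠ 0 → ∃ α β γ δ : k, α * α * A + 2 * α * β * B + β * β * D = 1 ∧
      γ * γ * A + 2 * γ * δ * B + δ * δ * D = 1 ∧ α * γ * A + (α * δ + β * γ) * B + β * δ * D = 0 := by
    intro A B D hd hA
    obtain ⟨r, hr⟩ := hsq A
    obtain ⟨s, hs⟩ := hsq ((A * D - B * B) / A)
    have hr0 : r ≠ 0 := by rintro rfl; apply hA; rw [← hr, mul_zero]
    have hs0 : s ≠ 0 := by
      rintro rfl
      rw [mul_zero, eq_comm, div_eq_zero_iff] at hs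
      exact hs.elim hd hA
    have hs' : s * s * A = A * D - B * B := by rw [hs, div_mul_cancel₀ _ hA]
    refine ⟨1 / r, 0, -B / (A * s), 1 / s, ?_, ?_, ?_⟩
    · field_simp
      linear_combination -hr
    · field_simp
      linear_combination -hs'
    · field_simp
      ring
  by_cases hA : A = 0
  · have hB : B ≠ 0 := by
      rintro rfl
      apply hd
      rw [hA]; ring
    obtain ⟨t, ht, hA'⟩ : ∃ t : k, t * t = 1 ∧ 2 * t * B + D ≠ 0 := by
      by_cases h : 2 * 1 * B + D = 0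
      · refine ⟨-1, by ring, fun h' => ?_⟩
        have h4 : (2 * 2) * B = 0 := by linear_combination h - h'
        exact (mul_ne_zero (mul_ne_zero h2 h2) hB) h4
      · exact ⟨1, by ring, h⟩
    obtain ⟨α, β, γ, δ, e1, e2, e3⟩ := key (2 * t * B + D) (B + t * D) D (fun h => by
      apply hd
      rw [hA]
      linear_combination h + D * D * ht) hA'
    subst hA
    refine ⟨α, β + t * α, γ, δ + t * γ, ?_, ?_, ?_⟩
    · linear_combination e1 + α * α * D * ht
    · linear_combination e2 + γ * γ * D * ht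
    · linear_combination e3 + α * γ * D * ht
  · exact key A B D hd hA

end lin

section sys

variable {k : Type u} [Field k] {K : Type w} [Field K] {κ : K →+* k}
variable {ρ : Representation k (_root_.Matrix.SpecialLinearGroup (Fin 2) K) (I27 → k)} {x : Fin 4 → ℕ → (I27 → k)}

/-- change of the bases -/
def trX (x : Fin 4 → ℕ → (I27 → k)) (c d α β γ δ : k) : Fin 4 → ℕ → (I27 → k) :=
  ![fun a => c • x 0 a, fun a => d • x 1 a, fun a => α • x 2 a + β • x 3 a, fun a => γ • x 2 a + δ • x 3 a]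

theorem Sys.trS (S : Sys κ ρ x) {c d α β γ δ : k} (hc : c ≠ 0) (hd : d ≠ 0) (hΔ : α * δ - β * γ ≠ 0) :
    Sys κ ρ (trX x c d α β γ δ) where
  str := fun X => by
    fin_cases X
    · exact str_smul (S.str 0) c
    · exact str_smul (S.str 1) d
    · exact str_add (str_smul (S.str 2) α) (str_smul (S.str 3) β)
    · exact str_add (str_smul (S.str 2) γ) (str_smul (S.str 3) δ)
  tr := fun X a ha => by
    fin_cases X
    · change tr1 (c • x 0 a) = 0
      rw [tr1_smul, S.tr 0 a ha, mul_zero]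
    · change tr1 (d • x 1 a) = 0
      rw [tr1_smul, S.tr 1 a ha, mul_zero]
    · change tr1 (α • x 2 a + β • x 3 a) = 0
      rw [tr1_add, tr1_smul, tr1_smul, S.tr 2 a ha, S.tr 3 a ha, mul_zero, mul_zero, add_zero]
    · change tr1 (γ • x 2 a + δ • x 3 a) = 0
      rw [tr1_add, tr1_smul, tr1_smul, S.tr 2 a ha, S.tr 3 a ha, mul_zero, mul_zero, add_zero]
  span := fun v hv => by
    refine Submodule.span_le.2 ?_ (S.span v hv)
    rintro w ⟨X, a, ha, rfl⟩
    set Z := Submodule.span k {w | ∃ X a, a ≤ sz X ∧ w = trX x c d α β γ δ X a} with hZ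
    change x X a ∈ Z
    fin_cases X
    · have h1 : c • x 0 a ∈ Z := Submodule.subset_span ⟨0, a, ha, rfl⟩
      have h2 := Z.smul_mem c⁻¹ h1
      rwa [smul_smul, inv_mul_cancel₀ hc, one_smul] at h2
    · have h1 : d • x 1 a ∈ Z := Submodule.subset_span ⟨1, a, ha, rfl⟩
      have h2 := Z.smul_mem d⁻¹ h1
      rwa [smul_smul, inv_mul_cancel₀ hd, one_smul] at h2
    · have h1 : α • x 2 a + β • x 3 a ∈ Z := Submodule.subset_span ⟨2, a, ha, rfl⟩
      have h1' : γ • x 2 a + δ • x 3 a ∈ Z := Submodule.subset_span ⟨3, a, ha, rfl⟩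
      have h2 := Z.smul_mem (α * δ - β * γ)⁻¹ (Z.sub_mem (Z.smul_mem δ h1) (Z.smul_mem β h1'))
      have h3 : δ • (α • x 2 a + β • x 3 a) - β • (γ • x 2 a + δ • x 3 a) = (α * δ - β * γ) • x 2 a := by module
      rwa [h3, smul_smul, inv_mul_cancel₀ hΔ, one_smul] at h2
    · have h1 : α • x 2 a + β • x 3 a ∈ Z := Submodule.subset_span ⟨2, a, ha, rfl⟩
      have h1' : γ • x 2 a + δ • x 3 a ∈ Z := Submodule.subset_span ⟨3, a, ha, rfl⟩
      have h2 := Z.smul_mem (α * δ - β * γ)⁻¹ (Z.sub_mem (Z.smul_mem α h1') (Z.smul_mem γ h1))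
      have h3 : α • (γ • x 2 a + δ • x 3 a) - γ • (α • x 2 a + β • x 3 a) = (α * δ - β * γ) • x 3 a := by module
      rwa [h3, smul_smul, inv_mul_cancel₀ hΔ, one_smul] at h2

/-- the 26 vectors are linearly independent -/
theorem Sys.li (S : Sys κ ρ x) :
    LinearIndependent k (fun i : (X : Fin 4) × Fin (sz X + 1) => x i.1 i.2) := by
  classical
  let v : ((X : Fin 4) × Fin (sz X + 1)) → ↥(W0 k) := fun i =>
    ⟨x i.1 i.2, (mem_W0 _).2 (S.tr i.1 i.2 (by have := i.2.2; omega))⟩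
  have h1 : LinearIndependent k v := by
    refine linearIndependent_of_top_le_span_of_card_eq_finrank ?_ ?_
    · intro y _
      have h2 := S.span (y : I27 → k) ((mem_W0 _).1 y.2)
      have h3 : ((Submodule.span k (Set.range v)).map (W0 k).subtype) =
          Submodule.span k {w | ∃ X a, a ≤ sz X ∧ w = x X a} := by
        rw [Submodule.map_span]
        congr 1
        ext w
        constructor
        · rintro ⟨_, ⟨i, rfl⟩, rfl⟩
          exact ⟨i.1, i.2, by have := i.2.2; omega, rfl⟩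
        · rintro ⟨X, a, ha, rfl⟩
          exact ⟨_, ⟨⟨X, ⟨a, by omega⟩⟩, rfl⟩, rfl⟩
      rw [← h3] at h2
      obtain ⟨z, hz, hzy⟩ := h2
      have h4 : z = y := Subtype.ext hzy
      rwa [← h4]
    · rw [finrank_W0, Fintype.card_sigma]
      decide
  exact h1.map' (W0 k).subtype (LinearMap.ker_eq_bot.2 Subtype.val_injective)

theorem Sys.ne (S : Sys κ ρ x) (X : Fin 4) {a : ℕ} (ha : a ≤ sz X) : x X a ≠ 0 :=
  S.li.ne_zero ⟨X, ⟨a, by omega⟩⟩

theorem Sys.li2 (S : Sys κ ρ x) {α β : k} (h : α • x 2 0 + β • x 3 0 = 0) : α = 0 ∧ β = 0 := by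
  have h1 : LinearIndependent k ![x 2 0, x 3 0] := by
    have h2 := S.li.comp (fun j : Fin 2 => (![⟨2, ⟨0, by decide⟩⟩, ⟨3, ⟨0, by decide⟩⟩] :
      Fin 2 → (X : Fin 4) × Fin (sz X + 1)) j) (by
        intro i j h
        fin_cases i <;> fin_cases j <;> first | rfl | (exfalso; simp at h))
    convert h2 using 1
    funext j
    fin_cases j <;> rfl
  have h3 := LinearIndependent.pair_iff.1 h1 α β h
  exact h3

/-- nondegeneracy -/
theorem Sys.nd (S : Sys κ ρ x) (h3 : (3 : k) ≠ 0) {y : I27 → k} (hy : tr1 y = 0)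
    (h : ∀ X, ∀ a ≤ sz X, tf y (x X a) = 0) : y = 0 := by
  refine tf_nondeg fun z => ?_
  have h2 : tr1 (z - (tr1 z / 3) • u0 k) = 0 := by
    rw [tr1_sub, tr1_smul, tr1_u0]
    field_simp
    ring
  have h4 : tf y (z - (tr1 z / 3) • u0 k) = 0 := by
    have h5 := S.span _ h2
    generalize z - (tr1 z / 3) • u0 k = z' at h5
    clear h2
    induction h5 using Submodule.span_induction with
    | mem w hw =>
      obtain ⟨X, a, ha, rfl⟩ := hw
      exact h X a ha
    | zero => rw [← tfL_apply, map_zero]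
    | add w w' _ _ ih ih' => rw [tf_add_right, ih, ih', add_zero]
    | smul r w _ ih => rw [tf_smul_right, ih, mul_zero]
  have h5 : z = (z - (tr1 z / 3) • u0 k) + (tr1 z / 3) • u0 k := by abel
  rw [h5, tf_add_right, h4, tf_smul_right, tf_u0_right, hy, mul_zero, add_zero]

variable [Fintype K] {p : ℕ} [Fact p.Prime] [CharP k p]

/-- an orthonormal system -/
theorem Sys.exists_norm (S : Sys κ ρ x) (H : Act ρ) (hp : 11 ≤ p) (hpK : p ≤ Fintype.card K)
    (hsq : ∀ c : k, ∃ r, r * r = c) :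
    ∃ x' : Fin 4 → ℕ → (I27 → k), Sys κ ρ x' ∧ (∀ X, tf (x' X 0) (x' X (sz X)) = 1) ∧ tf (x' 2 0) (x' 3 4) = 0 := by
  have hnat : ∀ n : ℕ, 0 < n → n ≤ 8 → (n : k) ≠ 0 := by
    intro n h0 h1 h
    rw [CharP.cast_eq_zero_iff k p] at h
    have := Nat.le_of_dvd h0 h
    omega
  have h2 : (2 : k) ≠ 0 := by exact_mod_cast hnat 2 (by norm_num) (by norm_num)
  have h3 : (3 : k) ≠ 0 := by exact_mod_cast hnat 3 (by norm_num) (by norm_num)
  have hszp : ∀ X, sz X < p := fun X => by have := sz_le X; omega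
  have hz : ∀ X Y : Fin 4, ∀ c ≤ sz Y, (sz X ≠ sz Y ∨ c ≠ sz Y) → tf (x X 0) (x Y c) = 0 := fun X Y c hc h =>
    tf_str_zero hpK H h3 (S.str X) (S.str Y) (hszp X) (hszp Y) hc h
  have g0 : tf (x 0 0) (x 0 8) ≠ 0 := by
    intro h
    refine S.ne 0 (Nat.zero_le _) (S.nd h3 (S.tr 0 0 (Nat.zero_le _)) fun Y c hc => ?_)
    by_cases hY : Y = 0 ∧ c = 8
    · rw [hY.1, hY.2, h]
    · refine hz 0 Y c hc ?_
      by_cases h1 : Y = 0
      · right
        subst h1
        exact fun h2 => hY ⟨rfl, h2⟩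
      · left
        revert h1
        clear hY hc
        revert Y
        decide
  have g1 : tf (x 1 0) (x 1 6) ≠ 0 := by
    intro h
    refine S.ne 1 (Nat.zero_le _) (S.nd h3 (S.tr 1 0 (Nat.zero_le _)) fun Y c hc => ?_)
    by_cases hY : Y = 1 ∧ c = 6
    · rw [hY.1, hY.2, h]
    · refine hz 1 Y c hc ?_
      by_cases h1 : Y = 1
      · right
        subst h1
        exact fun h2 => hY ⟨rfl, h2⟩
      · left
        revert h1
        clear hY hc
        revert Y
        decide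
  have gsym : tf (x 3 0) (x 2 4) = tf (x 2 0) (x 3 4) := by
    have h5 := tf_str_val hpK H h3 (S.str 2) (S.str 3) (hszp 2) (hszp 3) (a := 4) (c := 0) (by decide) (by decide)
    rw [if_pos ⟨by decide, by decide⟩] at h5
    have h6 : (sz 2).choose 4 = 1 := by decide
    have h7 : sz 3 = 4 := by decide
    rw [h6, Nat.cast_one, one_mul, h7] at h5
    rw [tf_comm, h5]
    norm_num
  have gpl : ∀ α β : k, α * tf (x 2 0) (x 2 4) + β * tf (x 3 0) (x 2 4) = 0 →
      α * tf (x 2 0) (x 3 4) + β * tf (x 3 0) (x 3 4) = 0 → α = 0 ∧ β = 0 := by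
    intro α β e1 e2
    refine S.li2 (S.nd h3 (by rw [tr1_add, tr1_smul, tr1_smul, S.tr 2 0 (Nat.zero_le _), S.tr 3 0 (Nat.zero_le _)]; ring)
      fun Y c hc => ?_)
    rw [tf_add_left, tf_smul_left, tf_smul_left]
    by_cases hY : Y = 2 ∧ c = 4
    · rw [hY.1, hY.2, e1]
    · by_cases hY' : Y = 3 ∧ c = 4
      · rw [hY'.1, hY'.2, e2]
      · have h5 : sz 2 ≠ sz Y ∨ c ≠ sz Y := by
          by_cases h1 : Y = 2
          · right
            subst h1
            exact fun h2 => hY ⟨rfl, h2⟩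
          · by_cases h1' : Y = 3
            · right
              subst h1'
              exact fun h2 => hY' ⟨rfl, h2⟩
            · left
              revert h1 h1'
              clear hY hY' hc
              revert Y
              decide
        rw [hz 2 Y c hc h5, hz 3 Y c hc h5]
        ring
  rw [gsym] at gpl
  have gd : tf (x 2 0) (x 2 4) * tf (x 3 0) (x 3 4) - tf (x 2 0) (x 3 4) * tf (x 2 0) (x 3 4) ≠ 0 := by
    intro h
    have h4 := gpl (tf (x 3 0) (x 3 4)) (- tf (x 2 0) (x 3 4)) (by linear_combination h) (by ring)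
    have h5 := gpl (tf (x 2 0) (x 3 4)) (- tf (x 2 0) (x 2 4)) (by ring) (by linear_combination -h)
    have h6 := gpl 1 0 (by linear_combination -h5.2) (by linear_combination h5.1)
    exact one_ne_zero h6.1
  obtain ⟨α, β, γ, δ, e1, e2, e3⟩ := ortho2 hsq h2 gd
  obtain ⟨c, hc⟩ := hsq (tf (x 0 0) (x 0 8))⁻¹
  obtain ⟨d, hd⟩ := hsq (tf (x 1 0) (x 1 6))⁻¹
  have hc0 : c ≠ 0 := by
    rintro rfl
    rw [mul_zero] at hc
    exact inv_ne_zero g0 hc.symm
  have hd0 : d ≠ 0 := by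
    rintro rfl
    rw [mul_zero] at hd
    exact inv_ne_zero g1 hd.symm
  have hΔ : α * δ - β * γ ≠ 0 := by
    intro h
    have h4 : (α * δ - β * γ) * (α * δ - β * γ) * (tf (x 2 0) (x 2 4) * tf (x 3 0) (x 3 4) -
        tf (x 2 0) (x 3 4) * tf (x 2 0) (x 3 4)) = 1 := by
      linear_combination (γ * γ * tf (x 2 0) (x 2 4) + 2 * γ * δ * tf (x 2 0) (x 3 4) + δ * δ * tf (x 3 0) (x 3 4)) * e1 +
        e2 - (α * γ * tf (x 2 0) (x 2 4) + (α * δ + β * γ) * tf (x 2 0) (x 3 4) + β * δ * tf (x 3 0) (x 3 4)) * e3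
    rw [h] at h4
    simp at h4
  refine ⟨trX x c d α β γ δ, S.trS hc0 hd0 hΔ, ?_, ?_⟩
  · intro X
    fin_cases X
    · change tf (c • x 0 0) (c • x 0 8) = 1
      rw [tf_smul_left, tf_smul_right, ← mul_assoc, hc, inv_mul_cancel₀ g0]
    · change tf (d • x 1 0) (d • x 1 6) = 1
      rw [tf_smul_left, tf_smul_right, ← mul_assoc, hd, inv_mul_cancel₀ g1]
    · change tf (α • x 2 0 + β • x 3 0) (α • x 2 4 + β • x 3 4) = 1
      rw [tf_add_left, tf_add_right, tf_add_right]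
      simp only [tf_smul_left, tf_smul_right]
      rw [gsym]
      linear_combination e1
    · change tf (γ • x 2 0 + δ • x 3 0) (γ • x 2 4 + δ • x 3 4) = 1
      rw [tf_add_left, tf_add_right, tf_add_right]
      simp only [tf_smul_left, tf_smul_right]
      rw [gsym]
      linear_combination e2
  · change tf (α • x 2 0 + β • x 3 0) (γ • x 2 4 + δ • x 3 4) = 0
    rw [tf_add_left, tf_add_right, tf_add_right]
    simp only [tf_smul_left, tf_smul_right]
    rw [gsym]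
    linear_combination e3

/-- an orthonormal system with `κ 0 1 2 = 0` -/
theorem Sys.exists_norm' (S : Sys κ ρ x) (H : Act ρ) (hp : 11 ≤ p) (hpK : p ≤ Fintype.card K)
    (hsq : ∀ c : k, ∃ r, r * r = c) :
    ∃ (x' : Fin 4 → ℕ → (I27 → k)) (κ₀ : Fin 4 → Fin 4 → Fin 4 → k), Sys κ ρ x' ∧
      Alpha (fun X a => ((sz X).choose a : k) • x' X a) κ₀ ∧ κ₀ 0 1 2 = 0 ∧
      (∀ i ≤ 8, ∀ j ≤ 6, ∀ c ≤ 4, tf (st (x' 0 i) (x' 1 j)) (x' 2 c) = 0) := by
  have hnat : ∀ n : ℕ, 0 < n → n ≤ 8 → (n : k) ≠ 0 := by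
    intro n h0 h1 h
    rw [CharP.cast_eq_zero_iff k p] at h
    have := Nat.le_of_dvd h0 h
    omega
  have h2 : (2 : k) ≠ 0 := by exact_mod_cast hnat 2 (by norm_num) (by norm_num)
  have h3 : (3 : k) ≠ 0 := by exact_mod_cast hnat 3 (by norm_num) (by norm_num)
  have hszp : ∀ X, sz X < p := fun X => by have := sz_le X; omega
  obtain ⟨y, Sy, one, orth⟩ := S.exists_norm H hp hpK hsq
  obtain ⟨κ₁, A₁⟩ := Sy.alpha H hp hpK one orth
  have hc1 := A₁.c1 h2 h3 hnat
  obtain ⟨s, hs⟩ := hsq (κ₁ 0 1 2 * κ₁ 0 1 2 + κ₁ 0 1 3 * κ₁ 0 1 3)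
  have hs0 : s ≠ 0 := by
    rintro rfl
    rw [mul_zero] at hs
    exact hc1 hs.symm
  have gsym : tf (y 3 0) (y 2 4) = 0 := by
    have h5 := tf_str_val hpK H h3 (Sy.str 2) (Sy.str 3) (hszp 2) (hszp 3) (a := 4) (c := 0) (by decide) (by decide)
    rw [if_pos ⟨by decide, by decide⟩] at h5
    have h6 : (sz 2).choose 4 = 1 := by decide
    have h7 : sz 3 = 4 := by decide
    rw [h6, Nat.cast_one, one_mul, h7, orth, mul_zero] at h5
    rw [tf_comm, h5]
  have o2 : tf (y 2 0) (y 2 4) = 1 := one 2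
  have o3 : tf (y 3 0) (y 3 4) = 1 := one 3
  obtain ⟨α, hα⟩ : ∃ α, α = κ₁ 0 1 3 / s := ⟨_, rfl⟩
  obtain ⟨β, hβ⟩ : ∃ β, β = -(κ₁ 0 1 2) / s := ⟨_, rfl⟩
  obtain ⟨γ, hγ⟩ : ∃ γ, γ = κ₁ 0 1 2 / s := ⟨_, rfl⟩
  obtain ⟨δ, hδ⟩ : ∃ δ, δ = κ₁ 0 1 3 / s := ⟨_, rfl⟩
  have e1 : α * α + β * β = 1 := by
    rw [hα, hβ]; field_simp; linear_combination -hs
  have e2 : γ * γ + δ * δ = 1 := by
    rw [hγ, hδ]; field_simp; linear_combination -hs
  have e3 : α * γ + β * δ = 0 := by
    rw [hα, hβ, hγ, hδ]; field_simp; ring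
  have hΔ : α * δ - β * γ ≠ 0 := by
    have : α * δ - β * γ = 1 := by
      rw [hα, hβ, hγ, hδ]; field_simp; linear_combination -hs
    rw [this]; exact one_ne_zero
  have Sz := Sy.trS one_ne_zero one_ne_zero hΔ
  have hker : ∀ i ≤ 8, ∀ j ≤ 6, ∀ c ≤ 4, tf (st (y 0 i) (y 1 j)) (α • y 2 c + β • y 3 c) = 0 := by
    intro i hi j hj c hc
    have t2 := A₁.tab (0, i) (1, j) (2, c) (show (0 : Fin 4) ≤ 1 by decide) (show (1 : Fin 4) ≤ 2 by decide) hi hj hc
    have t3 := A₁.tab (0, i) (1, j) (3, c) (show (0 : Fin 4) ≤ 1 by decide) (show (1 : Fin 4) ≤ 3 by decide) hi hj hc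
    have t23 : H1.F4.t3 (0, i) (1, j) (3, c) = H1.F4.t3 (0, i) (1, j) (2, c) := rfl
    simp only at t2 t3
    rw [st_smul_left, st_smul_right, tf_smul_left, tf_smul_left, tf_smul_right] at t2 t3
    rw [t23] at t3
    have n1 : ((sz 0).choose i : k) ≠ 0 := R2.F4N.choose_ne (p := p) (hszp 0) hi
    have n2 : ((sz 1).choose j : k) ≠ 0 := R2.F4N.choose_ne (p := p) (hszp 1) hj
    have n3 : ((sz 2).choose c : k) ≠ 0 := R2.F4N.choose_ne (p := p) (hszp 2) hc
    have n4 : ((sz 3).choose c : k) = ((sz 2).choose c : k) := rfl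
    rw [n4] at t3
    rw [tf_add_right, tf_smul_right, tf_smul_right]
    refine (mul_eq_zero.1 (?_ : ((sz 0).choose i : k) * (((sz 1).choose j : k) * ((sz 2).choose c : k)) *
      (α * tf (st (y 0 i) (y 1 j)) (y 2 c) + β * tf (st (y 0 i) (y 1 j)) (y 3 c)) = 0)).resolve_left
      (mul_ne_zero n1 (mul_ne_zero n2 n3))
    have e4 : α * κ₁ 0 1 2 + β * κ₁ 0 1 3 = 0 := by
      rw [hα, hβ]; field_simp; ring
    linear_combination α * t2 + β * t3 + (H1.F4.t3 (0, i) (1, j) (2, c) : k) * e4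
  obtain ⟨κ₂, A₂⟩ := Sz.alpha H hp hpK (by
    intro X
    fin_cases X
    · change tf ((1 : k) • y 0 0) ((1 : k) • y 0 8) = 1
      rw [one_smul, one_smul]; exact one 0
    · change tf ((1 : k) • y 1 0) ((1 : k) • y 1 6) = 1
      rw [one_smul, one_smul]; exact one 1
    · change tf (α • y 2 0 + β • y 3 0) (α • y 2 4 + β • y 3 4) = 1
      rw [tf_add_left, tf_add_right, tf_add_right]
      simp only [tf_smul_left, tf_smul_right]
      rw [gsym, orth, o2, o3]
      linear_combination e1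
    · change tf (γ • y 2 0 + δ • y 3 0) (γ • y 2 4 + δ • y 3 4) = 1
      rw [tf_add_left, tf_add_right, tf_add_right]
      simp only [tf_smul_left, tf_smul_right]
      rw [gsym, orth, o2, o3]
      linear_combination e2) (by
    change tf (α • y 2 0 + β • y 3 0) (γ • y 2 4 + δ • y 3 4) = 0
    rw [tf_add_left, tf_add_right, tf_add_right]
    simp only [tf_smul_left, tf_smul_right]
    rw [gsym, orth, o2, o3]
    linear_combination e3)
  have hker' : ∀ i ≤ 8, ∀ j ≤ 6, ∀ c ≤ 4, tf (st (trX y 1 1 α β γ δ 0 i) (trX y 1 1 α β γ δ 1 j))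
      (trX y 1 1 α β γ δ 2 c) = 0 := by
    intro i hi j hj c hc
    change tf (st ((1 : k) • y 0 i) ((1 : k) • y 1 j)) (α • y 2 c + β • y 3 c) = 0
    rw [one_smul, one_smul]
    exact hker i hi j hj c hc
  refine ⟨_, κ₂, Sz, A₂, ?_, hker'⟩
  have t2 := A₂.tab (0, 0) (1, 6) (2, 3) (by decide) (by decide) (by decide) (by decide) (by decide)
  simp only at t2
  rw [st_smul_left, st_smul_right, tf_smul_left, tf_smul_left, tf_smul_right, hker' 0 (by norm_num) 6 (by norm_num) 3 (by norm_num)] at t2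
  have t4 : H1.F4.t3 (0, 0) (1, 6) (2, 3) = 1 := by decide +kernel
  rw [t4] at t2
  simp only [mul_zero, Int.cast_one, mul_one] at t2
  exact t2.symm

end sys

end Cfsg.Agent.R2.H1.F4
end

-- part: R2/H1/F4/AlphaF
section
/-!
# S5931: type alpha does not occur (helper1)
-/

set_option autoImplicit false
set_option linter.unusedSectionVars false

namespace Cfsg.Agent.R2.H1.F4

open Cfsg Cfsg.Lie Module Cfsg.Agent.H952.F4 Cfsg.Agent.H952.F4.Jord
open Cfsg.Agent.ChevalleyStructure.E6Min.Tables Cfsg.Agent.ChevalleyStructure.E6Min.Basic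
open Cfsg.Agent.R2.F4N (Str)
open Cfsg.Agent.R2.F4L (Act)
open Cfsg.Agent.H952.F4.FixV (W0 mem_W0 finrank_W0 trL tfL tfL_apply tr1_sub)
open Cfsg.Agent.R2.F4M (Jr Rk R0 Cfg)
open Cfsg.Agent.R2.H9.E6 (pq pq_surjective)
open Cfsg.Agent.GpExc.Field (emb)
open Matrix Finset

universe u v w

section basic

variable {F : Type u} [Field F] {k : Type u} [Field k] {f : F →+* k} {s : k →+* k} {K : Type w} [Field K]
variable (φ : ProjectiveSpecialLinearGroup (Fin 2) K →* ↥(chevF4.group F))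

theorem emb_emb_fr (fr : Fr f s) (g : ↥(chevF4.group F)) : emb hF4 s (emb hF4 f g) = emb hF4 f g := by
  apply Subtype.ext
  rw [Cfsg.Agent.GpExc.Field.coe_emb, Cfsg.Agent.GpExc.Field.coe_emb]
  apply Units.ext
  ext j l
  exact fr.fix _

theorem Rk_sv (fr : Fr f s) (g : _root_.Matrix.SpecialLinearGroup (Fin 2) K) (x : I27 → k) :
    Rk f φ g (sv s x) = sv s (Rk f φ g x) := by
  have h := F4M.Jr_map s (emb hF4 f (φ (pq g))) x
  rw [emb_emb_fr fr] at h
  exact h

theorem act_Rk : Act (Rk f φ) where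
  sh := fun g x => (F4M.Rk_sh f φ g x).symm
  u0 := F4M.Rk_u0 f φ

end basic

section str

variable {k : Type u} [Field k] {K : Type w} [Field K] [Fintype K] {κ : K →+* k} {s : k →+* k}
variable {ρ : Representation k (_root_.Matrix.SpecialLinearGroup (Fin 2) K) (I27 → k)}

theorem sv_sum {ι : Type*} (A : Finset ι) (g : ι → (I27 → k)) : sv s (∑ i ∈ A, g i) = ∑ i ∈ A, sv s (g i) := by
  classical
  induction A using Finset.induction_on with
  | empty =>
    simp only [sum_empty]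
    funext i
    exact map_zero s
  | insert a A ha ih => rw [sum_insert ha, sum_insert ha, sv_add, ih]

theorem str_sv (hρ : ∀ g v, ρ g (sv s v) = sv s (ρ g v)) {n : ℕ} {v : ℕ → (I27 → k)} (h : Str κ ρ n v) :
    Str (s.comp κ) ρ n (fun a => sv s (v a)) where
  u := fun a ha t => by
    rw [hρ, h.u a ha, sv_sum]
    refine sum_congr rfl fun j _ => ?_
    rw [sv_smul, map_mul, map_natCast, map_pow]
    rfl
  h := fun a ha t => by
    rw [hρ, h.h a ha, sv_smul, map_mul, map_pow, map_pow, map_inv₀]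
    rfl
  w := fun a ha => by
    rw [hρ, h.w a ha, sv_smul, map_pow, map_neg, map_one]

theorem sv_inj {x : I27 → k} (h : sv s x = 0) : x = 0 := by
  funext i
  exact (map_eq_zero s).1 (congrFun h i)

theorem spa_ind {n : ℕ} {v : ℕ → (I27 → k)} {l : (I27 → k) →ₗ[k] k} (h : ∀ a ≤ n, l (v a) = 0) :
    ∀ w ∈ Submodule.span k {w | ∃ a, a ≤ n ∧ w = v a}, l w = 0 := by
  intro w hw
  have h1 : Submodule.span k {w | ∃ a, a ≤ n ∧ w = v a} ≤ LinearMap.ker l := by
    rw [Submodule.span_le]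
    rintro w' ⟨a, ha, rfl⟩
    exact LinearMap.mem_ker.2 (h a ha)
  exact LinearMap.mem_ker.1 (h1 hw)

/-- the span of the strings with `T X` -/
def spn (x : Fin 4 → ℕ → (I27 → k)) (T : Fin 4 → Prop) : Submodule k (I27 → k) :=
  Submodule.span k {w | ∃ X a, T X ∧ a ≤ sz X ∧ w = x X a}

theorem spn_mem {x : Fin 4 → ℕ → (I27 → k)} {T : Fin 4 → Prop} {X : Fin 4} (hX : T X) {a : ℕ} (ha : a ≤ sz X) :
    x X a ∈ spn x T := Submodule.subset_span ⟨X, a, hX, ha, rfl⟩

theorem spn_le {x : Fin 4 → ℕ → (I27 → k)} {T : Fin 4 → Prop} {Z : Submodule k (I27 → k)}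
    (h : ∀ X, T X → ∀ a ≤ sz X, x X a ∈ Z) : spn x T ≤ Z := by
  unfold spn
  rw [Submodule.span_le]
  rintro w ⟨X, a, hX, ha, rfl⟩
  exact h X hX a ha

theorem spn_ind {x : Fin 4 → ℕ → (I27 → k)} {T : Fin 4 → Prop} {l : (I27 → k) →ₗ[k] k}
    (h : ∀ X, T X → ∀ a ≤ sz X, l (x X a) = 0) : ∀ v ∈ spn x T, l v = 0 := by
  intro v hv
  exact LinearMap.mem_ker.1 (spn_le (Z := LinearMap.ker l) (fun X hX a ha => LinearMap.mem_ker.2 (h X hX a ha)) hv)

theorem spn_st {x : Fin 4 → ℕ → (I27 → k)} (hx : ∀ X, Str κ ρ (sz X) (x X)) {T : Fin 4 → Prop}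
    (g : _root_.Matrix.SpecialLinearGroup (Fin 2) K) : ∀ v ∈ spn x T, ρ g v ∈ spn x T := by
  have h1 : spn x T ≤ (spn x T).comap (ρ g) := by
    refine spn_le fun X hX a ha => ?_
    have h2 := str_stable (hx X) g (x X a) (Submodule.subset_span ⟨a, ha, rfl⟩)
    have h3 : Submodule.span k {w | ∃ a, a ≤ sz X ∧ w = x X a} ≤ spn x T := by
      rw [Submodule.span_le]
      rintro w ⟨b, hb, rfl⟩
      exact spn_mem hX hb
    exact h3 h2
  exact fun v hv => h1 hv

theorem spn_sup {x : Fin 4 → ℕ → (I27 → k)} (S : Sys κ ρ x) (T : Fin 4 → Prop) {v : I27 → k} (hv : tr1 v = 0) :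
    ∃ y ∈ spn x T, ∃ z ∈ spn x (fun X => ¬ T X), v = y + z := by
  classical
  have h1 : v ∈ spn x T ⊔ spn x (fun X => ¬ T X) := by
    refine Submodule.span_le.2 ?_ (S.span v hv)
    rintro w ⟨X, a, ha, rfl⟩
    by_cases hX : T X
    · exact Submodule.mem_sup_left (spn_mem hX ha)
    · exact Submodule.mem_sup_right (spn_mem (T := fun X => ¬ T X) hX ha)
  obtain ⟨y, hy, z, hz, e⟩ := Submodule.mem_sup.1 h1
  exact ⟨y, hy, z, hz, e.symm⟩

theorem spn_tr {x : Fin 4 → ℕ → (I27 → k)} (S : Sys κ ρ x) (T : Fin 4 → Prop) : ∀ v ∈ spn x T, tr1 v = 0 :=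
  spn_ind (l := trL k) fun X _ a ha => S.tr X a ha

/-- bilinear vanishing -/
theorem spn_tf {x : Fin 4 → ℕ → (I27 → k)} {T T' : Fin 4 → Prop}
    (h : ∀ X, T X → ∀ Y, T' Y → ∀ a ≤ sz X, ∀ b ≤ sz Y, tf (x X a) (x Y b) = 0) :
    ∀ v ∈ spn x T, ∀ w ∈ spn x T', tf v w = 0 := by
  intro v hv w hw
  refine spn_ind (l := tfL k v) (fun Y hY b hb => ?_) w hw
  rw [tfL_apply, tf_comm]
  refine spn_ind (l := tfL k (x Y b)) (fun X hX a ha => ?_) v hv
  rw [tfL_apply, tf_comm]
  exact h X hX Y hY a ha b hb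

/-- trilinear vanishing -/
theorem spn_N3 {x : Fin 4 → ℕ → (I27 → k)} {T T' T'' : Fin 4 → Prop}
    (h : ∀ X, T X → ∀ Y, T' Y → ∀ Z, T'' Z → ∀ a ≤ sz X, ∀ b ≤ sz Y, ∀ c ≤ sz Z, tf (st (x X a) (x Y b)) (x Z c) = 0) :
    ∀ v ∈ spn x T, ∀ w ∈ spn x T', ∀ z ∈ spn x T'', tf (st v w) z = 0 := by
  intro v hv w hw z hz
  refine spn_ind (l := N3 k v w) (fun Z hZ c hc => ?_) z hz
  refine spn_ind (l := (N3 k v).flip (x Z c)) (fun Y hY b hb => ?_) w hw
  rw [LinearMap.flip_apply]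
  refine spn_ind (l := ((N3 k).flip (x Y b)).flip (x Z c)) (fun X hX a ha => ?_) v hv
  rw [LinearMap.flip_apply, LinearMap.flip_apply]
  exact h X hX Y hY Z hZ a ha b hb c hc

end str

section main

variable {F : Type u} [Field F] [Fintype F] {K : Type w} [Field K] [Fintype K] {p a b : ℕ}
  {H : Subgroup ↥(chevF4.group F)} {φ : ProjectiveSpecialLinearGroup (Fin 2) K →* ↥(chevF4.group F)}
variable {k : Type u} [Field k] {f : F →+* k} [Fact p.Prime] [CharP k p] {κ : K →+* k}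

/-- **type alpha does not occur** -/
theorem no_sys (h : Cfg p a b H φ) (hp : 11 ≤ p) (hpK : p ≤ Fintype.card K) (hsq : ∀ c : k, ∃ r, r * r = c)
    {x : Fin 4 → ℕ → (I27 → k)} (S : Sys κ (Rk f φ) x) : False := by
  have hnat : ∀ n : ℕ, 0 < n → n ≤ 8 → (n : k) ≠ 0 := by
    intro n h0 h1 h
    rw [CharP.cast_eq_zero_iff k p] at h
    have := Nat.le_of_dvd h0 h
    omega
  have h2 : (2 : k) ≠ 0 := by exact_mod_cast hnat 2 (by norm_num) (by norm_num)
  have h3 : (3 : k) ≠ 0 := by exact_mod_cast hnat 3 (by norm_num) (by norm_num)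
  have hszp : ∀ X, sz X < p := fun X => by have := sz_le X; omega
  obtain ⟨s, fr, -⟩ := exists_fr f
  have hA := act_Rk (f := f) φ
  have hρ := Rk_sv φ fr
  obtain ⟨y, κ₀, Sy, A, k012, hker⟩ := S.exists_norm' hA hp hpK hsq
  clear S
  obtain ⟨k013, k113, k023, k003, k223, k333⟩ := A.c2 h2 h3 hnat k012
  obtain ⟨d001, d111, d122, d133⟩ := A.dead h2
  have hch : ∀ X : Fin 4, ∀ a ≤ sz X, ((sz X).choose a : k) ≠ 0 := fun X a ha => R2.F4N.choose_ne (p := p) (hszp X) ha
  -- values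
  have hval : ∀ X Y Z : Fin 4, kS κ₀ X Y Z = 0 → ∀ a ≤ sz X, ∀ b ≤ sz Y, ∀ c ≤ sz Z,
      tf (st (y X a) (y Y b)) (y Z c) = 0 := by
    intro X Y Z h0 a ha b hb c hc
    have h1 := A.val (x := (X, a)) (y := (Y, b)) (z := (Z, c)) ha hb hc
    simp only at h1
    rw [h0, zero_mul, st_smul_left, st_smul_right, tf_smul_left, tf_smul_left, tf_smul_right] at h1
    exact (mul_eq_zero.1 ((mul_eq_zero.1 ((mul_eq_zero.1 h1).resolve_left (hch X a ha))).resolve_left
      (hch Y b hb))).resolve_left (hch Z c hc)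
  have hform : ∀ X Y : Fin 4, X ≠ Y → ∀ a ≤ sz X, ∀ b ≤ sz Y, tf (y X a) (y Y b) = 0 := by
    intro X Y hXY a ha b hb
    have h1 := A.form (X, a) (Y, b) ha hb
    simp only at h1
    rw [tI, if_neg (fun h => hXY h.1), Int.cast_zero, tf_smul_left, tf_smul_right] at h1
    exact (mul_eq_zero.1 ((mul_eq_zero.1 h1).resolve_left (hch X a ha))).resolve_left (hch Y b hb)
  -- the pieces
  have hort : ∀ T : Fin 4 → Prop, ∀ v ∈ spn y T, ∀ w ∈ spn y (fun X => ¬ T X), tf v w = 0 := by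
    intro T
    refine spn_tf fun X hX Y hY a ha b hb => hform X Y ?_ a ha b hb
    rintro rfl
    exact hY hX
  have hmem : ∀ T : Fin 4 → Prop, ∀ v, tr1 v = 0 → (∀ w ∈ spn y (fun X => ¬ T X), tf v w = 0) → v ∈ spn y T := by
    intro T v hv h1
    exact (mem_of_orth (compl_of h3 (spn_tr Sy T) (spn_tr Sy _) (fun v hv => spn_sup Sy T hv) (hort T)) h3
      (spn_tr Sy T) (spn_tr Sy _) (hort T) hv).1 h1
  have htr : ∀ X : Fin 4, ∀ a ≤ sz X, tr1 (sv s (y X a)) = 0 := fun X a ha => by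
    rw [sv_tr, Sy.tr X a ha, map_zero]
  have hsd : ∀ X Y : Fin 4, sz X ≠ sz Y → ∀ a ≤ sz X, ∀ b ≤ sz Y, tf (sv s (y X a)) (y Y b) = 0 := by
    intro X Y hXY a ha b hb
    exact tf_diff hpK hA (str_sv hρ (Sy.str X)) (Sy.str Y) (hszp X) (hszp Y) hXY a ha b hb
  have hstr : ∀ X : Fin 4, Str (s.comp κ) (Rk f φ) (sz X) (fun a => sv s (y X a)) := fun X => str_sv hρ (Sy.str X)
  -- `y 0` and `y 1` are stable
  have s01 : ∀ X : Fin 4, (∀ Y, Y ≠ X → sz X ≠ sz Y) → ∀ a ≤ sz X, sv s (y X a) ∈ spn y (fun Z => Z = X) := by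
    intro X hX a ha
    refine hmem _ _ (htr X a ha) fun w hw => ?_
    refine spn_ind (l := tfL k (sv s (y X a))) (fun Y hY b hb => ?_) w hw
    exact hsd X Y (hX Y hY) a ha b hb
  have hspX : ∀ X : Fin 4, ∀ v ∈ spn y (fun Z => Z = X), v ∈ Submodule.span k {w | ∃ a, a ≤ sz X ∧ w = y X a} := by
    intro X v hv
    have h4 : spn y (fun Z => Z = X) ≤ Submodule.span k {w | ∃ a, a ≤ sz X ∧ w = y X a} := by
      refine spn_le fun Z hZ a ha => ?_
      subst hZ
      exact Submodule.subset_span ⟨a, ha, rfl⟩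
    exact h4 hv
  -- the span of the image of a stable string is the string
  have hback : ∀ X : Fin 4, (∀ a ≤ sz X, sv s (y X a) ∈ spn y (fun Z => Z = X)) → ∀ a ≤ sz X,
      y X a ∈ Submodule.span k {w | ∃ a, a ≤ sz X ∧ w = sv s (y X a)} := by
    intro X hX
    refine str_mem_of hpK (Sy.str X) (hszp X) (str_stable (hstr X)) (v := sv s (y X 0))
      (Submodule.subset_span ⟨0, Nat.zero_le _, rfl⟩) (fun h0 => Sy.ne X (Nat.zero_le _) (sv_inj h0))
      (hspX X _ (hX 0 (Nat.zero_le _)))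
  have sz0 : ∀ Y : Fin 4, Y ≠ 0 → sz 0 ≠ sz Y := by decide
  have sz1 : ∀ Y : Fin 4, Y ≠ 1 → sz 1 ≠ sz Y := by decide
  have sz23 : ∀ Y : Fin 4, Y ≠ 2 → Y ≠ 3 → sz 2 ≠ sz Y := by decide
  have b0 := hback 0 (s01 0 sz0)
  have b1 := hback 1 (s01 1 sz1)
  -- the product of `y 0` and `y 1` is orthogonal to the image of `y 2`
  have hk2 : ∀ i ≤ sz 0, ∀ j ≤ sz 1, ∀ c ≤ sz 2, tf (st (y 0 i) (y 1 j)) (sv s (y 2 c)) = 0 := by
    intro i hi j hj c hc
    have e1 : ∀ v ∈ Submodule.span k {w | ∃ a, a ≤ sz 0 ∧ w = sv s (y 0 a)},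
        ∀ w ∈ Submodule.span k {w | ∃ a, a ≤ sz 1 ∧ w = sv s (y 1 a)}, N3 k v w (sv s (y 2 c)) = 0 := by
      intro v hv w hw
      refine spa_ind (l := (N3 k v).flip (sv s (y 2 c))) (fun j' hj' => ?_) w hw
      rw [LinearMap.flip_apply]
      refine spa_ind (l := ((N3 k).flip (sv s (y 1 j'))).flip (sv s (y 2 c))) (fun i' hi' => ?_) v hv
      rw [LinearMap.flip_apply, LinearMap.flip_apply, N3_apply, sv_st, sv_tf, hker i' hi' j' hj' c hc, map_zero]
    exact e1 _ (b0 i hi) _ (b1 j hj)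
  -- `y 2` is stable
  have s2 : ∀ c ≤ sz 2, sv s (y 2 c) ∈ spn y (fun Z => Z = 2) := by
    intro c hc
    obtain ⟨v, hv, z, hz, e⟩ := spn_sup Sy (fun Z => Z = 2) (htr 2 c hc)
    -- `z` is in the span of `y 3`
    have hz3 : z ∈ spn y (fun Z => Z = 3) := by
      refine hmem _ _ (spn_tr Sy _ z hz) fun w hw => ?_
      have hze : z = sv s (y 2 c) - v := by rw [e]; abel
      refine spn_ind (l := tfL k z) (fun Y hY b hb => ?_) w hw
      rw [tfL_apply]
      by_cases hY2 : Y = 2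
      · subst hY2
        rw [tf_comm]
        exact hort (fun Z => Z = 2) _ (spn_mem (T := fun Z => Z = 2) rfl hb) _ hz
      · have hY01 : sz 2 ≠ sz Y := sz23 Y hY2 hY
        rw [hze, Cfsg.Agent.H952.F4.FixV.tf_sub_left, hsd 2 Y hY01 c hc b hb,
          hort (fun Z => Z = 2) v hv _ (spn_mem (T := fun Z => ¬ (Z = 2)) hY2 hb), sub_zero]
    have hz0 : z = 0 := by
      by_contra hne
      let Z : Submodule k (I27 → k) :=
        { carrier := {z | ∀ v ∈ spn y (fun Z => Z = 0), ∀ w ∈ spn y (fun Z => Z = 1), N3 k v w z = 0}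
          add_mem' := fun h h' v hv w hw => by rw [map_add, h v hv w hw, h' v hv w hw, add_zero]
          zero_mem' := fun v _ w _ => by rw [map_zero]
          smul_mem' := fun r z h v hv w hw => by rw [map_smul, h v hv w hw, smul_zero] }
      have hZ : ∀ g, ∀ v ∈ Z, Rk f φ g v ∈ Z := by
        intro g z hz v hv w hw
        have e1 : v = Rk f φ g (Rk f φ g⁻¹ v) := by
          rw [← Module.End.mul_apply, ← map_mul, mul_inv_cancel, map_one, Module.End.one_apply]
        have e2 : w = Rk f φ g (Rk f φ g⁻¹ w) := by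
          rw [← Module.End.mul_apply, ← map_mul, mul_inv_cancel, map_one, Module.End.one_apply]
        rw [e1, e2, N3_inv hA]
        exact hz _ (spn_st Sy.str _ _ hv) _ (spn_st Sy.str _ _ hw)
      have hzZ : z ∈ Z := by
        intro v' hv' w' hw'
        have hze : z = sv s (y 2 c) - v := by rw [e]; abel
        rw [hze, map_sub, sub_eq_zero]
        have t1 : N3 k v' w' v = 0 := by
          rw [N3_apply]
          refine spn_N3 (T := fun Z => Z = 0) (T' := fun Z => Z = 1) (T'' := fun Z => Z = 2) ?_ v' hv' w' hw' v hv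
          rintro X rfl Y rfl Z rfl a ha b hb c' hc'
          exact hker a ha b hb c' hc'
        have t2 : N3 k v' w' (sv s (y 2 c)) = 0 := by
          refine spn_ind (l := (N3 k v').flip (sv s (y 2 c))) (fun Y hY b hb => ?_) w' hw'
          rw [LinearMap.flip_apply]
          refine spn_ind (l := ((N3 k).flip (y Y b)).flip (sv s (y 2 c))) (fun X hX a ha => ?_) v' hv'
          rw [LinearMap.flip_apply, LinearMap.flip_apply]
          subst hX
          subst hY
          exact hk2 a ha b hb c hc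
        rw [t1, t2]
      have h5 := str_mem_of hpK (Sy.str 3) (hszp 3) hZ hzZ hne (hspX 3 z hz3) 3 (by decide)
      have h6 := h5 (y 0 0) (spn_mem (T := fun Z => Z = 0) rfl (Nat.zero_le _)) (y 1 6)
        (spn_mem (T := fun Z => Z = 1) rfl (by decide))
      rw [N3_apply] at h6
      have h7 := A.tab (0, 0) (1, 6) (3, 3) (by decide) (by decide) (by decide) (by decide) (by decide)
      simp only at h7
      rw [st_smul_left, st_smul_right, tf_smul_left, tf_smul_left, tf_smul_right, h6] at h7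
      have t4 : H1.F4.t3 (0, 0) (1, 6) (3, 3) = 1 := by decide +kernel
      rw [t4] at h7
      simp only [mul_zero, Int.cast_one, mul_one] at h7
      exact k013 h7.symm
    rw [e, hz0, add_zero]
    exact hv
  have b2 := hback 2 s2
  -- `y 3` is stable
  have s3 : ∀ c ≤ sz 3, sv s (y 3 c) ∈ spn y (fun Z => Z = 3) := by
    intro c hc
    refine hmem _ _ (htr 3 c hc) fun w hw => ?_
    refine spn_ind (l := tfL k (sv s (y 3 c))) (fun Y hY b hb => ?_) w hw
    rw [tfL_apply]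
    by_cases hY2 : Y = 2
    · subst hY2
      rw [← tfL_apply]
      refine spa_ind (l := tfL k (sv s (y 3 c))) (fun j' hj' => ?_) _ (b2 b hb)
      rw [tfL_apply, sv_tf, hform 3 2 (by decide) c hc j' hj', map_zero]
    · have hY01 : sz 3 ≠ sz Y := sz23 Y hY2 hY
      exact hsd 3 Y hY01 c hc b hb
  -- the grading
  have hsv : ∀ T : Fin 4 → Prop, ∀ v ∈ spn y T, sv s v ∈ spn y T := by
    intro T v hv
    have hall : ∀ X : Fin 4, ∀ a ≤ sz X, sv s (y X a) ∈ spn y (fun Z => Z = X) := by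
      intro X
      fin_cases X
      · exact s01 0 sz0
      · exact s01 1 sz1
      · exact s2
      · exact s3
    have hle : ∀ X, T X → spn y (fun Z => Z = X) ≤ spn y T := by
      intro X hX
      refine spn_le fun Z hZ a ha => ?_
      subst hZ
      exact spn_mem hX ha
    unfold spn at hv
    induction hv using Submodule.span_induction with
    | mem w hw =>
      obtain ⟨X, a, hX, ha, rfl⟩ := hw
      exact hle X hX (hall X a ha)
    | zero =>
      have : sv s (0 : I27 → k) = 0 := funext fun _ => map_zero s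
      rw [this]
      exact Submodule.zero_mem _
    | add w w' _ _ ih ih' =>
      rw [sv_add]
      exact Submodule.add_mem _ ih ih'
    | smul r w _ ih =>
      rw [sv_smul]
      exact Submodule.smul_mem _ _ ih
  let T : Fin 4 → Prop := fun X => X = 0 ∨ X = 2
  have hT' : ∀ X : Fin 4, ¬ T X → X = 1 ∨ X = 3 := by
    intro X hX
    have h4 : ∀ X : Fin 4, ¬ (X = 0 ∨ X = 2) → X = 1 ∨ X = 3 := by decide
    exact h4 X hX
  have hQ := no_grade h fr h2 h3 (P := spn y T) (Q := spn y (fun X => ¬ T X)) (spn_tr Sy _) (spn_tr Sy _)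
    (fun v hv => spn_sup Sy T hv) (hort T) (spn_N3 (by
      rintro X (rfl | rfl) Y (rfl | rfl) Z hZ <;> rcases hT' Z hZ with rfl | rfl <;> apply hval <;>
        simp only [kS] <;> simp only [d001, k003, k012, k023, d122, k223, _root_.Fin.isValue, _root_.Std.le_refl, ↓ _root_.reduceIte, _root_.zero_le, _root_.Fin.reduceLE, _root_.nonpos_iff_eq_zero, _root_.Fin.reduceEq])) (spn_N3 (by
      intro X hX Y hY Z hZ
      rcases hT' X hX with rfl | rfl <;> rcases hT' Y hY with rfl | rfl <;> rcases hT' Z hZ with rfl | rfl <;>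
        apply hval <;> simp only [kS] <;> simp [d111, k113, d133, k333]))
    (fun g => spn_st Sy.str g) (fun g => spn_st Sy.str g) (hsv T) (hsv _)
  have h8 : y 1 0 ∈ spn y (fun X => ¬ T X) := spn_mem (T := fun X => ¬ T X) (by
    change ¬ ((1 : Fin 4) = 0 ∨ (1 : Fin 4) = 2)
    decide) (Nat.zero_le _)
  rw [hQ, Submodule.mem_bot] at h8
  exact Sy.ne 1 (Nat.zero_le _) h8

end main

end Cfsg.Agent.R2.H1.F4
end

private theorem dce_1f62bcc11ea1 : _root_.True := by
  try have : _root_.True := by simp only [_root_.Cfsg.Agent.R2.H1.F4.kS.eq_1]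
  try have : _root_.True := by simp only [_root_.Cfsg.Agent.R2.H1.F4.tI.eq_1]
  exact _root_.True.intro
end

section
prune_inst 0xfffffbbbeffddfdfff7e3fafdefffdf3a32fffa4dff9cbffe069bf2b3f3b90c9e56fad0beab1fe0ed6c81410e87b43f9ffeeffea6bdc7ffffd5ff41ffbff8ffdf7b50951d58c340fbc0fff03f0778e6f000000000000000000000000000000000200000000

-- part: R2/H1/F4/AlphaG
section
prune_inst 0x40410022020000040502100000c58900042200430000f964090c0c46f26089002e4054a00b12122e9081600900600100001002100000000004004007000000874202a318ad0436000e802880010000000000000000000000000000051004004010000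
set_option linter.all false
open scoped Cfsg.Agent.FastGrp

/-!
# S5931: type alpha does not occur, in terms of submodules (helper1)
-/

set_option autoImplicit false
set_option linter.unusedSectionVars false

namespace Cfsg.Agent.R2.H1.F4

open Cfsg Cfsg.Lie Module Cfsg.Agent.H952.F4 Cfsg.Agent.H952.F4.Jord
open Cfsg.Agent.ChevalleyStructure.E6Min.Tables Cfsg.Agent.ChevalleyStructure.E6Min.Basic
open Cfsg.Agent.R2.F4N (Str)
open Cfsg.Agent.H952.F4.FixV (W0 mem_W0 finrank_W0 trL tfL tfL_apply tr1_sub)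
open Cfsg.Agent.R2.F4M (Jr Rk R0 Cfg)
open Cfsg.Agent.H943.RepAdd Cfsg.Agent.R2.H28.SL2
open Finset

universe u v w

section

variable {K : Type w} [Field K] [Fintype K] [DecidableEq K] {p : ℕ}
variable {k : Type u} [Field k] [DecidableEq k] [Fact p.Prime] [CharP k p] [CharP K p] {ι : K →+* k}
variable {V : Type v} [AddCommGroup V] [Module k V] {σ : Representation k (Matrix.SpecialLinearGroup (Fin 2) K) V}
variable {ρ : Representation k (Matrix.SpecialLinearGroup (Fin 2) K) (I27 → k)} {j : V →ₗ[k] (I27 → k)}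

/-- strings from submodules -/
theorem exists_str (hj : ∀ g x, j (σ g x) = ρ g (j x)) {n i : ℕ} (hn : n < p) {A : Submodule k V}
    {hA : ∀ g, ∀ x ∈ A, σ g x ∈ A} (hV : IsV ι p (subRep σ A hA) (n * p ^ i)) :
    ∃ x : ℕ → (I27 → k), Str ((iterateFrobenius k p i).comp ι) ρ n x ∧ (∀ a, ∃ y ∈ A, x a = j y) ∧
      ∀ y ∈ A, j y ∈ Submodule.span k {w | ∃ a, a ≤ n ∧ w = x a} := by
  obtain ⟨v, hv⟩ := hV.basS ι p hn
  have hκ : ∀ t : K, ((iterateFrobenius k p i).comp ι) t = ι t ^ p ^ i := fun t => by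
    rw [RingHom.comp_apply, iterateFrobenius_def]
  have hap : ∀ g (y : ↥A), ρ g (j (y : V)) = j ((subRep σ A hA g y : ↥A) : V) := fun g y => (hj g y).symm
  refine ⟨fun a => j (v a : V), ⟨?_, ?_, ?_⟩, fun a => ⟨v a, (v a).2, rfl⟩, ?_⟩
  · intro s hs t
    rw [hap, hv.u s hs t, AddSubmonoidClass.coe_finsetSum, map_sum]
    refine sum_congr rfl fun l _ => ?_
    rw [hκ, Submodule.coe_smul, map_smul]
  · intro s hs t
    rw [hap, hv.h s hs t, hκ, Submodule.coe_smul, map_smul]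
  · intro s hs
    rw [hap, hv.w s hs, Submodule.coe_smul, map_smul]
  · intro y hy
    have h1 := hv.sp (x := ⟨y, hy⟩) trivial
    have h2 : (Submodule.span k (Set.range fun s : Fin (n + 1) => v s)) ≤
        (Submodule.span k {w | ∃ a, a ≤ n ∧ w = j (v a : V)}).comap (j ∘ₗ A.subtype) := by
      rw [Submodule.span_le]
      rintro w ⟨s, rfl⟩
      exact Submodule.subset_span ⟨s, by have := s.2; omega, rfl⟩
    exact h2 h1

end

section

variable {F : Type u} [Field F] [Fintype F] {K : Type w} [Field K] [Fintype K] [DecidableEq K] {p a b : ℕ}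
  {H : Subgroup ↥(chevF4.group F)} {φ : Matrix.ProjectiveSpecialLinearGroup (Fin 2) K →* ↥(chevF4.group F)}
variable {k : Type u} [Field k] [DecidableEq k] {f : F →+* k} [Fact p.Prime] [CharP k p] [CharP K p] {ι : K →+* k}
variable {V : Type v} [AddCommGroup V] [Module k V] {σ : Representation k (Matrix.SpecialLinearGroup (Fin 2) K) V}
variable {j : V →ₗ[k] (I27 → k)}

/-- **type alpha does not occur** -/
theorem no_alpha (h : Cfg p a b H φ) (hp : 11 ≤ p) (hpK : p ≤ Fintype.card K) [IsAlgClosed k]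
    (hj : ∀ g x, j (σ g x) = Rk f φ g (j x)) (hjt : ∀ x, tr1 (j x) = 0) (hjs : ∀ y, tr1 y = 0 → ∃ x, j x = y) {r : ℕ}
    {A B M M' : Submodule k V} {hA : ∀ g, ∀ x ∈ A, σ g x ∈ A} {hB : ∀ g, ∀ x ∈ B, σ g x ∈ B}
    {hM : ∀ g, ∀ x ∈ M, σ g x ∈ M} {hM' : ∀ g, ∀ x ∈ M', σ g x ∈ M'}
    (vA : IsV ι p (subRep σ A hA) (8 * p ^ r)) (vB : IsV ι p (subRep σ B hB) (6 * p ^ r))
    (vM : IsV ι p (subRep σ M hM) (4 * p ^ r)) (vM' : IsV ι p (subRep σ M' hM') (4 * p ^ r))
    (hs : A ⊔ B ⊔ M ⊔ M' = ⊤) : False := by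
  obtain ⟨x0, s0, t0, e0⟩ := exists_str (ρ := Rk f φ) hj (by omega) vA
  obtain ⟨x1, s1, t1, e1⟩ := exists_str (ρ := Rk f φ) hj (by omega) vB
  obtain ⟨x2, s2, t2, e2⟩ := exists_str (ρ := Rk f φ) hj (by omega) vM
  obtain ⟨x3, s3, t3, e3⟩ := exists_str (ρ := Rk f φ) hj (by omega) vM'
  have hsq : ∀ c : k, ∃ r, r * r = c := by
    intro c
    obtain ⟨r, hr⟩ := IsAlgClosed.exists_pow_nat_eq c (n := 2) (by norm_num)
    exact ⟨r, by rw [← hr]; ring⟩
  refine no_sys (f := f) (x := ![x0, x1, x2, x3]) (κ := (iterateFrobenius k p r).comp ι) h hp hpK hsq ⟨?_, ?_, ?_⟩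
  · intro X
    fin_cases X
    · exact s0
    · exact s1
    · exact s2
    · exact s3
  · intro X c _
    fin_cases X
    · obtain ⟨y, _, hy⟩ := t0 c
      exact (congrArg tr1 hy).trans (hjt y)
    · obtain ⟨y, _, hy⟩ := t1 c
      exact (congrArg tr1 hy).trans (hjt y)
    · obtain ⟨y, _, hy⟩ := t2 c
      exact (congrArg tr1 hy).trans (hjt y)
    · obtain ⟨y, _, hy⟩ := t3 c
      exact (congrArg tr1 hy).trans (hjt y)
  · intro v hv
    obtain ⟨v', rfl⟩ := hjs v hv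
    have h1 : v' ∈ A ⊔ B ⊔ M ⊔ M' := by rw [hs]; trivial
    have key : ∀ (X : Fin 4) (Y : Submodule k V) (m : ℕ) (z : ℕ → (I27 → k)), m = sz X →
        z = (![x0, x1, x2, x3] : Fin 4 → ℕ → (I27 → k)) X →
        (∀ y ∈ Y, j y ∈ Submodule.span k {w | ∃ a, a ≤ m ∧ w = z a}) → ∀ y ∈ Y, j y ∈
        Submodule.span k {w | ∃ X a, a ≤ sz X ∧ w = (![x0, x1, x2, x3] : Fin 4 → ℕ → (I27 → k)) X a} := by
      rintro X Y m z rfl rfl h2 y hy
      refine Submodule.span_mono ?_ (h2 y hy)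
      rintro w ⟨c, hc, rfl⟩
      exact ⟨X, c, hc, rfl⟩
    obtain ⟨y123, hy, y3, hy3, e⟩ := Submodule.mem_sup.1 h1
    obtain ⟨y12, hy', y2, hy2, e'⟩ := Submodule.mem_sup.1 hy
    obtain ⟨y0, hy0, y1, hy1, e''⟩ := Submodule.mem_sup.1 hy'
    have e4 : j v' = j y0 + j y1 + j y2 + j y3 := by
      rw [← e, ← e', ← e'', map_add, map_add, map_add]
    rw [e4]
    exact Submodule.add_mem _ (Submodule.add_mem _ (Submodule.add_mem _ (key 0 A 8 x0 rfl rfl e0 y0 hy0)
      (key 1 B 6 x1 rfl rfl e1 y1 hy1)) (key 2 M 4 x2 rfl rfl e2 y2 hy2)) (key 3 M' 4 x3 rfl rfl e3 y3 hy3)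

end

end Cfsg.Agent.R2.H1.F4
end

-- part: R2/H1/A7/Dat2_mg
section
prune_inst 0x44010022000000040000100000c181000420000000008864050c000080600900084000200502122880012801002001100010420000000a0000000006000000000202a008a000000000000080010000000000000000000000000000010004004010000
set_option linter.all false
open scoped Cfsg.Agent.FastGrp

-- part: R2/H1/A7/Dat
section
/-!
# The data of the case `T(8) + 4 + 6`, `p = 7` (helper1, S5931)
-/

set_option autoImplicit false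
set_option linter.unusedSectionVars false

namespace Cfsg.Agent.R2.H1.A7

open Cfsg Cfsg.Lie Module Cfsg.Agent.H952.F4 Cfsg.Agent.H952.F4.Jord
open Cfsg.Agent.ChevalleyStructure.E6Min.Tables Cfsg.Agent.ChevalleyStructure.E6Min.Basic
open Cfsg.Agent.R2.F4N (Str)
open Cfsg.Agent.R2.F4L (Act)
open Cfsg.Agent.R2.H1.F4

universe u v w

/-- the span of a string -/
def spx {k : Type u} [Field k] (n : ℕ) (x : ℕ → (I27 → k)) : Submodule k (I27 → k) :=
  Submodule.span k {w | ∃ a, a ≤ n ∧ w = x a}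

/-- the data: `x` generates the isotropic `4`, `m` the nondegenerate `4`, `v` the `6` -/
structure Dat {k : Type u} [Field k] {K : Type w} [Field K] [Fintype K] (κ : K →+* k)
    (ρ : Representation k (Matrix.SpecialLinearGroup (Fin 2) K) (I27 → k)) (x m v : ℕ → (I27 → k)) : Prop where
  act : Act ρ
  sx : Str κ ρ 4 x
  sm : Str κ ρ 4 m
  sv : Str κ ρ 6 v
  tx : ∀ a ≤ 4, tr1 (x a) = 0
  tm : ∀ a ≤ 4, tr1 (m a) = 0
  tv : ∀ a ≤ 6, tr1 (v a) = 0
  x0 : x 0 ≠ 0
  xx : ∀ a ≤ 4, ∀ b ≤ 4, tf (x a) (x b) = 0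
  xm : ∀ a ≤ 4, ∀ b ≤ 4, tf (x a) (m b) = 0
  xv : ∀ a ≤ 4, ∀ b ≤ 6, tf (x a) (v b) = 0
  mv : ∀ a ≤ 4, ∀ b ≤ 6, tf (m a) (v b) = 0
  mm : tf (m 0) (m 4) ≠ 0
  vv : tf (v 0) (v 6) ≠ 0
  /-- strings of length 4 -/
  s4 : ∀ s, Str κ ρ 4 s → (∀ c ≤ 4, tr1 (s c) = 0) → ∃ α β : k, ∀ c ≤ 4, s c = α • x c + β • m c
  /-- strings of length 6 -/
  s6 : ∀ s, Str κ ρ 6 s → (∀ c ≤ 6, tr1 (s c) = 0) → ∃ γ : k, ∀ c ≤ 6, s c = γ • v c
  /-- every nonzero stable subspace of `J0` contains a string -/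
  soc : ∀ Z : Submodule k (I27 → k), (∀ g, ∀ y ∈ Z, ρ g y ∈ Z) → (∀ y ∈ Z, tr1 y = 0) → Z ≠ ⊥ →
    ∃ n, (n = 4 ∨ n = 6) ∧ ∃ s, Str κ ρ n s ∧ (∀ c ≤ n, s c ∈ Z) ∧ s 0 ≠ 0
  /-- isotropic stable subspaces -/
  iso : ∀ Z : Submodule k (I27 → k), (∀ g, ∀ y ∈ Z, ρ g y ∈ Z) → (∀ y ∈ Z, tr1 y = 0) →
    (∀ y ∈ Z, ∀ z ∈ Z, tf y z = 0) → Z ≤ spx 4 x
  fix : ∀ y, tr1 y = 0 → (∀ g, ρ g y = y) → y = 0
  wh : ∃ a ≤ 4, ∃ b ≤ 4, st (x a) (x b) ≠ 0

end Cfsg.Agent.R2.H1.A7
end

-- part: R2/H1/A7/Hess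
section
/-!
# The Hessian of a string of length 4 (helper1, S5931)

`hs x` is a string of length 4, `hq x` is fixed.
-/

set_option autoImplicit false
set_option linter.unusedSectionVars false
set_option linter.unusedSimpArgs false

namespace Cfsg.Agent.R2.H1.A7

open Cfsg Cfsg.Lie Module Cfsg.Agent.H952.F4 Cfsg.Agent.H952.F4.Jord
open Cfsg.Agent.ChevalleyStructure.E6Min.Tables Cfsg.Agent.ChevalleyStructure.E6Min.Basic
open Cfsg.Agent.R2.F4N (Str)
open Cfsg.Agent.R2.F4L (Act)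
open Cfsg.Agent.R2.H1.F4
open Finset

universe u v w

section expl

variable {k : Type u} [Field k] {K : Type w} [Field K] {κ : K →+* k} {W : Type v} [AddCommGroup W] [Module k W]
variable {ρ : Representation k (Matrix.SpecialLinearGroup (Fin 2) K) W} {x : ℕ → W}

theorem s4u0 (h : Str κ ρ 4 x) (t : K) : ρ (Cfsg.Agent.H943.SL2Rel.u t) (x 0) =
    x 0 + (4 * κ t) • x 1 + (6 * κ t ^ 2) • x 2 + (4 * κ t ^ 3) • x 3 + κ t ^ 4 • x 4 := by
  rw [h.u 0 (by norm_num) t]
  simp [sum_range_succ, Nat.choose]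

theorem s4u1 (h : Str κ ρ 4 x) (t : K) : ρ (Cfsg.Agent.H943.SL2Rel.u t) (x 1) =
    x 1 + (3 * κ t) • x 2 + (3 * κ t ^ 2) • x 3 + (κ t ^ 3) • x 4 := by
  rw [h.u 1 (by norm_num) t]
  simp [sum_range_succ, Nat.choose]

theorem s4u2 (h : Str κ ρ 4 x) (t : K) : ρ (Cfsg.Agent.H943.SL2Rel.u t) (x 2) =
    x 2 + (2 * κ t) • x 3 + (κ t ^ 2) • x 4 := by
  rw [h.u 2 (by norm_num) t]
  simp [sum_range_succ, Nat.choose]

theorem s4u3 (h : Str κ ρ 4 x) (t : K) : ρ (Cfsg.Agent.H943.SL2Rel.u t) (x 3) = x 3 + κ t • x 4 := by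
  rw [h.u 3 (by norm_num) t]
  simp [sum_range_succ, Nat.choose]

theorem s4u4 (h : Str κ ρ 4 x) (t : K) : ρ (Cfsg.Agent.H943.SL2Rel.u t) (x 4) = x 4 := by
  rw [h.u 4 (by norm_num) t]
  simp [sum_range_succ, Nat.choose]

theorem str_of4 {y : ℕ → W} (h0 : ∀ t : K, ρ (Cfsg.Agent.H943.SL2Rel.u t) (y 0) =
      y 0 + (4 * κ t) • y 1 + (6 * κ t ^ 2) • y 2 + (4 * κ t ^ 3) • y 3 + κ t ^ 4 • y 4)
    (h1 : ∀ t : K, ρ (Cfsg.Agent.H943.SL2Rel.u t) (y 1) =
      y 1 + (3 * κ t) • y 2 + (3 * κ t ^ 2) • y 3 + (κ t ^ 3) • y 4)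
    (h2 : ∀ t : K, ρ (Cfsg.Agent.H943.SL2Rel.u t) (y 2) = y 2 + (2 * κ t) • y 3 + (κ t ^ 2) • y 4)
    (h3 : ∀ t : K, ρ (Cfsg.Agent.H943.SL2Rel.u t) (y 3) = y 3 + κ t • y 4)
    (h4 : ∀ t : K, ρ (Cfsg.Agent.H943.SL2Rel.u t) (y 4) = y 4)
    (hh : ∀ s ≤ 4, ∀ a : Kˣ, ρ (Cfsg.Agent.H943.SL2Rel.h a) (y s) = (κ a ^ s * ((κ a)⁻¹) ^ (4 - s)) • y s)
    (hw : ∀ s ≤ 4, ρ Cfsg.Agent.H943.SL2Rel.w (y s) = (-1 : k) ^ s • y (4 - s)) : Str κ ρ 4 y where
  u := by
    intro s hs t
    interval_cases s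
    · rw [h0]; simp [sum_range_succ, Nat.choose]
    · rw [h1]; simp [sum_range_succ, Nat.choose]
    · rw [h2]; simp [sum_range_succ, Nat.choose]
    · rw [h3]; simp [sum_range_succ, Nat.choose]
    · rw [h4]; simp [sum_range_succ, Nat.choose]
  h := hh
  w := hw

end expl

section hess

variable {k : Type u} [Field k] {K : Type w} [Field K] {κ : K →+* k}
variable {ρ : Representation k (Matrix.SpecialLinearGroup (Fin 2) K) (I27 → k)} {x : ℕ → (I27 → k)}

/-- the Hessian -/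
noncomputable def hs (x : ℕ → (I27 → k)) : ℕ → (I27 → k)
  | 0 => (12 : k) • st (x 0) (x 2) - (12 : k) • st (x 1) (x 1)
  | 1 => (6 : k) • st (x 0) (x 3) - (6 : k) • st (x 1) (x 2)
  | 2 => (2 : k) • st (x 0) (x 4) + (4 : k) • st (x 1) (x 3) - (6 : k) • st (x 2) (x 2)
  | 3 => (6 : k) • st (x 1) (x 4) - (6 : k) • st (x 2) (x 3)
  | _ => (12 : k) • st (x 2) (x 4) - (12 : k) • st (x 3) (x 3)

/-- the invariant -/
noncomputable def hq (x : ℕ → (I27 → k)) : I27 → k :=
  st (x 0) (x 4) - (4 : k) • st (x 1) (x 3) + (3 : k) • st (x 2) (x 2)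

theorem hs_str (H : Act ρ) (h : Str κ ρ 4 x) : Str κ ρ 4 (hs x) := by
  have c10 := st_comm (x 1) (x 0)
  have c20 := st_comm (x 2) (x 0)
  have c30 := st_comm (x 3) (x 0)
  have c40 := st_comm (x 4) (x 0)
  have c21 := st_comm (x 2) (x 1)
  have c31 := st_comm (x 3) (x 1)
  have c41 := st_comm (x 4) (x 1)
  have c32 := st_comm (x 3) (x 2)
  have c42 := st_comm (x 4) (x 2)
  have c43 := st_comm (x 4) (x 3)
  refine str_of4 ?_ ?_ ?_ ?_ ?_ ?_ ?_
  · intro t
    simp only [hs, map_sub, map_add, map_smul, ← st_inv H, s4u0 h, s4u1 h, s4u2 h, s4u3 h, s4u4 h, st_add_left, st_add_right,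
      st_smul_left, st_smul_right, c10, c20, c30, c40, c21, c31, c41, c32, c42, c43]
    module
  · intro t
    simp only [hs, map_sub, map_add, map_smul, ← st_inv H, s4u0 h, s4u1 h, s4u2 h, s4u3 h, s4u4 h, st_add_left, st_add_right,
      st_smul_left, st_smul_right, c10, c20, c30, c40, c21, c31, c41, c32, c42, c43]
    module
  · intro t
    simp only [hs, map_sub, map_add, map_smul, ← st_inv H, s4u0 h, s4u1 h, s4u2 h, s4u3 h, s4u4 h, st_add_left, st_add_right,
      st_smul_left, st_smul_right, c10, c20, c30, c40, c21, c31, c41, c32, c42, c43]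
    module
  · intro t
    simp only [hs, map_sub, map_add, map_smul, ← st_inv H, s4u0 h, s4u1 h, s4u2 h, s4u3 h, s4u4 h, st_add_left, st_add_right,
      st_smul_left, st_smul_right, c10, c20, c30, c40, c21, c31, c41, c32, c42, c43]
    module
  · intro t
    simp only [hs, map_sub, map_add, map_smul, ← st_inv H, s4u0 h, s4u1 h, s4u2 h, s4u3 h, s4u4 h, st_add_left, st_add_right,
      st_smul_left, st_smul_right, c10, c20, c30, c40, c21, c31, c41, c32, c42, c43]
    module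
  · intro s hs' t
    have ht : κ t ≠ 0 := (map_ne_zero κ).2 t.ne_zero
    have key : ∀ a ≤ 4, ∀ b ≤ 4, ∀ n : ℕ, n + 2 = a + b → n ≤ 4 → ρ (Cfsg.Agent.H943.SL2Rel.h t) (st (x a) (x b)) =
        (κ t ^ n * ((κ t)⁻¹) ^ (4 - n)) • st (x a) (x b) := by
      intro a ha b hb n hn hn4
      rw [← st_inv H, h.h a ha, h.h b hb, st_smul_left, st_smul_right, smul_smul]
      congr 1
      have e : κ t ^ a * (κ t)⁻¹ ^ (4 - a) * (κ t ^ b * (κ t)⁻¹ ^ (4 - b)) =
          κ t ^ (a + b) * (κ t)⁻¹ ^ (8 - (a + b)) := by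
        have e1 : 8 - (a + b) = (4 - a) + (4 - b) := by omega
        rw [e1, pow_add, pow_add]
        ring
      have e2 : 8 - (a + b) = (4 - n) + 2 := by omega
      rw [e, e2, ← hn, pow_add, pow_add, inv_pow, inv_pow]
      field_simp
    interval_cases s
    · simp only [hs, map_sub, map_add, map_smul]
      rw [key 0 (by norm_num) 2 (by norm_num) 0 (by norm_num) (by norm_num),
        key 1 (by norm_num) 1 (by norm_num) 0 (by norm_num) (by norm_num)]
      module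
    · simp only [hs, map_sub, map_add, map_smul]
      rw [key 0 (by norm_num) 3 (by norm_num) 1 (by norm_num) (by norm_num),
        key 1 (by norm_num) 2 (by norm_num) 1 (by norm_num) (by norm_num)]
      module
    · simp only [hs, map_sub, map_add, map_smul]
      rw [key 0 (by norm_num) 4 (by norm_num) 2 (by norm_num) (by norm_num),
        key 1 (by norm_num) 3 (by norm_num) 2 (by norm_num) (by norm_num),
        key 2 (by norm_num) 2 (by norm_num) 2 (by norm_num) (by norm_num)]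
      module
    · simp only [hs, map_sub, map_add, map_smul]
      rw [key 1 (by norm_num) 4 (by norm_num) 3 (by norm_num) (by norm_num),
        key 2 (by norm_num) 3 (by norm_num) 3 (by norm_num) (by norm_num)]
      module
    · simp only [hs, map_sub, map_add, map_smul]
      rw [key 2 (by norm_num) 4 (by norm_num) 4 (by norm_num) (by norm_num),
        key 3 (by norm_num) 3 (by norm_num) 4 (by norm_num) (by norm_num)]
      module
  · intro s hs'
    have key : ∀ a ≤ 4, ∀ b ≤ 4, ρ (Cfsg.Agent.H943.SL2Rel.w) (st (x a) (x b)) =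
        (-1 : k) ^ (a + b) • st (x (4 - a)) (x (4 - b)) := by
      intro a ha b hb
      rw [← st_inv H, h.w a ha, h.w b hb, st_smul_left, st_smul_right, smul_smul, pow_add]
    have k1 := key 0 (by norm_num) 2 (by norm_num)
    have k2 := key 1 (by norm_num) 1 (by norm_num)
    have k3 := key 0 (by norm_num) 3 (by norm_num)
    have k4 := key 1 (by norm_num) 2 (by norm_num)
    have k5 := key 0 (by norm_num) 4 (by norm_num)
    have k6 := key 1 (by norm_num) 3 (by norm_num)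
    have k7 := key 2 (by norm_num) 2 (by norm_num)
    have k8 := key 1 (by norm_num) 4 (by norm_num)
    have k9 := key 2 (by norm_num) 3 (by norm_num)
    have k10 := key 2 (by norm_num) 4 (by norm_num)
    have k11 := key 3 (by norm_num) 3 (by norm_num)
    norm_num at k1 k2 k3 k4 k5 k6 k7 k8 k9 k10 k11
    interval_cases s
    · rw [Nat.sub_zero, pow_zero, one_smul]
      simp only [hs, map_sub, map_add, map_smul, k1, k2, c42]
    · simp only [hs, map_sub, map_add, map_smul, k3, k4, c41, c32]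
      module
    · simp only [hs, map_sub, map_add, map_smul, k5, k6, k7, c40, c31]
      module
    · simp only [hs, map_sub, map_add, map_smul, k8, k9, c30, c21]
      module
    · simp only [hs, map_sub, map_add, map_smul, k10, k11, c20]
      module

theorem hq_fix (H : Act ρ) (h : Str κ ρ 4 x) (g : Matrix.SpecialLinearGroup (Fin 2) K) : ρ g (hq x) = hq x := by
  classical
  have c10 := st_comm (x 1) (x 0)
  have c20 := st_comm (x 2) (x 0)
  have c30 := st_comm (x 3) (x 0)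
  have c40 := st_comm (x 4) (x 0)
  have c21 := st_comm (x 2) (x 1)
  have c31 := st_comm (x 3) (x 1)
  have c41 := st_comm (x 4) (x 1)
  have c32 := st_comm (x 3) (x 2)
  have c42 := st_comm (x 4) (x 2)
  have c43 := st_comm (x 4) (x 3)
  refine Cfsg.Agent.H943.SL2Rel.induct (P := fun g => ρ g (hq x) = hq x) ?_ ?_ ?_ ?_ g
  · intro t
    simp only [hq, map_sub, map_add, map_smul, ← st_inv H, s4u0 h, s4u1 h, s4u2 h, s4u3 h, s4u4 h, st_add_left, st_add_right,
      st_smul_left, st_smul_right, c10, c20, c30, c40, c21, c31, c41, c32, c42, c43]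
    module
  · intro t
    have ht : κ t ≠ 0 := (map_ne_zero κ).2 t.ne_zero
    have key : ∀ a ≤ 4, ∀ b ≤ 4, a + b = 4 → ρ (Cfsg.Agent.H943.SL2Rel.h t) (st (x a) (x b)) = st (x a) (x b) := by
      intro a ha b hb hab
      rw [← st_inv H, h.h a ha, h.h b hb, st_smul_left, st_smul_right, smul_smul]
      have e : κ t ^ a * (κ t)⁻¹ ^ (4 - a) * (κ t ^ b * (κ t)⁻¹ ^ (4 - b)) = 1 := by
        have e1 : κ t ^ a * (κ t)⁻¹ ^ (4 - a) * (κ t ^ b * (κ t)⁻¹ ^ (4 - b)) =
          κ t ^ (a + b) * (κ t)⁻¹ ^ ((4 - a) + (4 - b)) := by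
          rw [pow_add, pow_add]
          ring
        rw [e1, hab, (by omega : (4 - a) + (4 - b) = 4), ← mul_pow, mul_inv_cancel₀ ht, one_pow]
      rw [e, one_smul]
    simp only [hq, map_sub, map_add, map_smul]
    rw [key 0 (by norm_num) 4 (by norm_num) (by norm_num), key 1 (by norm_num) 3 (by norm_num) (by norm_num),
      key 2 (by norm_num) 2 (by norm_num) (by norm_num)]
  · have key : ∀ a ≤ 4, ∀ b ≤ 4, ρ (Cfsg.Agent.H943.SL2Rel.w) (st (x a) (x b)) =
        (-1 : k) ^ (a + b) • st (x (4 - a)) (x (4 - b)) := by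
      intro a ha b hb
      rw [← st_inv H, h.w a ha, h.w b hb, st_smul_left, st_smul_right, smul_smul, pow_add]
    have k5 := key 0 (by norm_num) 4 (by norm_num)
    have k6 := key 1 (by norm_num) 3 (by norm_num)
    have k7 := key 2 (by norm_num) 2 (by norm_num)
    norm_num at k5 k6 k7
    simp only [hq, map_sub, map_add, map_smul, k5, k6, k7, c40, c31]
  · intro g g' e e'
    rw [map_mul, Module.End.mul_apply, e', e]

end hess

end Cfsg.Agent.R2.H1.A7
end

-- part: R2/H1/A7/Base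
section
/-!
# Preliminaries for `p = 7` (helper1, S5931)
-/

set_option autoImplicit false
set_option linter.unusedSectionVars false
set_option linter.unusedSimpArgs false

namespace Cfsg.Agent.R2.H1.A7

open Cfsg Cfsg.Lie Module Cfsg.Agent.H952.F4 Cfsg.Agent.H952.F4.Jord
open Cfsg.Agent.ChevalleyStructure.E6Min.Tables Cfsg.Agent.ChevalleyStructure.E6Min.Basic
open Cfsg.Agent.R2.F4N (Str)
open Cfsg.Agent.R2.F4L (Act)
open Cfsg.Agent.H952.F4.FixV (W0 mem_W0 finrank_W0 trL tfL tfL_apply tr1_sub tf_sub_left tf_sub_right)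
open Cfsg.Agent.R2.H1.F4
open Finset

universe u v w

section nz

variable (k : Type u) [Field k] [CharP k 7]

theorem nz (n : ℕ) (h : n % 7 ≠ 0) : (n : k) ≠ 0 := by
  intro h1
  rw [CharP.cast_eq_zero_iff k 7] at h1
  omega

theorem n2 : (2 : k) ≠ 0 := by exact_mod_cast nz k 2 (by norm_num)
theorem n3 : (3 : k) ≠ 0 := by exact_mod_cast nz k 3 (by norm_num)
theorem n4 : (4 : k) ≠ 0 := by exact_mod_cast nz k 4 (by norm_num)
theorem n5 : (5 : k) ≠ 0 := by exact_mod_cast nz k 5 (by norm_num)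
theorem n6 : (6 : k) ≠ 0 := by exact_mod_cast nz k 6 (by norm_num)
theorem n12 : (12 : k) ≠ 0 := by exact_mod_cast nz k 12 (by norm_num)

theorem sv7 : (7 : k) = 0 := by
  have := CharP.cast_eq_zero k 7
  exact_mod_cast this

end nz

section li

variable {k : Type u} [Field k] {K : Type w} [Field K] [Fintype K] {κ : K →+* k} {W : Type v} [AddCommGroup W] [Module k W]
variable {ρ : Representation k (Matrix.SpecialLinearGroup (Fin 2) K) W}

/-- a nonzero string is linearly independent -/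
theorem str_li {n : ℕ} {x : ℕ → W} (hx : Str κ ρ n x) (hn : n < Fintype.card K) (h0 : x 0 ≠ 0) {c : ℕ → k}
    (h : ∑ a ∈ range (n + 1), c a • x a = 0) : ∀ a ≤ n, c a = 0 := by
  intro a ha
  by_contra hc
  have h1 := str_top_mem hx hn (S := ⊥) (fun g v hv => by
    rw [Submodule.mem_bot] at hv ⊢
    rw [hv, map_zero]) (c := c) (by rw [h]; exact Submodule.zero_mem _) ha hc
  rw [Submodule.mem_bot] at h1
  have h2 := hx.w 0 (Nat.zero_le _)
  rw [Nat.sub_zero, h1, smul_zero] at h2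
  apply h0
  have h3 := congrArg (ρ (Cfsg.Agent.H943.SL2Rel.w)⁻¹) h2
  rwa [map_zero, ← Module.End.mul_apply, ← map_mul, inv_mul_cancel, map_one, Module.End.one_apply] at h3

/-- coordinates in the span -/
theorem spx_coord {n : ℕ} {x : ℕ → W} {w : W} (hw : w ∈ Submodule.span k {w | ∃ a, a ≤ n ∧ w = x a}) :
    ∃ c : ℕ → k, w = ∑ a ∈ range (n + 1), c a • x a := by
  induction hw using Submodule.span_induction with
  | mem w hw =>
    obtain ⟨b, hb, rfl⟩ := hw
    refine ⟨fun a => if a = b then 1 else 0, ?_⟩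
    rw [sum_eq_single b]
    · simp only [if_true, one_smul]
    · intro a _ hne
      simp only [if_neg hne, zero_smul]
    · intro h
      exact absurd (mem_range.2 (by omega)) h
  | zero => exact ⟨fun _ => 0, by simp⟩
  | add w w' _ _ ih ih' =>
    obtain ⟨c, hc⟩ := ih
    obtain ⟨c', hc'⟩ := ih'
    refine ⟨fun a => c a + c' a, ?_⟩
    rw [hc, hc', ← sum_add_distrib]
    exact sum_congr rfl fun a _ => (add_smul _ _ _).symm
  | smul r w _ ih =>
    obtain ⟨c, hc⟩ := ih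
    refine ⟨fun a => r * c a, ?_⟩
    rw [hc, smul_sum]
    exact sum_congr rfl fun a _ => smul_smul _ _ _

end li

section tab

variable {k : Type u} [Field k] {K : Type w} [Field K] [Fintype K] {κ : K →+* k}
variable {ρ : Representation k (Matrix.SpecialLinearGroup (Fin 2) K) (I27 → k)}
variable [Fact (Nat.Prime 7)] [CharP k 7] (hK : 7 ≤ Fintype.card K)

include hK

private noncomputable def _root_.Cfsg.Agent.LsF.fae4774_0 : {f // @Nat.choose = f} := ⟨_, by first | (delta Nat.choose Nat.brecOn.go Nat.brecOn Nat.choose._f; rewrite [Cfsg.Agent.LsF.nadd_pat]; (try delta Nat.choose.match_1); (try delta Nat.casesOn); first | dsimp -zeta only | exact rfl) | exact rfl⟩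
private noncomputable def _root_.Cfsg.Agent.LsF.fae4774_1 : {f // @Cfsg.Agent.R2.H1.F4.tau = f} := ⟨_, by first | (delta Cfsg.Agent.R2.H1.F4.tau; rewrite [Cfsg.Agent.LsF.fae4774_0.2, Cfsg.Agent.LsF.nadd_pat, Cfsg.Agent.LsF.nsub_pat, Cfsg.Agent.LsF.imul_pat, Cfsg.Agent.LsF.ineg_pat, Cfsg.Agent.LsF.icast_pat, Cfsg.Agent.LsF.fsum_eq, Cfsg.Agent.LsF.frange_eq, Cfsg.Agent.LsF.iACM_eq, Cfsg.Agent.LsF.instDecEq_eq, Cfsg.Agent.LsF.decLe_eq, Cfsg.Agent.LsF.dAnd_eq, Cfsg.Agent.LsF.ite_eq]; exact rfl) | exact rfl⟩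
private noncomputable def _root_.Cfsg.Agent.LsF.fae4774_2 : {f // @Cfsg.Agent.R2.H1.F4.tauOK = f} := ⟨_, by first | (delta Cfsg.Agent.R2.H1.F4.tauOK; rewrite [Cfsg.Agent.LsF.fae4774_1.2, Cfsg.Agent.LsF.nadd_pat, Cfsg.Agent.LsF.nsub_pat, Cfsg.Agent.LsF.nbeq_pat, Cfsg.Agent.LsF.iadd_pat, Cfsg.Agent.LsF.imul_pat, Cfsg.Agent.LsF.ineg_pat, Cfsg.Agent.LsF.icast_pat, Cfsg.Agent.LsF.and_eq, Cfsg.Agent.LsF.or_eq, Cfsg.Agent.LsF.not_eq, Cfsg.Agent.LsF.all_eq, Cfsg.Agent.LsF.range_eq, Cfsg.Agent.LsF.instIDecEq_eq, Cfsg.Agent.LsF.decide_eq]; exact rfl) | exact rfl⟩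
theorem tab222 (H : Act ρ) {x y z : ℕ → (I27 → k)} (hx : Str κ ρ 4 x) (hy : Str κ ρ 4 y) (hz : Str κ ρ 4 z) :
    ∃ c₀ : k, ∀ a b c, ((4 : ℕ).choose a : k) * (((4 : ℕ).choose b : k) * (((4 : ℕ).choose c : k) *
      tf (st (x a) (y b)) (z c))) = c₀ * (tau 2 2 2 a b c : k) :=
  str_tab (N := N3 k) (N3_inv H) (p := 7) (A := 2) (B := 2) (C := 2) hx hy hz hK (by norm_num) (by norm_num) (by norm_num)
    (by omega) (by ((try (rewrite [Cfsg.Agent.LsF.fae4774_2.2])); decide +kernel)) (by decide +kernel)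

theorem tab133 (H : Act ρ) {x y z : ℕ → (I27 → k)} (hx : Str κ ρ 4 x) (hy : Str κ ρ 4 y) (hz : Str κ ρ 6 z) :
    ∃ c₀ : k, ∀ a b c, ((4 : ℕ).choose a : k) * (((4 : ℕ).choose b : k) * (((6 : ℕ).choose c : k) *
      tf (st (x a) (y b)) (z c))) = c₀ * (tau 1 3 3 a b c : k) :=
  str_tab (N := N3 k) (N3_inv H) (p := 7) (A := 1) (B := 3) (C := 3) hx hy hz hK (by norm_num) (by norm_num) (by norm_num)
    (by omega) (by ((try (rewrite [Cfsg.Agent.LsF.fae4774_2.2])); decide +kernel)) (by decide +kernel)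

theorem tab224 (H : Act ρ) {x y z : ℕ → (I27 → k)} (hx : Str κ ρ 4 x) (hy : Str κ ρ 6 y) (hz : Str κ ρ 6 z) :
    ∃ c₀ : k, ∀ a b c, ((4 : ℕ).choose a : k) * (((6 : ℕ).choose b : k) * (((6 : ℕ).choose c : k) *
      tf (st (x a) (y b)) (z c))) = c₀ * (tau 2 2 4 a b c : k) :=
  str_tab (N := N3 k) (N3_inv H) (p := 7) (A := 2) (B := 2) (C := 4) hx hy hz hK (by norm_num) (by norm_num) (by norm_num)
    (by omega) (by ((try (rewrite [Cfsg.Agent.LsF.fae4774_2.2])); decide +kernel)) (by decide +kernel)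

/-- `T(y * y, z) = 0` for `y` of length 4, `z` of length 6 -/
theorem tab_anti133 (H : Act ρ) {y z : ℕ → (I27 → k)} (hy : Str κ ρ 4 y) (hz : Str κ ρ 6 z) {a b c : ℕ} (ha : a ≤ 4) (hb : b ≤ 4)
    (hc : c ≤ 6) : tf (st (y a) (y b)) (z c) = 0 := by
  obtain ⟨c₀, h⟩ := tab133 hK H hy hy hz
  have h0 : c₀ = 0 := by
    have h1 := h 0 1 6
    have h2 := h 1 0 6
    rw [st_comm (y 1)] at h2
    have t1 : tau 1 3 3 0 1 6 = -1 := by decide +kernel
    have t2 : tau 1 3 3 1 0 6 = 1 := by decide +kernel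
    rw [t1] at h1
    rw [t2] at h2
    norm_num [Nat.choose] at h1 h2
    have h3 : (2 : k) * c₀ = 0 := by linear_combination h1 - h2
    exact (mul_eq_zero.1 h3).resolve_left (n2 k)
  have h1 := h a b c
  rw [h0, zero_mul] at h1
  have e1 : ((4 : ℕ).choose a : k) ≠ 0 := R2.F4N.choose_ne (p := 7) (by norm_num) ha
  have e2 : ((4 : ℕ).choose b : k) ≠ 0 := R2.F4N.choose_ne (p := 7) (by norm_num) hb
  have e3 : ((6 : ℕ).choose c : k) ≠ 0 := R2.F4N.choose_ne (p := 7) (by norm_num) hc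
  exact (((mul_eq_zero.1 h1).resolve_left e1 |> mul_eq_zero.1).resolve_left e2 |> mul_eq_zero.1).resolve_left e3

end tab

end Cfsg.Agent.R2.H1.A7
end

-- part: R2/H1/A7/Dat2
section
/-!
# The normalised data, `p = 7` (helper1, S5931)
-/

set_option autoImplicit false
set_option linter.unusedSectionVars false

namespace Cfsg.Agent.R2.H1.A7

open Cfsg Cfsg.Lie Module Cfsg.Agent.H952.F4 Cfsg.Agent.H952.F4.Jord
open Cfsg.Agent.ChevalleyStructure.E6Min.Tables Cfsg.Agent.ChevalleyStructure.E6Min.Basic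
open Cfsg.Agent.R2.F4N (Str)
open Cfsg.Agent.R2.F4L (Act)
open Cfsg.Agent.R2.H1.F4

universe u v w

/-- the normalised data -/
structure Dat2 {k : Type u} [Field k] {K : Type w} [Field K] [Fintype K] (κ : K →+* k)
    (ρ : Representation k (Matrix.SpecialLinearGroup (Fin 2) K) (I27 → k)) (x m v : ℕ → (I27 → k)) : Prop
    extends Dat κ ρ x m v where
  m1 : tf (m 0) (m 4) = 1
  v1 : tf (v 0) (v 6) = 1
  xxm : ∀ a ≤ 4, ∀ b ≤ 4, ∀ c ≤ 4, tf (st (x a) (x b)) (m c) = 0
  xxv : ∀ a ≤ 4, ∀ b ≤ 4, ∀ c ≤ 6, tf (st (x a) (x b)) (v c) = 0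
  c1 : tf (st (x 2) (x 2)) (x 2) ≠ 0
  f4 : ∀ a ≤ 4, ∀ b ≤ 4, ∀ c ≤ 4, ∀ d ≤ 4, tf (st (x a) (st (x b) (x c))) (m d) = 0
  f6 : ∀ a ≤ 4, ∀ b ≤ 4, ∀ c ≤ 4, ∀ d ≤ 6, tf (st (x a) (st (x b) (x c))) (v d) = 0
  /-- the orthogonal complement of the products `x * x` is spanned by `m` and `v` -/
  udec : ∀ w, tr1 w = 0 → (∀ a ≤ 4, ∀ b ≤ 4, tf w (st (x a) (x b)) = 0) →
    w = ∑ a ∈ Finset.range 5, ((-1) ^ a * (((4 : ℕ).choose a : ℕ) : k) * tf w (m (4 - a))) • m a +
      ∑ a ∈ Finset.range 7, ((-1) ^ a * (((6 : ℕ).choose a : ℕ) : k) * tf w (v (6 - a))) • v a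

end Cfsg.Agent.R2.H1.A7
end

-- part: R2/H1/A7/Unit
section
/-!
# Unit propagation for linear systems in characteristic `p` (helper1, S5931)

A row is a list of pairs `(i, c)`, meaning `∑ c φ(i) = 0`. `prg p rows K` : the indices (a bit mask) which are known to be
zero if those of `K` are.
-/

set_option autoImplicit false

namespace Cfsg.Agent.R2.H1.A7

universe u

/-- add an entry to a row -/
def add1 : List (ℕ × ℤ) → ℕ × ℤ → List (ℕ × ℤ)
  | [], e => [e]
  | f :: l, e => if f.1 = e.1 then (f.1, f.2 + e.2) :: l else f :: add1 l e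

/-- collect the entries -/
def mrg (l : List (ℕ × ℤ)) : List (ℕ × ℤ) := l.foldl add1 []

/-- drop the known and the zero entries -/
def redK (p K : ℕ) (l : List (ℕ × ℤ)) : List (ℕ × ℤ) := l.filter fun e => !(K.testBit e.1) && !(e.2 % (p : ℤ) == 0)

/-- one step -/
def stp (p K : ℕ) (l : List (ℕ × ℤ)) : ℕ :=
  match redK p K (mrg l) with
  | [e] => K ||| (1 <<< e.1)
  | _ => K

/-- propagation -/
def prg (p : ℕ) (rows : List (List (ℕ × ℤ))) (K : ℕ) : ℕ := rows.foldl (stp p) K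

variable {k : Type u} [Field k] (φ : ℕ → k)

/-- the value of a row -/
def ev (l : List (ℕ × ℤ)) : k := (l.map fun e => (e.2 : k) * φ e.1).sum

theorem ev_nil : ev φ [] = 0 := rfl

theorem ev_cons (e : ℕ × ℤ) (l : List (ℕ × ℤ)) : ev φ (e :: l) = (e.2 : k) * φ e.1 + ev φ l := rfl

theorem ev_single (e : ℕ × ℤ) : ev φ [e] = (e.2 : k) * φ e.1 := by rw [ev_cons, ev_nil, add_zero]

theorem ev_append (l l' : List (ℕ × ℤ)) : ev φ (l ++ l') = ev φ l + ev φ l' := by
  unfold ev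
  rw [List.map_append, List.sum_append]

theorem ev_flat (m : ℕ) (f : ℕ → List (ℕ × ℤ)) :
    ev φ ((List.range m).flatMap f) = ∑ i ∈ Finset.range m, ev φ (f i) := by
  induction m with
  | zero => rfl
  | succ m ih =>
    rw [List.range_succ, List.flatMap_append, ev_append, ih, Finset.sum_range_succ]
    congr 1
    rw [List.flatMap_cons, List.flatMap_nil, List.append_nil]

theorem ev_add1 (l : List (ℕ × ℤ)) (e : ℕ × ℤ) : ev φ (add1 l e) = ev φ l + (e.2 : k) * φ e.1 := by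
  induction l with
  | nil => rw [add1, ev_single, ev_nil, zero_add]
  | cons f l ih =>
    rw [add1]
    split_ifs with h
    · rw [ev_cons, ev_cons, ← h]
      push_cast
      ring
    · rw [ev_cons, ev_cons, ih]
      ring

theorem ev_mrg (l : List (ℕ × ℤ)) : ev φ (mrg l) = ev φ l := by
  have key : ∀ l' : List (ℕ × ℤ), ev φ (l.foldl add1 l') = ev φ l' + ev φ l := by
    induction l with
    | nil => intro l'; rw [List.foldl_nil, ev_nil, add_zero]
    | cons e l ih =>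
      intro l'
      rw [List.foldl_cons, ih, ev_add1, ev_cons]
      ring
  unfold mrg
  rw [key, ev_nil, zero_add]

variable {p : ℕ} [CharP k p]

theorem ev_redK {K : ℕ} (hK : ∀ i, K.testBit i = true → φ i = 0) (l : List (ℕ × ℤ)) : ev φ (redK p K l) = ev φ l := by
  induction l with
  | nil => rfl
  | cons e l ih =>
    unfold redK at ih ⊢
    rw [List.filter_cons]
    split_ifs with h
    · rw [ev_cons, ev_cons, ih]
    · rw [ev_cons, ih]
      have h1 : (e.2 : k) * φ e.1 = 0 := by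
        rw [Bool.and_eq_true, not_and_or, Bool.not_eq_true, Bool.not_eq_true, Bool.not_eq_false', Bool.not_eq_false',
          beq_iff_eq] at h
        rcases h with h | h
        · rw [hK _ h, mul_zero]
        · rw [(CharP.intCast_eq_zero_iff k p e.2).2 (Int.dvd_of_emod_eq_zero h), zero_mul]
      rw [h1, zero_add]

theorem stp_spec {K : ℕ} (hK : ∀ i, K.testBit i = true → φ i = 0) {l : List (ℕ × ℤ)} (hl : ev φ l = 0) :
    ∀ i, (stp p K l).testBit i = true → φ i = 0 := by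
  intro i hi
  unfold stp at hi
  split at hi
  · rename_i e he
    rw [Nat.testBit_or, Bool.or_eq_true] at hi
    rcases hi with hi | hi
    · exact hK i hi
    · have hie : e.1 = i := by
        rw [Nat.one_shiftLeft, Nat.testBit_two_pow] at hi
        simpa using hi
      have h1 := ev_redK φ (p := p) hK (mrg l)
      rw [he, ev_mrg, hl, ev_single] at h1
      have h2 : e ∈ redK p K (mrg l) := by rw [he]; exact List.mem_singleton_self e
      unfold redK at h2
      rw [List.mem_filter, Bool.and_eq_true] at h2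
      have h3 : (e.2 : k) ≠ 0 := by
        intro h4
        rw [CharP.intCast_eq_zero_iff k p] at h4
        have h5 := Int.emod_eq_zero_of_dvd h4
        have h6 := h2.2.2
        rw [h5] at h6
        simp at h6
      rw [← hie]
      exact (mul_eq_zero.1 h1).resolve_left h3
  · exact hK i hi

theorem prg_spec (rows : List (List (ℕ × ℤ))) (hr : ∀ l ∈ rows, ev φ l = 0) {K : ℕ}
    (hK : ∀ i, K.testBit i = true → φ i = 0) : ∀ i, (prg p rows K).testBit i = true → φ i = 0 := by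
  unfold prg
  induction rows generalizing K with
  | nil => exact hK
  | cons l rows ih =>
    rw [List.foldl_cons]
    exact ih (fun l' hl' => hr l' (List.mem_cons_of_mem _ hl')) (stp_spec φ hK (hr l List.mem_cons_self))

/-- **unit propagation** -/
theorem prg_zero (rows : List (List (ℕ × ℤ))) (hr : ∀ l ∈ rows, ev φ l = 0) {i : ℕ} (h : (prg p rows 0).testBit i = true) :
    φ i = 0 :=
  prg_spec φ rows hr (fun i hi => by simp at hi) i h

end Cfsg.Agent.R2.H1.A7
end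

-- part: R2/H1/A7/Rows
section
/-!
# The rows for the four-linear forms `T(x_a * y_n, u_d)` (helper1, S5931, p = 7)
-/

set_option autoImplicit false

namespace Cfsg.Agent.R2.H1.A7

/-- the code of `T(x_a * y_n, u_d)` -/
def cd (a n d : ℕ) : ℕ := a + 5 * (n + 9 * d)

/-- the names of the rows -/
inductive RowId
  | t (a n d : ℕ)
  | u (a n d : ℕ)
  | w (a n d : ℕ)
  | c (a b c d : ℕ)

/-- the splitting of `n` -/
def hb (n : ℕ) : ℕ := min n 4

/-- the row of the unipotent element -/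
def rowU (L a n d : ℕ) : List (ℕ × ℤ) :=
  ((List.range (4 - a + 1)).flatMap fun i => (List.range (4 - hb n + 1)).flatMap fun j =>
    (List.range (4 - (n - hb n) + 1)).flatMap fun l => (List.range (L - d + 1)).flatMap fun m =>
      [(cd (a + i) (n + j + l) (d + m), ((4 - a).choose i : ℤ) * (((4 - hb n).choose j : ℤ) *
        (((4 - (n - hb n)).choose l : ℤ) * ((L - d).choose m : ℤ))))]) ++ [(cd a n d, -1)]

/-- the rows -/
def rowOf (L : ℕ) : RowId → List (ℕ × ℤ)
  | .t a n d => [(cd a n d, 3 ^ (a + n + d) * 5 ^ (12 + L - (a + n + d)) - 1)]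
  | .u a n d => rowU L a n d
  | .w a n d => [(cd a n d, 1), (cd (4 - a) (8 - n) (L - d), -(-1) ^ (a + n + d))]
  | .c a b c d => [(cd a (b + c) d, 1), (cd b (a + c) d, 1), (cd c (a + b) d, 1)]

/-- the ranges -/
def okId (L : ℕ) : RowId → Bool
  | .t a n d => decide (a ≤ 4) && decide (n ≤ 8) && decide (d ≤ L)
  | .u a n d => decide (a ≤ 4) && decide (n ≤ 8) && decide (d ≤ L)
  | .w a n d => decide (a ≤ 4) && decide (n ≤ 8) && decide (d ≤ L)
  | .c a b c d => decide (a ≤ 4) && decide (b ≤ 4) && decide (c ≤ 4) && decide (d ≤ L)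

/-- the torus rows -/
def idsT (L : ℕ) : List RowId := (List.range 5).flatMap fun a => (List.range 9).flatMap fun n =>
  (List.range (L + 1)).map fun d => .t a n d

def ids4 : List RowId := [.u 0 8 4, .u 1 1 4, .w 1 7 0, .u 1 7 4, .u 1 8 3, .w 2 0 0, .u 2 0 4, .u 2 1 3, .u 2 5 4, .u
  2 6 3, .u 2 7 2, .w 3 7 4, .w 3 8 3, .w 4 0 4, .w 4 1 3, .u 4 2 4, .u 4 3 3, .w 4 3 4, .u 4 4 2, .w 4 4 3, .u 4 5 1,
  .w 4 5 2, .u 4 6 0, .w 4 6 1, .w 4 6 4, .w 4 7 0, .w 4 7 3, .w 4 8 2, .c 0 0 1 4, .c 0 0 2 3, .c 0 0 3 2, .c 0 0 4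
  1, .c 0 0 4 4, .c 0 1 1 3, .c 0 1 3 4, .c 0 2 2 1, .c 0 2 2 4, .c 0 4 4 0, .c 0 4 4 3, .c 1 1 1 2, .c 1 1 2 1, .c 1
  3 4 0, .c 1 4 4 2, .c 2 2 2 2, .c 2 2 4 0, .c 2 2 4 3, .c 2 3 3 3, .c 2 4 4 1, .c 3 3 3 2, .c 3 3 4 1, .c 3 4 4 0,
  .u 0 0 4, .u 0 1 2, .u 0 6 4, .u 0 7 3, .w 0 7 4, .u 1 0 2, .u 1 1 0, .u 1 5 2, .u 1 6 0, .w 1 6 1, .w 1 6 4, .u 2 2
  4, .w 2 3 0, .u 2 5 0, .w 2 5 1, .u 3 4 0, .w 3 4 1, .w 3 4 4, .u 4 3 0, .w 4 3 1, .u 0 6 0, .w 0 6 2, .u 1 4 0, .w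
  1 5 2]

def ids6 : List RowId := [.u 1 8 6, .w 2 4 3, .u 4 2 6, .u 4 3 5, .u 4 4 4, .u 4 5 3, .w 4 5 6, .w 4 6 5, .w 4 7 4, .w
  4 8 3, .w 4 8 6, .c 0 0 0 6, .c 0 0 1 2, .c 0 0 2 1, .c 0 0 3 0, .c 0 1 1 1, .c 1 1 1 0, .c 1 1 1 3, .c 1 1 1 6, .c
  1 4 4 6, .c 2 2 2 0, .c 2 2 2 6, .c 2 4 4 5, .c 3 3 3 0, .c 3 3 3 3, .c 3 3 3 6, .c 3 3 4 5, .c 3 4 4 4, .c 4 4 4 0,
  .u 0 1 6, .u 0 6 6, .u 1 0 6, .u 1 1 5, .u 1 4 6, .w 1 5 6, .w 1 7 1, .w 1 8 0, .u 2 0 5, .w 2 1 0, .u 2 1 3, .w 2 1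
  6, .u 2 3 6, .u 3 2 6, .w 3 3 6, .u 3 8 0, .w 3 8 1, .w 4 0 5, .u 4 1 0, .w 4 1 1, .w 4 1 4, .u 4 2 5, .w 4 2 6, .u
  4 3 4, .w 4 3 5, .u 4 4 3, .w 4 4 4, .u 4 5 2, .w 4 5 3, .u 4 6 0, .w 4 6 2, .w 4 7 1, .c 0 0 2 4, .c 0 0 3 3, .c 0
  0 3 6, .c 0 0 4 2, .c 0 0 4 5, .c 0 1 1 4, .c 0 1 2 3, .c 0 1 3 5, .c 0 1 4 1, .c 0 2 2 2, .c 0 2 2 5, .c 0 2 4 0,
  .c 0 2 4 6, .c 0 3 4 5, .c 0 4 4 1, .c 0 4 4 4, .c 1 1 2 2, .c 1 1 3 1, .c 1 2 2 1, .c 1 3 3 5, .c 1 3 4 1, .c 1 4 4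
  0, .c 1 4 4 3, .c 2 2 3 5, .c 2 2 4 1, .c 2 2 4 4, .c 2 3 3 4, .c 2 3 4 3, .c 2 4 4 2, .c 3 3 4 2, .u 0 0 3, .u 0 1
  0, .u 1 6 0, .w 1 6 2, .u 2 2 4, .u 2 3 3, .w 2 3 4, .u 2 4 0, .u 3 2 3, .u 3 3 0, .w 3 3 3, .w 3 4 2, .w 4 2 3, .w
  4 3 2]

theorem ok4 : ((idsT 4 ++ ids4).all fun i => okId 4 i) = true := by decide +kernel

theorem ok6 : ((idsT 6 ++ ids6).all fun i => okId 6 i) = true := by decide +kernel

private theorem filter_add1 (q : ℕ → Bool) (l : List (ℕ × ℤ)) (e : ℕ × ℤ) :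
    (add1 l e).filter (fun x => q x.1) =
      if q e.1 then add1 (l.filter fun x => q x.1) e else l.filter fun x => q x.1 := by
  induction l with
  | nil => cases h : q e.1 <;> simp [add1, h]
  | cons f l ih =>
    by_cases h1 : f.1 = e.1
    · cases h : q e.1 <;> simp [add1, h1, h]
    · cases h : q e.1 <;> cases h2 : q f.1 <;> simp [add1, h1, h, h2] <;> simpa [h] using ih

private theorem filter_mrg (q : ℕ → Bool) (l a : List (ℕ × ℤ)) :
    (l.foldl add1 a).filter (fun x => q x.1) = (l.filter fun x => q x.1).foldl add1 (a.filter fun x => q x.1) := by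
  induction l generalizing a with
  | nil => rfl
  | cons e l ih =>
    rw [List.foldl_cons, ih, filter_add1, List.filter_cons]
    cases q e.1 <;> rfl

/-- one step, the known entries are dropped first -/
private def stpF (p K : ℕ) (l : List (ℕ × ℤ)) : ℕ :=
  match (mrg (l.filter fun e => Nat.beq (Nat.land (Nat.shiftRight K e.1) 1) 0)).filter fun e => !(e.2 % (p : ℤ) == 0) with
  | [e] => K ||| (1 <<< e.1)
  | _ => K

private theorem stp_eq : stp = stpF := by
  funext p K l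
  have h1 : (fun e : ℕ × ℤ => Nat.beq (Nat.land (Nat.shiftRight K e.1) 1) 0) = fun e => !(K.testBit e.1) := by
    funext e
    show Nat.beq ((K >>> e.1) &&& 1) 0 = !(1 &&& (K >>> e.1) != 0)
    rw [Nat.and_comm]
    cases 1 &&& (K >>> e.1) <;> rfl
  have h2 : redK p K (mrg l) = (mrg (l.filter fun e => !(K.testBit e.1))).filter fun e => !(e.2 % (p : ℤ) == 0) := by
    unfold redK mrg
    refine Eq.trans ?_ (congrArg _ (filter_mrg (fun i => !(K.testBit i)) l []))
    rw [List.filter_filter]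
    exact congrArg (List.filter · _) (funext fun e => Bool.and_comm _ _)
  unfold stp stpF
  rw [h1, h2]

private noncomputable def _root_.Cfsg.Agent.LsF.fae4774_3 : {f // @Cfsg.Agent.R2.H1.A7.add1 = f} := ⟨_, by first | (delta Cfsg.Agent.R2.H1.A7.add1 List.brecOn List.brecOn.go Cfsg.Agent.R2.H1.A7.add1._f; rewrite [Cfsg.Agent.LsF.iadd_pat, Cfsg.Agent.LsF.instDecEq_eq, Cfsg.Agent.LsF.ite_eq]; (try delta Cfsg.Agent.R2.H1.A7.add1.match_1); (try delta List.casesOn); first | dsimp -zeta only | exact rfl) | exact rfl⟩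
private noncomputable def _root_.Cfsg.Agent.LsF.fae4774_4 : {f // @Cfsg.Agent.R2.H1.A7.mrg = f} := ⟨_, by first | (delta Cfsg.Agent.R2.H1.A7.mrg; rewrite [Cfsg.Agent.LsF.fae4774_3.2, Cfsg.Agent.LsF.foldl_eq]; exact rfl) | exact rfl⟩
private noncomputable def _root_.Cfsg.Agent.LsF.fae4774_5 : {f // @Cfsg.Agent.R2.H1.A7.stpF = f} := ⟨_, by first | (delta Cfsg.Agent.R2.H1.A7.stpF; rewrite [Cfsg.Agent.LsF.fae4774_4.2, Cfsg.Agent.LsF.nor_pat, Cfsg.Agent.LsF.nshl_pat, Cfsg.Agent.LsF.imod_pat, Cfsg.Agent.LsF.icast_pat, Cfsg.Agent.LsF.ibeq_pat, Cfsg.Agent.LsF.not_eq, Cfsg.Agent.LsF.filter_eq]; (try delta Cfsg.Agent.R2.H1.A7.stp.match_1); (try delta Cfsg.Agent.R2.H1.A7.stp._sparseCasesOn_1); (try delta Cfsg.Agent.R2.H1.A7.stp._sparseCasesOn_2); exact rfl) | exact rfl⟩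
private noncomputable def _root_.Cfsg.Agent.LsF.fae4774_6 : {f // @Cfsg.Agent.R2.H1.A7.cd = f} := ⟨_, by first | (delta Cfsg.Agent.R2.H1.A7.cd; rewrite [Cfsg.Agent.LsF.nadd_pat, Cfsg.Agent.LsF.nmul_pat]; exact rfl) | exact rfl⟩
private noncomputable def _root_.Cfsg.Agent.LsF.fae4774_7 : {f // @Cfsg.Agent.R2.H1.A7.hb = f} := ⟨_, by first | (delta Cfsg.Agent.R2.H1.A7.hb; rewrite [Cfsg.Agent.LsF.nmin_pat]; exact rfl) | exact rfl⟩
private noncomputable def _root_.Cfsg.Agent.LsF.fae4774_8 : {f // @Cfsg.Agent.R2.H1.A7.rowU = f} := ⟨_, by first | (delta Cfsg.Agent.R2.H1.A7.rowU; rewrite [Cfsg.Agent.LsF.fae4774_6.2, Cfsg.Agent.LsF.fae4774_0.2, Cfsg.Agent.LsF.fae4774_7.2, Cfsg.Agent.LsF.nadd_pat, Cfsg.Agent.LsF.nsub_pat, Cfsg.Agent.LsF.imul_pat, Cfsg.Agent.LsF.ineg_pat, Cfsg.Agent.LsF.icast_pat, Cfsg.Agent.LsF.lappend_pat, Cfsg.Agent.LsF.flatMap_eq, Cfsg.Agent.LsF.range_eq]; exact rfl) | exact rfl⟩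
private noncomputable def _root_.Cfsg.Agent.LsF.fae4774_9 : {f // @Cfsg.Agent.R2.H1.A7.rowOf = f} := ⟨_, by first | (delta Cfsg.Agent.R2.H1.A7.rowOf; rewrite [Cfsg.Agent.LsF.fae4774_6.2, Cfsg.Agent.LsF.fae4774_8.2, Cfsg.Agent.LsF.nadd_pat, Cfsg.Agent.LsF.nsub_pat, Cfsg.Agent.LsF.imul_pat, Cfsg.Agent.LsF.isub_pat, Cfsg.Agent.LsF.ineg_pat]; (try delta Cfsg.Agent.R2.H1.A7.rowOf.match_1); (try delta Cfsg.Agent.R2.H1.A7.RowId.casesOn); exact rfl) | exact rfl⟩
private noncomputable def _root_.Cfsg.Agent.LsF.fae4774_10 : {f // @Cfsg.Agent.R2.H1.A7.idsT = f} := ⟨_, by first | (delta Cfsg.Agent.R2.H1.A7.idsT; rewrite [Cfsg.Agent.LsF.nadd_pat, Cfsg.Agent.LsF.map_eq, Cfsg.Agent.LsF.flatMap_eq, Cfsg.Agent.LsF.range_eq]; exact rfl) | exact rfl⟩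
theorem prg4 : prg 7 ((idsT 4 ++ ids4).map (rowOf 4)) 0 = 2 ^ 225 - 1 := by
  delta prg; rewrite [stp_eq]; (refine of_decide_eq_true ?_; (try (rewrite [Cfsg.Agent.LsF.fae4774_5.2, Cfsg.Agent.LsF.fae4774_9.2, Cfsg.Agent.LsF.fae4774_10.2, Cfsg.Agent.LsF.nsub_pat, Cfsg.Agent.LsF.npow_pat, Cfsg.Agent.LsF.lappend_pat, Cfsg.Agent.LsF.instDecEq_eq, Cfsg.Agent.LsF.map_eq, Cfsg.Agent.LsF.foldl_eq, Cfsg.Agent.LsF.decide_eq])); decide +kernel)

theorem prg6 : prg 7 ((idsT 6 ++ ids6).map (rowOf 6)) 0 = 2 ^ 315 - 1 := by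
  delta prg; rewrite [stp_eq]; (refine of_decide_eq_true ?_; (try (rewrite [Cfsg.Agent.LsF.fae4774_5.2, Cfsg.Agent.LsF.fae4774_9.2, Cfsg.Agent.LsF.fae4774_10.2, Cfsg.Agent.LsF.nsub_pat, Cfsg.Agent.LsF.npow_pat, Cfsg.Agent.LsF.lappend_pat, Cfsg.Agent.LsF.instDecEq_eq, Cfsg.Agent.LsF.map_eq, Cfsg.Agent.LsF.foldl_eq, Cfsg.Agent.LsF.decide_eq])); decide +kernel)

end Cfsg.Agent.R2.H1.A7
end

-- part: R2/H1/A7/S1
section
/-!
# `p = 7`, step 1: the Hessian of `x` is a nonzero multiple of `x` (helper1, S5931)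
-/

set_option autoImplicit false
set_option linter.unusedSectionVars false
set_option linter.unusedSimpArgs false

namespace Cfsg.Agent.R2.H1.A7

open Cfsg Cfsg.Lie Module Cfsg.Agent.H952.F4 Cfsg.Agent.H952.F4.Jord
open Cfsg.Agent.ChevalleyStructure.E6Min.Tables Cfsg.Agent.ChevalleyStructure.E6Min.Basic
open Cfsg.Agent.R2.F4N (Str)
open Cfsg.Agent.R2.F4L (Act)
open Cfsg.Agent.H952.F4.FixV (W0 mem_W0 finrank_W0 trL tfL tfL_apply tr1_sub tf_sub_left tf_sub_right)
open Cfsg.Agent.R2.H1.F4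
open Finset

universe u v w

variable {k : Type u} [Field k] {K : Type w} [Field K] [Fintype K] {κ : K →+* k}
variable {ρ : Representation k (Matrix.SpecialLinearGroup (Fin 2) K) (I27 → k)}
variable {x m v : ℕ → (I27 → k)} [Fact (Nat.Prime 7)] [CharP k 7]

theorem seven_smul (y : I27 → k) : (7 : k) • y = 0 := by rw [sv7 k, zero_smul]

theorem Dat.hq0 (D : Dat κ ρ x m v) : hq x = 0 := by
  refine D.fix _ ?_ fun g => hq_fix D.act D.sx g
  unfold hq
  rw [tr1_add, tr1_sub, tr1_smul, tr1_smul, tr1_st (n3 k) (D.tx 0 (by norm_num)), tr1_st (n3 k) (D.tx 1 (by norm_num)),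
    tr1_st (n3 k) (D.tx 2 (by norm_num))]
  ring

/-- the relations between the products -/
theorem rels (hq0 : hq x = 0) {α : k} (hα : ∀ c ≤ 4, hs x c = α • x c) :
    st (x 1) (x 1) = st (x 2) (x 0) - (3 * α) • x 0 ∧ st (x 1) (x 2) = st (x 3) (x 0) + α • x 1 ∧
    st (x 2) (x 2) = st (x 4) (x 0) + (2 * α) • x 2 ∧ st (x 1) (x 3) = st (x 4) (x 0) - (2 * α) • x 2 ∧
    st (x 2) (x 3) = st (x 4) (x 1) + α • x 3 ∧ st (x 3) (x 3) = st (x 4) (x 2) - (3 * α) • x 4 := by
  have h0 := hα 0 (by norm_num)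
  have h1 := hα 1 (by norm_num)
  have h2 := hα 2 (by norm_num)
  have h3 := hα 3 (by norm_num)
  have h4 := hα 4 (by norm_num)
  unfold hq at hq0
  simp only [hs] at h0 h1 h2 h3 h4
  rw [st_comm (x 2) (x 0), st_comm (x 3) (x 0), st_comm (x 4) (x 0), st_comm (x 4) (x 1), st_comm (x 4) (x 2)]
  have z := seven_smul (k := k)
  refine ⟨?_, ?_, ?_, ?_, ?_, ?_⟩
  · linear_combination (norm := module) (-3 : k) • h0 + (5 : k) • z (st (x 0) (x 2)) - (5 : k) • z (st (x 1) (x 1))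
  · linear_combination (norm := module) (1 : k) • h1 - z (st (x 0) (x 3)) + z (st (x 1) (x 2))
  · linear_combination (norm := module) (2 : k) • h2 + (2 : k) • hq0 - z (st (x 0) (x 4)) + z (st (x 2) (x 2))
  · linear_combination (norm := module) (-2 : k) • h2 + (-4 : k) • hq0 + z (st (x 0) (x 4)) - z (st (x 1) (x 3))
  · linear_combination (norm := module) (1 : k) • h3 - z (st (x 1) (x 4)) + z (st (x 2) (x 3))
  · linear_combination (norm := module) (-3 : k) • h4 + (5 : k) • z (st (x 2) (x 4)) - (5 : k) • z (st (x 3) (x 3))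

/-- all the products -/
theorem md (hq0 : hq x = 0) {α : k} (hα : ∀ c ≤ 4, hs x c = α • x c) : ∀ b ≤ 4, ∀ c ≤ 4, ∃ l : k, ∃ i ≤ 4,
    st (x b) (x c) = st (x (hb (b + c))) (x (b + c - hb (b + c))) + (l * α) • x i := by
  obtain ⟨e11, e12, e22, e13, e23, e33⟩ := rels hq0 hα
  have z0 : ∀ (y : I27 → k) (i : ℕ), y = y + ((0 : k) * α) • x i := fun y i => by rw [zero_mul, zero_smul, add_zero]
  intro b hb' c hc
  interval_cases b <;> interval_cases c
  · exact ⟨0, 0, by norm_num, z0 _ _⟩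
  · exact ⟨0, 0, by norm_num, (st_comm _ _).trans (z0 _ _)⟩
  · exact ⟨0, 0, by norm_num, (st_comm _ _).trans (z0 _ _)⟩
  · exact ⟨0, 0, by norm_num, (st_comm _ _).trans (z0 _ _)⟩
  · exact ⟨0, 0, by norm_num, (st_comm _ _).trans (z0 _ _)⟩
  · exact ⟨0, 0, by norm_num, z0 _ _⟩
  · exact ⟨-3, 0, by norm_num, by
      change st (x 1) (x 1) = st (x 2) (x 0) + _
      rw [e11]; module⟩
  · exact ⟨1, 1, by norm_num, by
      change st (x 1) (x 2) = st (x 3) (x 0) + _
      rw [e12]; module⟩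
  · exact ⟨-2, 2, by norm_num, by
      change st (x 1) (x 3) = st (x 4) (x 0) + _
      rw [e13]; module⟩
  · exact ⟨0, 0, by norm_num, (st_comm _ _).trans (z0 _ _)⟩
  · exact ⟨0, 0, by norm_num, z0 _ _⟩
  · exact ⟨1, 1, by norm_num, by
      change st (x 2) (x 1) = st (x 3) (x 0) + _
      rw [st_comm, e12]; module⟩
  · exact ⟨2, 2, by norm_num, by
      change st (x 2) (x 2) = st (x 4) (x 0) + _
      rw [e22]⟩
  · exact ⟨1, 3, by norm_num, by
      change st (x 2) (x 3) = st (x 4) (x 1) + _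
      rw [e23]; module⟩
  · exact ⟨0, 0, by norm_num, (st_comm _ _).trans (z0 _ _)⟩
  · exact ⟨0, 0, by norm_num, z0 _ _⟩
  · exact ⟨-2, 2, by norm_num, by
      change st (x 3) (x 1) = st (x 4) (x 0) + _
      rw [st_comm, e13]; module⟩
  · exact ⟨1, 3, by norm_num, by
      change st (x 3) (x 2) = st (x 4) (x 1) + _
      rw [st_comm, e23]; module⟩
  · exact ⟨-3, 4, by norm_num, by
      change st (x 3) (x 3) = st (x 4) (x 2) + _
      rw [e33]; module⟩
  · exact ⟨0, 0, by norm_num, (st_comm _ _).trans (z0 _ _)⟩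
  · exact ⟨0, 0, by norm_num, z0 _ _⟩
  · exact ⟨0, 0, by norm_num, z0 _ _⟩
  · exact ⟨0, 0, by norm_num, z0 _ _⟩
  · exact ⟨0, 0, by norm_num, z0 _ _⟩
  · exact ⟨0, 0, by norm_num, z0 _ _⟩

/-- the Hessian has no component along `m` -/
theorem Dat.hs_eq (D : Dat κ ρ x m v) (hK : 7 ≤ Fintype.card K) : ∃ α : k, ∀ c ≤ 4, hs x c = α • x c := by
  obtain ⟨α, β, h⟩ := D.s4 (hs x) (hs_str D.act D.sx) (fun c hc => by
    interval_cases c <;> simp only [hs, tr1_add, tr1_sub, tr1_smul, tr1_st (n3 k) (D.tx 0 (by norm_num)),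
      tr1_st (n3 k) (D.tx 1 (by norm_num)), tr1_st (n3 k) (D.tx 2 (by norm_num)), tr1_st (n3 k) (D.tx 3 (by norm_num))] <;>
      ring)
  obtain ⟨g, hg⟩ := tab222 hK D.act D.sx D.sx D.sm
  have h1 := hg 0 2 4
  have h2 := hg 1 1 4
  have t1 : tau 2 2 2 0 2 4 = 1 := by decide +kernel
  have t2 : tau 2 2 2 1 1 4 = -2 := by decide +kernel
  rw [t1] at h1
  rw [t2] at h2
  norm_num [Nat.choose] at h1 h2
  have h3 := congrArg (fun y => tf y (m 4)) (h 0 (by norm_num))
  simp only [hs, tf_sub_left, tf_add_left, tf_smul_left, D.xm 0 (by norm_num) 4 (by norm_num)] at h3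
  have h7 := sv7 k
  have h4 : β * tf (m 0) (m 4) = 0 := by
    linear_combination (-1 : k) * h3 + 2 * h1 - 6 * h2 + (2 * g + 12 * tf (st (x 1) (x 1)) (m 4)) * h7
  have hβ : β = 0 := (mul_eq_zero.1 h4).resolve_right D.mm
  exact ⟨α, fun c hc => by rw [h c hc, hβ, zero_smul, add_zero]⟩

end Cfsg.Agent.R2.H1.A7
end

-- part: R2/H1/A7/S1b
section
/-!
# `p = 7`, step 1: the Hessian of `x` is a nonzero multiple of `x` (helper1, S5931)
-/

set_option autoImplicit false
set_option linter.unusedSectionVars false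
set_option linter.unusedSimpArgs false

namespace Cfsg.Agent.R2.H1.A7

open Cfsg Cfsg.Lie Module Cfsg.Agent.H952.F4 Cfsg.Agent.H952.F4.Jord
open Cfsg.Agent.ChevalleyStructure.E6Min.Tables Cfsg.Agent.ChevalleyStructure.E6Min.Basic
open Cfsg.Agent.R2.F4N (Str)
open Cfsg.Agent.R2.F4L (Act)
open Cfsg.Agent.H952.F4.FixV (W0 mem_W0 finrank_W0 trL tfL tfL_apply tr1_sub tf_sub_left tf_sub_right)
open Cfsg.Agent.R2.H1.F4
open Finset

universe u v w

section gen

variable {k : Type u} [Field k] {K : Type w} [Field K] [Fintype K] {κ : K →+* k} {W : Type v} [AddCommGroup W] [Module k W]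
variable {ρ : Representation k (Matrix.SpecialLinearGroup (Fin 2) K) W}

theorem str_ne {n : ℕ} {x : ℕ → W} (hx : Str κ ρ n x) (hn : n < Fintype.card K) (h0 : x 0 ≠ 0) {a : ℕ} (ha : a ≤ n) :
    x a ≠ 0 := by
  intro h1
  have h2 := str_li hx hn h0 (c := fun b => if b = a then 1 else 0) (by
    rw [sum_eq_single a]
    · simp only [if_true, one_smul, h1]
    · intro b _ hne
      simp only [if_neg hne, zero_smul]
    · intro h
      exact absurd (mem_range.2 (by omega)) h) a ha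
  simp only [if_true] at h2
  exact one_ne_zero h2

/-- a nonzero string in a subspace of small dimension -/
theorem str_finrank {n : ℕ} {x : ℕ → W} (hx : Str κ ρ n x) (hn : n < Fintype.card K) (h0 : x 0 ≠ 0) {Z : Submodule k W}
    [FiniteDimensional k Z] (hZ : ∀ a ≤ n, x a ∈ Z) : n + 1 ≤ finrank k Z := by
  have h1 : LinearIndependent k (fun a : Fin (n + 1) => (⟨x a, hZ a (by omega)⟩ : Z)) := by
    rw [Fintype.linearIndependent_iff]
    intro g hg i
    have h2 := congrArg (Z.subtype) hg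
    rw [map_sum, map_zero] at h2
    simp only [map_smul, Submodule.subtype_apply] at h2
    have h3 := str_li hx hn h0 (c := fun a => if h : a < n + 1 then g ⟨a, h⟩ else 0) (by
      rw [← Fin.sum_univ_eq_sum_range (fun a => (if h : a < n + 1 then g ⟨a, h⟩ else 0) • x a)]
      rw [← h2]
      refine sum_congr rfl fun a _ => ?_
      rw [dif_pos a.2]) i (by omega)
    simp only [dif_pos i.2] at h3
    exact h3
  have h2 := h1.fintype_card_le_finrank
  rwa [Fintype.card_fin] at h2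

end gen

variable {k : Type u} [Field k] {K : Type w} [Field K] [Fintype K] {κ : K →+* k}
variable {ρ : Representation k (Matrix.SpecialLinearGroup (Fin 2) K) (I27 → k)}
variable {x m v : ℕ → (I27 → k)} [Fact (Nat.Prime 7)] [CharP k 7]

theorem wt_eq {c : k} (hc : c ≠ 0) {a : ℕ} (ha : a ≤ 4) : c ^ (a + 2) * c⁻¹ ^ (8 - (a + 2)) = c ^ a * c⁻¹ ^ (4 - a) := by
  have e : 8 - (a + 2) = (4 - a) + 2 := by omega
  rw [e, pow_add, pow_add, inv_pow c 2]
  field_simp

/-- the products -/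
noncomputable def Y (x : ℕ → (I27 → k)) (n : ℕ) : I27 → k := st (x (hb n)) (x (n - hb n))

theorem Y_h (H : Act ρ) (h : Str κ ρ 4 x) {n : ℕ} (hn : n ≤ 8) (t : Kˣ) :
    ρ (Cfsg.Agent.H943.SL2Rel.h t) (Y x n) = (κ t ^ n * ((κ t)⁻¹) ^ (8 - n)) • Y x n := by
  have h1 : hb n ≤ 4 ∧ n - hb n ≤ 4 ∧ hb n ≤ n := by unfold hb; omega
  unfold Y
  rw [← st_inv H, h.h _ h1.1, h.h _ h1.2.1, st_smul_left, st_smul_right, smul_smul]
  congr 1
  have e1 : κ t ^ n = κ t ^ hb n * κ t ^ (n - hb n) := by rw [← pow_add]; congr 1; omega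
  have e2 : (κ t)⁻¹ ^ (8 - n) = (κ t)⁻¹ ^ (4 - hb n) * (κ t)⁻¹ ^ (4 - (n - hb n)) := by
    rw [← pow_add]; congr 1; omega
  rw [e1, e2]
  ring

theorem Y_w (H : Act ρ) (h : Str κ ρ 4 x) (hY : ∀ b ≤ 4, ∀ c ≤ 4, st (x b) (x c) = Y x (b + c)) {n : ℕ} (hn : n ≤ 8) :
    ρ (Cfsg.Agent.H943.SL2Rel.w) (Y x n) = (-1 : k) ^ n • Y x (8 - n) := by
  have h1 : hb n ≤ 4 ∧ n - hb n ≤ 4 ∧ hb n ≤ n := by unfold hb; omega
  unfold Y
  rw [← st_inv H, h.w _ h1.1, h.w _ h1.2.1, st_smul_left, st_smul_right, smul_smul, ← pow_add, hY _ (by omega) _ (by omega)]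
  have e1 : hb n + (n - hb n) = n := by omega
  have e2 : 4 - hb n + (4 - (n - hb n)) = 8 - n := by omega
  rw [e1, e2]
  rfl

/-- the Hessian is not zero -/
theorem Dat.al_ne (D : Dat κ ρ x m v) (hK : 7 ≤ Fintype.card K) {α : k} (hα : ∀ c ≤ 4, hs x c = α • x c) : α ≠ 0 := by
  intro h0
  subst h0
  have hY : ∀ b ≤ 4, ∀ c ≤ 4, st (x b) (x c) = Y x (b + c) := by
    intro b hb' c hc
    obtain ⟨l, i, _, e⟩ := md D.hq0 hα b hb' c hc
    rw [e, mul_zero, zero_smul, add_zero]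
    rfl
  have z := seven_smul (k := k)
  have e00 := hY 0 (by norm_num) 0 (by norm_num)
  have e01 := hY 0 (by norm_num) 1 (by norm_num)
  have e02 := hY 0 (by norm_num) 2 (by norm_num)
  have e03 := hY 0 (by norm_num) 3 (by norm_num)
  have e04 := hY 0 (by norm_num) 4 (by norm_num)
  have e10 := hY 1 (by norm_num) 0 (by norm_num)
  have e11 := hY 1 (by norm_num) 1 (by norm_num)
  have e12 := hY 1 (by norm_num) 2 (by norm_num)
  have e13 := hY 1 (by norm_num) 3 (by norm_num)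
  have e14 := hY 1 (by norm_num) 4 (by norm_num)
  have e20 := hY 2 (by norm_num) 0 (by norm_num)
  have e21 := hY 2 (by norm_num) 1 (by norm_num)
  have e22 := hY 2 (by norm_num) 2 (by norm_num)
  have e23 := hY 2 (by norm_num) 3 (by norm_num)
  have e24 := hY 2 (by norm_num) 4 (by norm_num)
  have e30 := hY 3 (by norm_num) 0 (by norm_num)
  have e31 := hY 3 (by norm_num) 1 (by norm_num)
  have e32 := hY 3 (by norm_num) 2 (by norm_num)
  have e33 := hY 3 (by norm_num) 3 (by norm_num)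
  have e34 := hY 3 (by norm_num) 4 (by norm_num)
  have e40 := hY 4 (by norm_num) 0 (by norm_num)
  have e41 := hY 4 (by norm_num) 1 (by norm_num)
  have e42 := hY 4 (by norm_num) 2 (by norm_num)
  have e43 := hY 4 (by norm_num) 3 (by norm_num)
  have e44 := hY 4 (by norm_num) 4 (by norm_num)
  norm_num at e00 e01 e02 e03 e04 e10 e11 e12 e13 e14 e20 e21 e22 e23 e24 e30 e31 e32 e33 e34 e40 e41 e42 e43 e44
  have h := D.sx
  -- the action on `Y 0, …, Y 7`
  have u0 : ∀ t, ρ (Cfsg.Agent.H943.SL2Rel.u t) (Y x 0) =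
      Y x 0 + κ t • Y x 1 + κ t ^ 7 • Y x 7 + κ t ^ 8 • Y x 8 := by
    intro t
    rw [← e00, ← st_inv D.act, s4u0 h]
    simp only [st_add_left, st_add_right, st_smul_left, st_smul_right, e00, e01, e02, e03, e04, e10, e11, e12, e13, e14, e20,
      e21, e22, e23, e24, e30, e31, e32, e33, e34, e40, e41, e42, e43, e44]
    linear_combination (norm := module) (κ t : k) • z (Y x 1) + (4 * κ t ^ 2) • z (Y x 2) + (8 * κ t ^ 3) • z (Y x 3) +
      (10 * κ t ^ 4) • z (Y x 4) + (8 * κ t ^ 5) • z (Y x 5) + (4 * κ t ^ 6) • z (Y x 6) + (κ t ^ 7) • z (Y x 7)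
  have u1 : ∀ t, ρ (Cfsg.Agent.H943.SL2Rel.u t) (Y x 1) = Y x 1 + κ t ^ 7 • Y x 8 := by
    intro t
    rw [← e01, ← st_inv D.act, s4u0 h, s4u1 h]
    simp only [st_add_left, st_add_right, st_smul_left, st_smul_right, e00, e01, e02, e03, e04, e10, e11, e12, e13, e14, e20,
      e21, e22, e23, e24, e30, e31, e32, e33, e34, e40, e41, e42, e43, e44]
    linear_combination (norm := module) (κ t : k) • z (Y x 2) + (3 * κ t ^ 2) • z (Y x 3) + (5 * κ t ^ 3) • z (Y x 4) +
      (5 * κ t ^ 4) • z (Y x 5) + (3 * κ t ^ 5) • z (Y x 6) + (κ t ^ 6) • z (Y x 7)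
  have u7 : ∀ t, ρ (Cfsg.Agent.H943.SL2Rel.u t) (Y x 7) = Y x 7 + κ t • Y x 8 := by
    intro t
    rw [← e34, ← st_inv D.act, s4u3 h, s4u4 h]
    simp only [st_add_left, st_add_right, st_smul_left, st_smul_right, e34, e44]
  have u8 : ∀ t, ρ (Cfsg.Agent.H943.SL2Rel.u t) (Y x 8) = Y x 8 := by
    intro t
    rw [← e44, ← st_inv D.act, s4u4 h]
  -- the small submodule
  let Z : Submodule k (I27 → k) := Submodule.span k (Set.range ![Y x 0, Y x 1, Y x 7, Y x 8])
  have m0 : Y x 0 ∈ Z := Submodule.subset_span ⟨0, rfl⟩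
  have m1 : Y x 1 ∈ Z := Submodule.subset_span ⟨1, rfl⟩
  have m7 : Y x 7 ∈ Z := Submodule.subset_span ⟨2, rfl⟩
  have m8 : Y x 8 ∈ Z := Submodule.subset_span ⟨3, rfl⟩
  have hZle : ∀ S : Submodule k (I27 → k), Y x 0 ∈ S → Y x 1 ∈ S → Y x 7 ∈ S → Y x 8 ∈ S → Z ≤ S := by
    intro S s0 s1 s7 s8
    rw [Submodule.span_le]
    rintro _ ⟨i, rfl⟩
    fin_cases i
    · exact s0
    · exact s1
    · exact s7
    · exact s8
  have hZst : ∀ g, ∀ y ∈ Z, ρ g y ∈ Z := by
    intro g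
    refine Cfsg.Agent.H943.SL2Rel.induct (P := fun g => ∀ y ∈ Z, ρ g y ∈ Z) ?_ ?_ ?_ ?_ g
    · intro t
      have h1 : Z ≤ Z.comap (ρ (Cfsg.Agent.H943.SL2Rel.u t)) := by
        refine hZle _ ?_ ?_ ?_ ?_ <;> rw [Submodule.mem_comap]
        · rw [u0]
          exact Z.add_mem (Z.add_mem (Z.add_mem m0 (Z.smul_mem _ m1)) (Z.smul_mem _ m7)) (Z.smul_mem _ m8)
        · rw [u1]
          exact Z.add_mem m1 (Z.smul_mem _ m8)
        · rw [u7]
          exact Z.add_mem m7 (Z.smul_mem _ m8)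
        · rw [u8]
          exact m8
      exact fun y hy => h1 hy
    · intro t
      have h1 : Z ≤ Z.comap (ρ (Cfsg.Agent.H943.SL2Rel.h t)) := by
        refine hZle _ ?_ ?_ ?_ ?_ <;> rw [Submodule.mem_comap, Y_h D.act h (by norm_num)]
        · exact Z.smul_mem _ m0
        · exact Z.smul_mem _ m1
        · exact Z.smul_mem _ m7
        · exact Z.smul_mem _ m8
      exact fun y hy => h1 hy
    · have h1 : Z ≤ Z.comap (ρ (Cfsg.Agent.H943.SL2Rel.w)) := by
        refine hZle _ ?_ ?_ ?_ ?_ <;> rw [Submodule.mem_comap, Y_w D.act h hY (by norm_num)]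
        · exact Z.smul_mem _ m8
        · exact Z.smul_mem _ m7
        · exact Z.smul_mem _ m1
        · exact Z.smul_mem _ m0
      exact fun y hy => h1 hy
    · intro g g' e e' y hy
      rw [map_mul, Module.End.mul_apply]
      exact e _ (e' _ hy)
  have tY : ∀ n ≤ 8, tr1 (Y x n) = 0 := by
    intro n hn
    exact tr1_st (n3 k) (D.tx _ (Nat.min_le_right _ _))
  have hZt : ∀ y ∈ Z, tr1 y = 0 := by
    have h1 : Z ≤ LinearMap.ker (trL k) := by
      refine hZle _ ?_ ?_ ?_ ?_ <;> rw [LinearMap.mem_ker] <;> exact tY _ (by norm_num)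
    exact fun y hy => h1 hy
  have hZ0 : Z = ⊥ := by
    by_contra hne
    obtain ⟨n, hn, s, ss, sZ, s0⟩ := D.soc Z hZst hZt hne
    have h1 : n + 1 ≤ finrank k Z := str_finrank ss (by omega) s0 sZ
    have h2 : finrank k Z ≤ 4 := by
      have := finrank_range_le_card (R := k) ![Y x 0, Y x 1, Y x 7, Y x 8]
      rwa [Fintype.card_fin] at this
    omega
  have z0 : Y x 0 = 0 := by rw [hZ0] at m0; exact (Submodule.mem_bot k).1 m0
  have z1 : Y x 1 = 0 := by rw [hZ0] at m1; exact (Submodule.mem_bot k).1 m1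
  have z7 : Y x 7 = 0 := by rw [hZ0] at m7; exact (Submodule.mem_bot k).1 m7
  have z8 : Y x 8 = 0 := by rw [hZ0] at m8; exact (Submodule.mem_bot k).1 m8
  -- the string
  let s : ℕ → (I27 → k) := fun a => match a with
    | 0 => Y x 2
    | 1 => (5 : k) • Y x 3
    | 2 => (6 : k) • Y x 4
    | 3 => (5 : k) • Y x 5
    | _ => Y x 6
  have hsS : Str κ ρ 4 s := by
    refine str_of4 ?_ ?_ ?_ ?_ ?_ ?_ ?_
    · intro t
      change ρ _ (Y x 2) = Y x 2 + (4 * κ t) • (5 : k) • Y x 3 + (6 * κ t ^ 2) • (6 : k) • Y x 4 +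
        (4 * κ t ^ 3) • (5 : k) • Y x 5 + κ t ^ 4 • Y x 6
      rw [← e02, ← st_inv D.act, s4u0 h, s4u2 h]
      simp only [st_add_left, st_add_right, st_smul_left, st_smul_right, e00, e01, e02, e03, e04, e10, e11, e12, e13, e14,
        e20, e21, e22, e23, e24, e30, e31, e32, e33, e34, e40, e41, e42, e43, e44, z7, z8]
      linear_combination (norm := module) (-2 * κ t : k) • z (Y x 3) + (-3 * κ t ^ 2) • z (Y x 4) +
        (2 * κ t ^ 4) • z (Y x 6)
    · intro t
      change ρ _ ((5 : k) • Y x 3) = (5 : k) • Y x 3 + (3 * κ t) • (6 : k) • Y x 4 + (3 * κ t ^ 2) • (5 : k) • Y x 5 +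
        (κ t ^ 3) • Y x 6
      rw [← e03, map_smul, ← st_inv D.act, s4u0 h, s4u3 h]
      simp only [st_add_left, st_add_right, st_smul_left, st_smul_right, e00, e01, e02, e03, e04, e10, e11, e12, e13, e14,
        e20, e21, e22, e23, e24, e30, e31, e32, e33, e34, e40, e41, e42, e43, e44, z7, z8]
      linear_combination (norm := module) (κ t : k) • z (Y x 4) + (5 * κ t ^ 2) • z (Y x 5) + (7 * κ t ^ 3) • z (Y x 6)
    · intro t
      change ρ _ ((6 : k) • Y x 4) = (6 : k) • Y x 4 + (2 * κ t) • (5 : k) • Y x 5 + (κ t ^ 2) • Y x 6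
      rw [← e04, map_smul, ← st_inv D.act, s4u0 h, s4u4 h]
      simp only [st_add_left, st_add_right, st_smul_left, st_smul_right, e00, e01, e02, e03, e04, e10, e11, e12, e13, e14,
        e20, e21, e22, e23, e24, e30, e31, e32, e33, e34, e40, e41, e42, e43, e44, z7, z8]
      linear_combination (norm := module) (2 * κ t : k) • z (Y x 5) + (5 * κ t ^ 2) • z (Y x 6)
    · intro t
      change ρ _ ((5 : k) • Y x 5) = (5 : k) • Y x 5 + κ t • Y x 6
      rw [← e14, map_smul, ← st_inv D.act, s4u1 h, s4u4 h]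
      simp only [st_add_left, st_add_right, st_smul_left, st_smul_right, e00, e01, e02, e03, e04, e10, e11, e12, e13, e14,
        e20, e21, e22, e23, e24, e30, e31, e32, e33, e34, e40, e41, e42, e43, e44, z7, z8]
      linear_combination (norm := module) (2 * κ t : k) • z (Y x 6)
    · intro t
      change ρ _ (Y x 6) = Y x 6
      rw [← e24, ← st_inv D.act, s4u2 h, s4u4 h]
      simp only [st_add_left, st_add_right, st_smul_left, st_smul_right, e00, e01, e02, e03, e04, e10, e11, e12, e13, e14,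
        e20, e21, e22, e23, e24, e30, e31, e32, e33, e34, e40, e41, e42, e43, e44, z7, z8, smul_zero, add_zero]
    · intro a ha t
      have ht : κ t ≠ 0 := (map_ne_zero κ).2 t.ne_zero
      interval_cases a
      · change ρ _ (Y x 2) = _ • Y x 2
        rw [Y_h D.act h (by norm_num)]
        congr 1
        exact wt_eq ht (a := 0) (by norm_num)
      · change ρ _ ((5 : k) • Y x 3) = _ • (5 : k) • Y x 3
        rw [map_smul, Y_h D.act h (by norm_num), smul_comm]
        congr 1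
        exact wt_eq ht (a := 1) (by norm_num)
      · change ρ _ ((6 : k) • Y x 4) = _ • (6 : k) • Y x 4
        rw [map_smul, Y_h D.act h (by norm_num), smul_comm]
        congr 1
        exact wt_eq ht (a := 2) (by norm_num)
      · change ρ _ ((5 : k) • Y x 5) = _ • (5 : k) • Y x 5
        rw [map_smul, Y_h D.act h (by norm_num), smul_comm]
        congr 1
        exact wt_eq ht (a := 3) (by norm_num)
      · change ρ _ (Y x 6) = _ • Y x 6
        rw [Y_h D.act h (by norm_num)]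
        congr 1
        exact wt_eq ht (a := 4) (by norm_num)
    · intro a ha
      interval_cases a
      · change ρ _ (Y x 2) = _ • Y x 6
        rw [Y_w D.act h hY (by norm_num)]
        norm_num
      · change ρ _ ((5 : k) • Y x 3) = _ • (5 : k) • Y x 5
        rw [map_smul, Y_w D.act h hY (by norm_num)]
        norm_num
      · change ρ _ ((6 : k) • Y x 4) = _ • (6 : k) • Y x 4
        rw [map_smul, Y_w D.act h hY (by norm_num)]
        norm_num
      · change ρ _ ((5 : k) • Y x 5) = _ • (5 : k) • Y x 3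
        rw [map_smul, Y_w D.act h hY (by norm_num)]
        norm_num
      · change ρ _ (Y x 6) = _ • Y x 2
        rw [Y_w D.act h hY (by norm_num)]
        norm_num
  obtain ⟨α, β, hαβ⟩ := D.s4 s hsS (fun c hc => by
    interval_cases c
    · exact tY 2 (by norm_num)
    · change tr1 ((5 : k) • Y x 3) = 0
      rw [tr1_smul, tY 3 (by norm_num), mul_zero]
    · change tr1 ((6 : k) • Y x 4) = 0
      rw [tr1_smul, tY 4 (by norm_num), mul_zero]
    · change tr1 ((5 : k) • Y x 5) = 0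
      rw [tr1_smul, tY 5 (by norm_num), mul_zero]
    · exact tY 6 (by norm_num))
  have hx2 := D.tx 2 (by norm_num)
  -- `T(Y 4, Y 4) = 0`
  have h44 : tf (Y x 4) (Y x 4) = 0 := by
    have h1 := four (n2 k) (n3 k) hx2 hx2 hx2 hx2
    rw [e22, D.xx 2 (by norm_num) 2 (by norm_num)] at h1
    have h3 : (3 : k) * tf (Y x 4) (Y x 4) = 0 := by linear_combination h1
    exact (mul_eq_zero.1 h3).resolve_left (n3 k)
  have hs2 : (6 : k) • Y x 4 = α • x 2 + β • m 2 := hαβ 2 (by norm_num)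
  have hm2 : tf (m 2) (m 2) ≠ 0 := by
    intro h1
    have h2 := tf_str_val hK D.act (n3 k) D.sm D.sm (by norm_num) (by norm_num) (a := 2) (c := 2) (by norm_num) (by norm_num)
    rw [h1] at h2
    norm_num at h2
    exact D.mm h2.symm
  have hβ : β = 0 := by
    have h1 := congrArg (fun y => tf y y) hs2
    simp only [tf_add_left, tf_add_right, tf_smul_left, tf_smul_right, h44, D.xx 2 (by norm_num) 2 (by norm_num),
      D.xm 2 (by norm_num) 2 (by norm_num), tf_comm (m 2) (x 2)] at h1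
    have h3 : β * β * tf (m 2) (m 2) = 0 := by linear_combination -h1
    have h4 := (mul_eq_zero.1 h3).resolve_right hm2
    exact mul_self_eq_zero.1 h4
  subst hβ
  have hcard : 4 < Fintype.card K := by omega
  have hα0 : α = 0 := by
    have h1 := st_cube (n2 k) (n3 k) hx2
    rw [e22, D.xx 2 (by norm_num) 2 (by norm_num), mul_zero, zero_smul] at h1
    have h2 := congrArg (fun y => st (x 2) y) hs2
    simp only [st_smul_right, st_add_right, h1, smul_zero, zero_smul, add_zero] at h2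
    rw [e22] at h2
    have h3 := congrArg (fun y => (6 : k) • y) h2
    simp only [smul_zero] at h3
    rw [smul_comm, hs2, zero_smul, add_zero, smul_smul] at h3
    have h4 := (smul_eq_zero.1 h3.symm).resolve_right (str_ne D.sx hcard D.x0 (by norm_num))
    exact mul_self_eq_zero.1 h4
  subst hα0
  have hz : ∀ c ≤ 4, s c = 0 := fun c hc => by rw [hαβ c hc, zero_smul, zero_smul, add_zero]
  have y2 : Y x 2 = 0 := hz 0 (by norm_num)
  have y3 : Y x 3 = 0 := (smul_eq_zero.1 (hz 1 (by norm_num))).resolve_left (n5 k)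
  have y4 : Y x 4 = 0 := (smul_eq_zero.1 (hz 2 (by norm_num))).resolve_left (n6 k)
  have y5 : Y x 5 = 0 := (smul_eq_zero.1 (hz 3 (by norm_num))).resolve_left (n5 k)
  have y6 : Y x 6 = 0 := hz 4 (by norm_num)
  obtain ⟨a, ha, b, hb', hab⟩ := D.wh
  apply hab
  rw [hY a ha b hb']
  have h9 : a + b ≤ 8 := by omega
  generalize a + b = n at h9
  interval_cases n
  · exact z0
  · exact z1
  · exact y2
  · exact y3
  · exact y4
  · exact y5
  · exact y6
  · exact z7
  · exact z8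

end Cfsg.Agent.R2.H1.A7
end

private theorem dce_3ed82f58c753 : _root_.True := by
  try have : _root_.True := by simp only [_root_.Cfsg.Agent.R2.H1.A7.add1.eq_2]
  try have : _root_.True := by simp only [_root_.Cfsg.Agent.R2.H1.A7.stp._sparseCasesOn_1.else_eq]
  try have : _root_.True := by simp only [_root_.Cfsg.Agent.R2.H1.A7.hs.eq_1]
  try have : _root_.True := by simp only [_root_.Cfsg.Agent.R2.H1.A7.hs.eq_5]
  try have : _root_.True := by simp only [_root_.Cfsg.Agent.R2.H1.A7.add1.eq_def]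
  try have : _root_.True := by simp only [_root_.Cfsg.Agent.R2.H1.A7.stp._sparseCasesOn_2.else_eq]
  try have : _root_.True := by simp only [_root_.Cfsg.Agent.R2.H1.A7.hs.eq_3]
  try have : _root_.True := by simp only [_root_.Cfsg.Agent.R2.H1.A7.hs.eq_4]
  try have : _root_.True := by simp only [_root_.Cfsg.Agent.R2.H1.A7.hq.eq_1]
  try have : _root_.True := by simp only [_root_.Cfsg.Agent.R2.H1.A7.add1.eq_1]
  try have : _root_.True := by simp only [_root_.Cfsg.Agent.R2.H1.A7.hs.eq_2]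
  exact _root_.True.intro
end

-- part: R2/H1/A7/S8
section
prune_inst 0x40010022020000040500100000818100042000000000806401080400a00009000800002001021228100100000060010000000200000000000000000600000000000280080000000008000000010000000000000000000000000000000004004010000
set_option linter.all false
open scoped Cfsg.Agent.FastGrp

-- part: R2/H1/A7/RowsB
section
/-!
# The rows for the form `T(y_n, y_m)` on products (helper1, S5931, p = 7)
-/

set_option autoImplicit false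

namespace Cfsg.Agent.R2.H1.A7

/-- the code of `T(y_n, y_m)` -/
def cdB (n m : ℕ) : ℕ := n + 9 * m

/-- the names of the rows -/
inductive RowB
  | t (n m : ℕ)
  | s (n m : ℕ)
  | u (n m : ℕ)
  | w (n m : ℕ)
  | e (a b c d : ℕ)

/-- the row of the unipotent element -/
def rowUB (n m : ℕ) : List (ℕ × ℤ) :=
  ((List.range (4 - hb n + 1)).flatMap fun i => (List.range (4 - (n - hb n) + 1)).flatMap fun j =>
    (List.range (4 - hb m + 1)).flatMap fun l => (List.range (4 - (m - hb m) + 1)).flatMap fun q =>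
      [(cdB (n + i + j) (m + l + q), ((4 - hb n).choose i : ℤ) * (((4 - (n - hb n)).choose j : ℤ) *
        (((4 - hb m).choose l : ℤ) * ((4 - (m - hb m)).choose q : ℤ))))]) ++ [(cdB n m, -1)]

/-- the rows -/
def rowB : RowB → List (ℕ × ℤ)
  | .t n m => [(cdB n m, 3 ^ (n + m) * 5 ^ (16 - (n + m)) - 1)]
  | .s n m => [(cdB n m, 1), (cdB m n, -1)]
  | .u n m => rowUB n m
  | .w n m => [(cdB n m, 1), (cdB (8 - n) (8 - m), -(-1) ^ (n + m))]
  | .e a b c d => [(cdB (a + b) (c + d), 1), (cdB (a + c) (b + d), 1), (cdB (a + d) (b + c), 1)]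

/-- the ranges -/
def okB : RowB → Bool
  | .t n m => decide (n ≤ 8) && decide (m ≤ 8)
  | .s n m => decide (n ≤ 8) && decide (m ≤ 8)
  | .u n m => decide (n ≤ 8) && decide (m ≤ 8)
  | .w n m => decide (n ≤ 8) && decide (m ≤ 8)
  | .e a b c d => decide (a ≤ 4) && decide (b ≤ 4) && decide (c ≤ 4) && decide (d ≤ 4)

/-- the torus rows -/
def idsTB : List RowB := (List.range 9).flatMap fun n => (List.range 9).map fun m => .t n m

def idsB : List RowB := [.u 3 8, .u 4 1, .u 4 7, .u 5 0, .u 5 6, .w 6 8, .s 7 1, .w 7 7, .s 8 0, .u 8 2, .s 8 3, .w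
  8 3, .w 8 6, .e 0 0 4 4, .e 0 1 3 4, .e 0 2 2 4, .e 0 3 4 4, .e 1 1 2 4, .e 1 2 4 4, .e 2 2 3 4, .s 0 5, .u 1 2,
  .s 1 4, .w 1 4, .w 2 3, .s 2 6, .s 3 2]

theorem okBs : ((idsTB ++ idsB).all okB) = true := by decide +kernel

theorem prgB : prg 7 ((idsTB ++ idsB).map rowB) 0 = 2 ^ 81 - 1 := by decide +kernel

end Cfsg.Agent.R2.H1.A7
end

-- part: R2/H1/A7/FourB
section
/-!
# `p = 7`, the products of `x` are not all isotropic (helper1, S5931)
-/

set_option autoImplicit false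
set_option linter.unusedSectionVars false
set_option linter.unusedSimpArgs false

namespace Cfsg.Agent.R2.H1.A7

open Cfsg Cfsg.Lie Module Cfsg.Agent.H952.F4 Cfsg.Agent.H952.F4.Jord
open Cfsg.Agent.ChevalleyStructure.E6Min.Tables Cfsg.Agent.ChevalleyStructure.E6Min.Basic
open Cfsg.Agent.R2.F4N (Str)
open Cfsg.Agent.R2.F4L (Act)
open Cfsg.Agent.H952.F4.FixV (W0 mem_W0 finrank_W0 trL tfL tfL_apply tr1_sub tf_sub_left tf_sub_right)
open Cfsg.Agent.R2.H1.F4
open Finset

universe u v w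

section lin

variable {k : Type u} [Field k]

theorem tf_zl (y : I27 → k) : tf (0 : I27 → k) y = 0 := by
  have := tf_smul_left (0 : k) (0 : I27 → k) y
  rwa [zero_smul, zero_mul] at this

theorem st_zl (y : I27 → k) : st (0 : I27 → k) y = 0 := by
  have := st_smul_left (0 : k) (0 : I27 → k) y
  rwa [zero_smul, zero_smul] at this

theorem st_zr (y : I27 → k) : st y (0 : I27 → k) = 0 := by rw [st_comm, st_zl]

/-- the form on products -/
noncomputable def P4 (x y z w : I27 → k) : k := tf (st x y) (st z w)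

theorem P4_s1 {ι : Type*} (s : Finset ι) (c : ι → k) (x : ι → (I27 → k)) (y z w : I27 → k) :
    P4 (∑ i ∈ s, c i • x i) y z w = ∑ i ∈ s, c i * P4 (x i) y z w := by
  classical
  induction s using Finset.induction_on with
  | empty => simp only [sum_empty]; unfold P4; rw [st_zl, tf_zl]
  | insert a s ha ih =>
    rw [sum_insert ha, sum_insert ha, ← ih]
    unfold P4
    rw [st_add_left, tf_add_left, st_smul_left, tf_smul_left]

theorem P4_s2 {ι : Type*} (s : Finset ι) (c : ι → k) (y : ι → (I27 → k)) (x z w : I27 → k) :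
    P4 x (∑ i ∈ s, c i • y i) z w = ∑ i ∈ s, c i * P4 x (y i) z w := by
  have h : ∀ y, P4 x y z w = P4 y x z w := fun y => by unfold P4; rw [st_comm x y]
  rw [h, P4_s1]
  exact sum_congr rfl fun i _ => by rw [h]

theorem P4_sw (x y z w : I27 → k) : P4 x y z w = P4 z w x y := by unfold P4; rw [tf_comm]

theorem P4_s3 {ι : Type*} (s : Finset ι) (c : ι → k) (z : ι → (I27 → k)) (x y w : I27 → k) :
    P4 x y (∑ i ∈ s, c i • z i) w = ∑ i ∈ s, c i * P4 x y (z i) w := by
  rw [P4_sw, P4_s1]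
  exact sum_congr rfl fun i _ => by rw [P4_sw]

theorem P4_s4 {ι : Type*} (s : Finset ι) (c : ι → k) (w : ι → (I27 → k)) (x y z : I27 → k) :
    P4 x y z (∑ i ∈ s, c i • w i) = ∑ i ∈ s, c i * P4 x y z (w i) := by
  rw [P4_sw, P4_s2]
  exact sum_congr rfl fun i _ => by rw [P4_sw]

theorem P4_smul (α β γ δ : k) (X Y Z W : I27 → k) : P4 (α • X) (β • Y) (γ • Z) (δ • W) = α * β * γ * δ * P4 X Y Z W := by
  unfold P4
  rw [st_smul_left, st_smul_right, st_smul_left, st_smul_right, tf_smul_left, tf_smul_left, tf_smul_right, tf_smul_right]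
  ring

end lin

variable {k : Type u} [Field k] {K : Type w} [Field K] [Fintype K] {κ : K →+* k}
variable {ρ : Representation k (Matrix.SpecialLinearGroup (Fin 2) K) (I27 → k)}
variable {x m v : ℕ → (I27 → k)} [Fact (Nat.Prime 7)] [CharP k 7]

theorem P4_inv (H : Act ρ) (g : Matrix.SpecialLinearGroup (Fin 2) K) (x y z w : I27 → k) :
    P4 (ρ g x) (ρ g y) (ρ g z) (ρ g w) = P4 x y z w := by
  unfold P4
  rw [st_inv H, st_inv H, H.tf]

/-- the values -/
noncomputable def fB (x : ℕ → (I27 → k)) (i : ℕ) : k := tf (Y x (i % 9)) (Y x (i / 9))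

theorem fB_cd {n m : ℕ} (hn : n ≤ 8) : fB x (cdB n m) = tf (Y x n) (Y x m) := by
  unfold fB cdB
  have h1 : (n + 9 * m) % 9 = n := by omega
  have h2 : (n + 9 * m) / 9 = m := by omega
  rw [h1, h2]

theorem hb_spec {n : ℕ} (hn : n ≤ 8) : hb n ≤ 4 ∧ n - hb n ≤ 4 ∧ hb n + (n - hb n) = n := by
  unfold hb
  omega

/-- the hypotheses -/
structure HB (κ : K →+* k) (ρ : Representation k (Matrix.SpecialLinearGroup (Fin 2) K) (I27 → k)) (x : ℕ → (I27 → k)) :
    Prop where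
  act : Act ρ
  s : Str κ ρ 4 x
  tr : ∀ a ≤ 4, tr1 (x a) = 0
  xx : ∀ a ≤ 4, ∀ b ≤ 4, tf (x a) (x b) = 0
  xxx : ∀ a ≤ 4, ∀ b ≤ 4, ∀ c ≤ 4, tf (st (x a) (x b)) (x c) = 0
  md : ∀ b ≤ 4, ∀ c ≤ 4, ∃ l : k, ∃ i ≤ 4, st (x b) (x c) = Y x (b + c) + l • x i

theorem HB.eq (H : HB κ ρ x) {a b c d : ℕ} (ha : a ≤ 4) (hb' : b ≤ 4) (hc : c ≤ 4) (hd : d ≤ 4) :
    P4 (x a) (x b) (x c) (x d) = fB x (cdB (a + b) (c + d)) := by
  rw [fB_cd (by omega)]
  unfold P4
  obtain ⟨l, i, hi, e⟩ := H.md a ha b hb'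
  rw [e, tf_add_left, tf_smul_left, tf_comm (x i), H.xxx c hc d hd i hi, mul_zero, add_zero]
  obtain ⟨l', i', hi', e'⟩ := H.md c hc d hd
  rw [e', tf_add_right, tf_smul_right]
  have h1 := hb_spec (n := a + b) (by omega)
  have h2 : tf (Y x (a + b)) (x i') = 0 := H.xxx _ h1.1 _ h1.2.1 i' hi'
  rw [h2, mul_zero, add_zero]

theorem inv3 : ((3 : k))⁻¹ = 5 := inv_eq_of_mul_eq_one_right (by linear_combination 2 * sv7 k)

theorem HB.row_t (H : HB κ ρ x) {n m : ℕ} (hn : n ≤ 8) (hm : m ≤ 8) : ev (fB x) (rowB (.t n m)) = 0 := by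
  have hcK : CharP K 7 := (κ.charP_iff κ.injective 7).2 inferInstance
  have h3 : (3 : K) ≠ 0 := n3 K
  have h4 : tf (ρ (Cfsg.Agent.H943.SL2Rel.h (Units.mk0 (3 : K) h3)) (Y x n))
    (ρ (Cfsg.Agent.H943.SL2Rel.h (Units.mk0 (3 : K) h3)) (Y x m)) = tf (Y x n) (Y x m) := H.act.tf _ _ _
  rw [Y_h H.act H.s hn, Y_h H.act H.s hm, tf_smul_left, tf_smul_right] at h4
  have h5 : κ ((Units.mk0 (3 : K) h3 : Kˣ) : K) = 3 := by
    rw [Units.val_mk0, map_ofNat]
  rw [h5, inv3] at h4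
  unfold rowB
  rw [ev_single, fB_cd hn]
  push_cast
  have h7 : (3 : k) ^ (n + m) * 5 ^ (16 - (n + m)) = 3 ^ n * 5 ^ (8 - n) * (3 ^ m * 5 ^ (8 - m)) := by
    have e2 : 16 - (n + m) = (8 - n) + (8 - m) := by omega
    rw [e2, pow_add, pow_add]
    ring
  rw [h7]
  linear_combination h4

theorem HB.row_w (H : HB κ ρ x) {n m : ℕ} (hn : n ≤ 8) (hm : m ≤ 8) : ev (fB x) (rowB (.w n m)) = 0 := by
  have h1 := hb_spec hn
  have h2 := hb_spec hm
  have h4 := P4_inv H.act (Cfsg.Agent.H943.SL2Rel.w) (x (hb n)) (x (n - hb n)) (x (hb m)) (x (m - hb m))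
  rw [H.s.w _ h1.1, H.s.w _ h1.2.1, H.s.w _ h2.1, H.s.w _ h2.2.1, P4_smul,
    H.eq (by omega) (by omega) (by omega) (by omega), H.eq h1.1 h1.2.1 h2.1 h2.2.1] at h4
  have e1 : 4 - hb n + (4 - (n - hb n)) = 8 - n := by omega
  have e2 : 4 - hb m + (4 - (m - hb m)) = 8 - m := by omega
  rw [e1, e2, h1.2.2, h2.2.2] at h4
  unfold rowB
  rw [ev_cons, ev_single]
  push_cast
  have e3 : (-1 : k) ^ (n + m) = (-1) ^ hb n * (-1) ^ (n - hb n) * (-1) ^ hb m * (-1) ^ (m - hb m) := by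
    rw [← pow_add, ← pow_add, ← pow_add]
    congr 1
    omega
  rw [e3]
  linear_combination -h4

theorem HB.row_s {n m : ℕ} (hn : n ≤ 8) (hm : m ≤ 8) : ev (fB x) (rowB (.s n m)) = 0 := by
  unfold rowB
  rw [ev_cons, ev_single, fB_cd hn, fB_cd hm, tf_comm (Y x m)]
  push_cast
  ring

theorem HB.row_e (H : HB κ ρ x) {a b c d : ℕ} (ha : a ≤ 4) (hb' : b ≤ 4) (hc : c ≤ 4) (hd : d ≤ 4) :
    ev (fB x) (rowB (.e a b c d)) = 0 := by
  unfold rowB
  rw [ev_cons, ev_cons, ev_single, ← H.eq ha hb' hc hd, ← H.eq ha hc hb' hd, ← H.eq ha hd hb' hc]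
  have h5 := four (n2 k) (n3 k) (H.tr a ha) (H.tr b hb') (H.tr c hc) (H.tr d hd)
  rw [H.xx a ha b hb', H.xx a ha c hc, H.xx a ha d hd] at h5
  unfold P4
  push_cast
  linear_combination h5

theorem HB.row_u (H : HB κ ρ x) {n m : ℕ} (hn : n ≤ 8) (hm : m ≤ 8) : ev (fB x) (rowB (.u n m)) = 0 := by
  have h1 := hb_spec hn
  have h2 := hb_spec hm
  have h4 := P4_inv H.act (Cfsg.Agent.H943.SL2Rel.u 1) (x (hb n)) (x (n - hb n)) (x (hb m)) (x (m - hb m))
  rw [H.s.u _ h1.1, H.s.u _ h1.2.1, H.s.u _ h2.1, H.s.u _ h2.2.1, H.eq h1.1 h1.2.1 h2.1 h2.2.1, h1.2.2, h2.2.2] at h4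
  simp only [P4_s1, map_one, one_pow, mul_one] at h4
  unfold rowB rowUB
  rw [ev_append, ev_flat, ev_single, ← h4]
  have key : ∀ i ∈ range (4 - hb n + 1), ev (fB x) ((List.range (4 - (n - hb n) + 1)).flatMap fun j =>
      (List.range (4 - hb m + 1)).flatMap fun l => (List.range (4 - (m - hb m) + 1)).flatMap fun q =>
      [(cdB (n + i + j) (m + l + q), ((4 - hb n).choose i : ℤ) * (((4 - (n - hb n)).choose j : ℤ) *
        (((4 - hb m).choose l : ℤ) * ((4 - (m - hb m)).choose q : ℤ))))]) = ((4 - hb n).choose i : k) * P4 (x (hb n + i))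
          (∑ j ∈ range (4 - (n - hb n) + 1), ((4 - (n - hb n)).choose j : k) • x (n - hb n + j))
          (∑ l ∈ range (4 - hb m + 1), ((4 - hb m).choose l : k) • x (hb m + l))
          (∑ q ∈ range (4 - (m - hb m) + 1), ((4 - (m - hb m)).choose q : k) • x (m - hb m + q)) := by
    intro i hi
    rw [mem_range] at hi
    rw [ev_flat, P4_s2, mul_sum]
    refine sum_congr rfl fun j hj => ?_
    rw [mem_range] at hj
    rw [ev_flat, P4_s3, mul_sum, mul_sum]
    refine sum_congr rfl fun l hl => ?_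
    rw [mem_range] at hl
    rw [ev_flat, P4_s4, mul_sum, mul_sum, mul_sum]
    refine sum_congr rfl fun q hq => ?_
    rw [mem_range] at hq
    rw [ev_single, H.eq (by omega) (by omega) (by omega) (by omega)]
    have e1 : hb n + i + (n - hb n + j) = n + i + j := by omega
    have e2 : hb m + l + (m - hb m + q) = m + l + q := by omega
    rw [e1, e2]
    push_cast
    ring
  rw [sum_congr rfl key]
  push_cast
  ring

/-- **all the products are isotropic** -/
theorem HB.zero (H : HB κ ρ x) {a b c d : ℕ} (ha : a ≤ 4) (hb' : b ≤ 4) (hc : c ≤ 4) (hd : d ≤ 4) :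
    tf (st (x a) (x b)) (st (x c) (x d)) = 0 := by
  have h1 : P4 (x a) (x b) (x c) (x d) = 0 := by
    rw [H.eq ha hb' hc hd]
    refine prg_zero (p := 7) (fB x) ((idsTB ++ idsB).map rowB) ?_ ?_
    · intro r hr
      rw [List.mem_map] at hr
      obtain ⟨id, hid, rfl⟩ := hr
      have h2 := List.all_eq_true.1 okBs id hid
      cases id with
      | t n m =>
        simp only [okB, Bool.and_eq_true, decide_eq_true_eq] at h2
        exact H.row_t h2.1 h2.2
      | s n m =>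
        simp only [okB, Bool.and_eq_true, decide_eq_true_eq] at h2
        exact HB.row_s h2.1 h2.2
      | u n m =>
        simp only [okB, Bool.and_eq_true, decide_eq_true_eq] at h2
        exact H.row_u h2.1 h2.2
      | w n m =>
        simp only [okB, Bool.and_eq_true, decide_eq_true_eq] at h2
        exact H.row_w h2.1 h2.2
      | e a b c d =>
        simp only [okB, Bool.and_eq_true, decide_eq_true_eq] at h2
        exact H.row_e h2.1.1.1 h2.1.1.2 h2.1.2 h2.2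
    · rw [prgB, Nat.testBit_two_pow_sub_one, decide_eq_true_eq]
      unfold cdB
      omega
  exact h1

end Cfsg.Agent.R2.H1.A7
end

-- part: R2/H1/A7/S2
section
/-!
# `p = 7`, step 2: `T(x * x, x) ≠ 0` (helper1, S5931)
-/

set_option autoImplicit false
set_option linter.unusedSectionVars false
set_option linter.unusedSimpArgs false

namespace Cfsg.Agent.R2.H1.A7

open Cfsg Cfsg.Lie Module Cfsg.Agent.H952.F4 Cfsg.Agent.H952.F4.Jord
open Cfsg.Agent.ChevalleyStructure.E6Min.Tables Cfsg.Agent.ChevalleyStructure.E6Min.Basic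
open Cfsg.Agent.R2.F4N (Str)
open Cfsg.Agent.R2.F4L (Act)
open Cfsg.Agent.H952.F4.FixV (W0 mem_W0 finrank_W0 trL tfL tfL_apply tr1_sub tf_sub_left tf_sub_right)
open Cfsg.Agent.R2.H1.F4
open Finset

universe u v w

variable {k : Type u} [Field k]

/-- the span of the products -/
noncomputable def prods (x : ℕ → (I27 → k)) : Submodule k (I27 → k) :=
  Submodule.span k {w | ∃ a, a ≤ 4 ∧ ∃ b, b ≤ 4 ∧ w = st (x a) (x b)}

theorem mem_prods {x : ℕ → (I27 → k)} {a b : ℕ} (ha : a ≤ 4) (hb' : b ≤ 4) : st (x a) (x b) ∈ prods x :=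
  Submodule.subset_span ⟨a, ha, b, hb', rfl⟩

theorem prods_le {x : ℕ → (I27 → k)} {S : Submodule k (I27 → k)} (h : ∀ a ≤ 4, ∀ b ≤ 4, st (x a) (x b) ∈ S) : prods x ≤ S := by
  unfold prods
  rw [Submodule.span_le]
  rintro w ⟨a, ha, b, hb', rfl⟩
  exact h a ha b hb'

theorem mem_spx {n : ℕ} {x : ℕ → (I27 → k)} {a : ℕ} (ha : a ≤ n) : x a ∈ spx n x := Submodule.subset_span ⟨a, ha, rfl⟩

theorem spx_le {n : ℕ} {x : ℕ → (I27 → k)} {S : Submodule k (I27 → k)} (h : ∀ a ≤ n, x a ∈ S) : spx n x ≤ S := by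
  unfold spx
  rw [Submodule.span_le]
  rintro w ⟨a, ha, rfl⟩
  exact h a ha

/-- the product as a bilinear map -/
noncomputable def stL (k : Type u) [Field k] : (I27 → k) →ₗ[k] (I27 → k) →ₗ[k] (I27 → k) :=
  LinearMap.mk₂ k st st_add_left st_smul_left st_add_right st_smul_right

seal _root_.Finset.card _root_.Finset.sum _root_.Function.update _root_.Matrix.det _root_.Finset.prod in
theorem st_mem_prods {x : ℕ → (I27 → k)} {y z : I27 → k} (hy : y ∈ spx 4 x) (hz : z ∈ spx 4 x) : st y z ∈ prods x := by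
  have h1 : ∀ a ≤ 4, spx 4 x ≤ (prods x).comap (stL k (x a)) := fun a ha => spx_le fun b hb' => mem_prods ha hb'
  have h2 : spx 4 x ≤ (prods x).comap ((stL k).flip z) := (spx_le fun a ha => (h1 a ha hz :) : _)
  exact h2 hy

variable {K : Type w} [Field K] [Fintype K] {κ : K →+* k}
variable {ρ : Representation k (Matrix.SpecialLinearGroup (Fin 2) K) (I27 → k)}

theorem prods_stable (H : Act ρ) {x : ℕ → (I27 → k)} (h : Str κ ρ 4 x) (g : Matrix.SpecialLinearGroup (Fin 2) K) :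
    ∀ y ∈ prods x, ρ g y ∈ prods x := by
  have h1 : prods x ≤ (prods x).comap (ρ g) := prods_le fun a ha b hb' => by
    rw [Submodule.mem_comap, ← st_inv H]
    exact st_mem_prods (str_stable h g _ (mem_spx ha)) (str_stable h g _ (mem_spx hb'))
  exact fun y hy => h1 hy

variable {x m v : ℕ → (I27 → k)} [Fact (Nat.Prime 7)] [CharP k 7]

/-- vectors of the span almost fixed by `u 1` -/
theorem fix_top (hK : 7 ≤ Fintype.card K) (h : Str κ ρ 4 x) (h0 : x 0 ≠ 0) {w : I27 → k} (hw : w ∈ spx 4 x) {b : k}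
    (hu : ρ (Cfsg.Agent.H943.SL2Rel.u 1) w = w + b • x 4) : ∃ c : k, w = b • x 3 + c • x 4 := by
  obtain ⟨c, rfl⟩ := spx_coord hw
  simp only [sum_range_succ, sum_range_zero, zero_add, map_add, map_smul, s4u0 h, s4u1 h, s4u2 h, s4u3 h, s4u4 h, map_one,
    one_pow, mul_one] at hu
  have h1 := str_li h (by omega) h0 (c := fun a => match a with
    | 0 => 0
    | 1 => 4 * c 0
    | 2 => 6 * c 0 + 3 * c 1
    | 3 => 4 * c 0 + 3 * c 1 + 2 * c 2
    | _ => c 0 + c 1 + c 2 + c 3 - b) (by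
      simp only [sum_range_succ, sum_range_zero, zero_add]
      linear_combination (norm := module) hu)
  have e1 := h1 1 (by norm_num)
  have e2 := h1 2 (by norm_num)
  have e3 := h1 3 (by norm_num)
  have e4 := h1 4 (by norm_num)
  simp only at e1 e2 e3 e4
  have c0 : c 0 = 0 := (mul_eq_zero.1 e1).resolve_left (n4 k)
  rw [c0, mul_zero, zero_add] at e2 e3
  have c1 : c 1 = 0 := (mul_eq_zero.1 e2).resolve_left (n3 k)
  rw [c1, mul_zero, zero_add] at e3
  have c2 : c 2 = 0 := (mul_eq_zero.1 e3).resolve_left (n2 k)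
  rw [c0, c1, c2] at e4
  refine ⟨c 4, ?_⟩
  simp only [sum_range_succ, sum_range_zero, zero_add, c0, c1, c2, zero_smul]
  have c3 : c 3 = b := by linear_combination e4
  rw [c3]

/-- the zero weight vectors -/
theorem fix_h (hK : 7 ≤ Fintype.card K) (h : Str κ ρ 4 x) (h0 : x 0 ≠ 0) {w : I27 → k} (hw : w ∈ spx 4 x)
    (hu : ∀ t : Kˣ, ρ (Cfsg.Agent.H943.SL2Rel.h t) w = w) : ∃ c : k, w = c • x 2 := by
  obtain ⟨c, rfl⟩ := spx_coord hw
  have hcK : CharP K 7 := (κ.charP_iff κ.injective 7).2 inferInstance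
  have h3 : (3 : K) ≠ 0 := n3 K
  have h5 : κ ((Units.mk0 (3 : K) h3 : Kˣ) : K) = 3 := by
    rw [Units.val_mk0, map_ofNat]
  have h4 := hu (Units.mk0 (3 : K) h3)
  rw [map_sum] at h4
  have h6 : ∑ a ∈ range (4 + 1), ρ (Cfsg.Agent.H943.SL2Rel.h (Units.mk0 (3 : K) h3)) (c a • x a) =
      ∑ a ∈ range (4 + 1), (c a * (3 ^ a * 5 ^ (4 - a))) • x a := by
    refine sum_congr rfl fun a ha => ?_
    rw [mem_range] at ha
    rw [map_smul, h.h a (by omega), h5, inv3, smul_smul]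
  rw [h6, ← sub_eq_zero, ← sum_sub_distrib] at h4
  have h1 := str_li h (by omega) h0 (c := fun a => c a * (3 ^ a * 5 ^ (4 - a)) - c a) (by
    rw [← h4]
    exact sum_congr rfl fun a _ => sub_smul _ _ _)
  have e0 := h1 0 (by norm_num)
  have e1 := h1 1 (by norm_num)
  have e3 := h1 3 (by norm_num)
  have e4 := h1 4 (by norm_num)
  have h7 := sv7 k
  norm_num only [] at e0 e1 e3 e4
  have c0 : c 0 = 0 := by linear_combination e0 - 89 * c 0 * h7
  have c1 : c 1 = 0 := by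
    have : (3 : k) * c 1 = 0 := by linear_combination e1 - 53 * c 1 * h7
    exact (mul_eq_zero.1 this).resolve_left (n3 k)
  have c3 : c 3 = 0 := by linear_combination e3 - 19 * c 3 * h7
  have c4 : c 4 = 0 := by
    have : (3 : k) * c 4 = 0 := by linear_combination e4 - 11 * c 4 * h7
    exact (mul_eq_zero.1 this).resolve_left (n3 k)
  refine ⟨c 2, ?_⟩
  simp only [sum_range_succ, sum_range_zero, zero_add, c0, c1, c3, c4, zero_smul, add_zero]

/-- `X * X` is not contained in `X` -/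
theorem Dat.not_le (D : Dat κ ρ x m v) (hK : 7 ≤ Fintype.card K) (hle : prods x ≤ spx 4 x) : False := by
  obtain ⟨α, hα⟩ := D.hs_eq hK
  have hα0 := D.al_ne hK hα
  obtain ⟨-, -, -, -, -, e33⟩ := rels D.hq0 hα
  have h := D.sx
  have hcard : 4 < Fintype.card K := by omega
  have xne : ∀ a ≤ 4, x a ≠ 0 := fun a ha => str_ne h hcard D.x0 ha
  have hmem : ∀ a ≤ 4, ∀ b ≤ 4, st (x a) (x b) ∈ spx 4 x := fun a ha b hb' => hle (mem_prods ha hb')
  have hl3 : ∀ a ≤ 4, ∀ b ≤ 4, (2 : k) • st (x a) (st (x a) (x b)) + st (x b) (st (x a) (x a)) = 0 := by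
    intro a ha b hb'
    have h1 := lin3 (n2 k) (n3 k) (D.tx a ha) (D.tx a ha) (D.tx b hb')
    rw [D.xx a ha b hb', D.xx a ha a ha] at h1
    linear_combination (norm := module) h1
  have hcube : ∀ a ≤ 4, st (x a) (st (x a) (x a)) = 0 := by
    intro a ha
    rw [st_cube (n2 k) (n3 k) (D.tx a ha), D.xx a ha a ha, mul_zero, zero_smul]
  -- `x 4 * x 4 = 0`
  have e44 : st (x 4) (x 4) = 0 := by
    obtain ⟨c, hc⟩ := fix_top (b := 0) hK h D.x0 (hmem 4 (by norm_num) 4 (by norm_num)) (by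
      rw [← st_inv D.act, s4u4 h, zero_smul, add_zero])
    rw [zero_smul, zero_add] at hc
    have h1 := hcube 4 (by norm_num)
    rw [hc, st_smul_right, hc, smul_smul] at h1
    have h2 := (smul_eq_zero.1 h1).resolve_right (xne 4 (by norm_num))
    rw [hc, mul_self_eq_zero.1 h2, zero_smul]
  -- `x 3 * x 4 = 0`
  obtain ⟨c, hc⟩ := fix_top (b := 0) hK h D.x0 (hmem 3 (by norm_num) 4 (by norm_num)) (by
    rw [← st_inv D.act, s4u4 h, s4u3 h, st_add_left, st_smul_left, e44, smul_zero, zero_smul])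
  rw [zero_smul, zero_add] at hc
  have hc' : st (x 4) (x 3) = c • x 4 := by rw [st_comm, hc]
  obtain ⟨c', h33⟩ := fix_top (b := 2 * c) hK h D.x0 (hmem 3 (by norm_num) 3 (by norm_num)) (by
    rw [← st_inv D.act, s4u3 h, map_one, one_smul, st_add_left, st_add_right, st_add_right, e44, hc, hc']
    module)
  have hc0 : c = 0 := by
    have h1 := hl3 3 (by norm_num) 4 (by norm_num)
    rw [h33, hc, st_smul_right, hc, st_add_right, st_smul_right, st_smul_right, e44, hc'] at h1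
    have h2 : (4 * (c * c)) • x 4 = 0 := by linear_combination (norm := module) h1
    have h3 := (smul_eq_zero.1 h2).resolve_right (xne 4 (by norm_num))
    exact mul_self_eq_zero.1 ((mul_eq_zero.1 h3).resolve_left (n4 k))
  rw [hc0, zero_smul] at hc hc'
  -- `x 2 * x 4`
  obtain ⟨γ, hγ⟩ := fix_top (b := 0) hK h D.x0 (hmem 2 (by norm_num) 4 (by norm_num)) (by
    rw [← st_inv D.act, s4u4 h, s4u2 h, st_add_left, st_add_left, st_smul_left, st_smul_left, e44, hc, smul_zero, smul_zero,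
      zero_smul, add_zero])
  rw [zero_smul, zero_add] at hγ
  -- `x 2 * x 2 = 0`
  obtain ⟨δ, hδ⟩ := fix_h hK h D.x0 (hmem 2 (by norm_num) 2 (by norm_num)) (fun t => by
    have ht : κ t ≠ 0 := (map_ne_zero κ).2 t.ne_zero
    rw [← st_inv D.act, h.h 2 (by norm_num), st_smul_left, st_smul_right, smul_smul]
    have e : κ t ^ 2 * (κ t)⁻¹ ^ (4 - 2) = 1 := by
      rw [← mul_pow, mul_inv_cancel₀ ht, one_pow]
    rw [e, one_mul, one_smul])
  have hδ0 : δ = 0 := by
    have h1 := hcube 2 (by norm_num)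
    rw [hδ, st_smul_right, hδ, smul_smul] at h1
    exact mul_self_eq_zero.1 ((smul_eq_zero.1 h1).resolve_right (xne 2 (by norm_num)))
  rw [hδ0, zero_smul] at hδ
  have hγ0 : γ = 0 := by
    have h1 := hl3 2 (by norm_num) 4 (by norm_num)
    rw [hδ, hγ, st_smul_right, hγ, st_zr, add_zero, smul_smul, smul_smul] at h1
    have h2 := (smul_eq_zero.1 h1).resolve_right (xne 4 (by norm_num))
    have h3 : (2 : k) * (γ * γ) = 0 := by linear_combination h2
    exact mul_self_eq_zero.1 ((mul_eq_zero.1 h3).resolve_left (n2 k))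
  rw [hγ0, zero_smul] at hγ
  rw [st_comm (x 4) (x 2), hγ, zero_sub] at e33
  -- `x 2 * x 3`
  obtain ⟨c₂, hz⟩ := fix_top (b := -6 * α) hK h D.x0 (hmem 2 (by norm_num) 3 (by norm_num)) (by
    rw [← st_inv D.act, s4u3 h, s4u2 h, map_one, one_smul, one_pow, one_smul, mul_one, st_add_left, st_add_left, st_add_right,
      st_add_right, st_add_right, st_smul_left, st_smul_left, e44, hc, hc', hγ, e33]
    module)
  have h1 := hl3 2 (by norm_num) 3 (by norm_num)
  rw [hδ, st_zr, add_zero] at h1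
  have h2 := (smul_eq_zero.1 h1).resolve_left (n2 k)
  have h3 : st (x 2) (st (x 2) (x 3)) = (-6 * α) • st (x 2) (x 3) := by
    conv_lhs => rw [hz]
    rw [st_add_right, st_smul_right, st_smul_right, hγ, smul_zero, add_zero]
  rw [h3] at h2
  have h6α : (-6 * α : k) ≠ 0 := mul_ne_zero (neg_ne_zero.2 (n6 k)) hα0
  have h4 := (smul_eq_zero.1 h2).resolve_left h6α
  rw [h4] at hz
  have h5 := str_li h (by omega) D.x0 (c := fun a => match a with
    | 0 => 0
    | 1 => 0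
    | 2 => 0
    | 3 => -6 * α
    | _ => c₂) (by
      simp only [sum_range_succ, sum_range_zero, zero_add, zero_smul]
      exact hz.symm) 3 (by norm_num)
  exact h6α h5

/-- **step 2** -/
theorem Dat.c1_ne (D : Dat κ ρ x m v) (hK : 7 ≤ Fintype.card K) : tf (st (x 2) (x 2)) (x 2) ≠ 0 := by
  intro h0
  obtain ⟨α, hα⟩ := D.hs_eq hK
  obtain ⟨c₀, hc⟩ := tab222 hK D.act D.sx D.sx D.sx
  have hc0 : c₀ = 0 := by
    have h1 := hc 2 2 2
    have t1 : tau 2 2 2 2 2 2 = -6 := by decide +kernel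
    rw [t1, h0, mul_zero, mul_zero, mul_zero] at h1
    push_cast at h1
    have h2 : (6 : k) * c₀ = 0 := by linear_combination h1
    exact (mul_eq_zero.1 h2).resolve_left (n6 k)
  have hch : ∀ a ≤ 4, ((4 : ℕ).choose a : k) ≠ 0 := fun a ha => R2.F4N.choose_ne (p := 7) (by norm_num) ha
  have hxxx : ∀ a ≤ 4, ∀ b ≤ 4, ∀ c ≤ 4, tf (st (x a) (x b)) (x c) = 0 := by
    intro a ha b hb' c hc'
    have h1 := hc a b c
    rw [hc0, zero_mul] at h1
    exact (((mul_eq_zero.1 h1).resolve_left (hch a ha) |> mul_eq_zero.1).resolve_left (hch b hb') |> mul_eq_zero.1).resolve_left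
      (hch c hc')
  have H : HB κ ρ x := ⟨D.act, D.sx, D.tx, D.xx, hxxx, fun b hb' c hc' => by
    obtain ⟨l, i, hi, e⟩ := md D.hq0 hα b hb' c hc'
    exact ⟨l * α, i, hi, e⟩⟩
  refine D.not_le hK (D.iso (prods x) (fun g => prods_stable D.act D.sx g) ?_ ?_)
  · have h1 : prods x ≤ LinearMap.ker (trL k) := prods_le fun a ha b hb' => by
      rw [LinearMap.mem_ker]
      exact tr1_st (n3 k) (D.tx a ha)
    exact fun y hy => h1 hy
  · intro y hy z hz
    have h1 : ∀ a ≤ 4, ∀ b ≤ 4, ∀ z ∈ prods x, tf (st (x a) (x b)) z = 0 := by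
      intro a ha b hb' z hz
      have h2 : prods x ≤ LinearMap.ker (tfL k (st (x a) (x b))) := prods_le fun c hc' d hd => by
        rw [LinearMap.mem_ker]
        exact H.zero ha hb' hc' hd
      exact h2 hz
    have h3 : prods x ≤ LinearMap.ker (tfL k z) := prods_le fun a ha b hb' => by
      rw [LinearMap.mem_ker, tfL_apply, tf_comm]
      exact h1 a ha b hb' z hz
    have h4 := h3 hy
    rw [LinearMap.mem_ker, tfL_apply, tf_comm] at h4
    exact h4

end Cfsg.Agent.R2.H1.A7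
end

-- part: R2/H1/A7/Four
section
/-!
# The four-linear form `T(x * (y * z), u)` on strings, `p = 7` (helper1, S5931)

`four_zero` : `T(x_a * (x_b * x_c), z_d) = 0`.
-/

set_option autoImplicit false
set_option linter.unusedSectionVars false

namespace Cfsg.Agent.R2.H1.A7

open Cfsg Cfsg.Lie Module Cfsg.Agent.H952.F4 Cfsg.Agent.H952.F4.Jord
open Cfsg.Agent.ChevalleyStructure.E6Min.Tables Cfsg.Agent.ChevalleyStructure.E6Min.Basic
open Cfsg.Agent.R2.F4N (Str)
open Cfsg.Agent.R2.F4L (Act)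
open Cfsg.Agent.R2.H1.F4
open Finset

universe u v w

section lin

variable {k : Type u} [Field k]

/-- the four-linear form -/
noncomputable def G4 (x y z w : I27 → k) : k := tf (st x (st y z)) w

theorem tf_zero_l (y : I27 → k) : tf (0 : I27 → k) y = 0 := by
  have := tf_smul_left (0 : k) (0 : I27 → k) y
  rwa [zero_smul, zero_mul] at this

theorem st_zero_l (y : I27 → k) : st (0 : I27 → k) y = 0 := by
  have := st_smul_left (0 : k) (0 : I27 → k) y
  rwa [zero_smul, zero_smul] at this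

theorem st_zero_r (y : I27 → k) : st y (0 : I27 → k) = 0 := by rw [st_comm, st_zero_l]

theorem G4_s1 {ι : Type*} (s : Finset ι) (c : ι → k) (x : ι → (I27 → k)) (y z w : I27 → k) :
    G4 (∑ i ∈ s, c i • x i) y z w = ∑ i ∈ s, c i * G4 (x i) y z w := by
  classical
  induction s using Finset.induction_on with
  | empty => simp only [sum_empty]; unfold G4; rw [st_zero_l, tf_zero_l]
  | insert a s ha ih =>
    rw [sum_insert ha, sum_insert ha, ← ih]
    unfold G4
    rw [st_add_left, tf_add_left, st_smul_left, tf_smul_left]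

theorem G4_s2 {ι : Type*} (s : Finset ι) (c : ι → k) (y : ι → (I27 → k)) (x z w : I27 → k) :
    G4 x (∑ i ∈ s, c i • y i) z w = ∑ i ∈ s, c i * G4 x (y i) z w := by
  classical
  induction s using Finset.induction_on with
  | empty => simp only [sum_empty]; unfold G4; rw [st_zero_l, st_zero_r, tf_zero_l]
  | insert a s ha ih =>
    rw [sum_insert ha, sum_insert ha, ← ih]
    unfold G4
    rw [st_add_left, st_add_right, tf_add_left, st_smul_left, st_smul_right, tf_smul_left]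

theorem G4_s3 {ι : Type*} (s : Finset ι) (c : ι → k) (z : ι → (I27 → k)) (x y w : I27 → k) :
    G4 x y (∑ i ∈ s, c i • z i) w = ∑ i ∈ s, c i * G4 x y (z i) w := by
  have h : ∀ z, G4 x y z w = G4 x z y w := fun z => by unfold G4; rw [st_comm y z]
  rw [h, G4_s2]
  exact sum_congr rfl fun i _ => by rw [h]

theorem G4_s4 {ι : Type*} (s : Finset ι) (c : ι → k) (w : ι → (I27 → k)) (x y z : I27 → k) :
    G4 x y z (∑ i ∈ s, c i • w i) = ∑ i ∈ s, c i * G4 x y z (w i) := by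
  classical
  induction s using Finset.induction_on with
  | empty => simp only [sum_empty]; unfold G4; rw [tf_comm, tf_zero_l]
  | insert a s ha ih =>
    rw [sum_insert ha, sum_insert ha, ← ih]
    unfold G4
    rw [tf_add_right, tf_smul_right]

end lin

section str

variable {k : Type u} [Field k] {K : Type w} [Field K] [Fintype K] {κ : K →+* k}
variable {ρ : Representation k (Matrix.SpecialLinearGroup (Fin 2) K) (I27 → k)}

theorem G4_inv (H : Act ρ) (g : Matrix.SpecialLinearGroup (Fin 2) K) (x y z w : I27 → k) :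
    G4 (ρ g x) (ρ g y) (ρ g z) (ρ g w) = G4 x y z w := by
  unfold G4
  rw [st_inv H, st_inv H, H.tf]

/-- the string `X` -/
structure Xs (κ : K →+* k) (ρ : Representation k (Matrix.SpecialLinearGroup (Fin 2) K) (I27 → k)) (x : ℕ → (I27 → k)) :
    Prop where
  s : Str κ ρ 4 x
  tr : ∀ a ≤ 4, tr1 (x a) = 0
  xx : ∀ a ≤ 4, ∀ b ≤ 4, tf (x a) (x b) = 0
  md : ∀ b ≤ 4, ∀ c ≤ 4, ∃ v ∈ Submodule.span k {w | ∃ a, a ≤ 4 ∧ w = x a},
    st (x b) (x c) = st (x (hb (b + c))) (x (b + c - hb (b + c))) + v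

/-- the values -/
noncomputable def fE (x z : ℕ → (I27 → k)) (i : ℕ) : k :=
  G4 (x (i % 5)) (x (hb (i / 5 % 9))) (x (i / 5 % 9 - hb (i / 5 % 9))) (z (i / 45))

theorem fE_cd (x z : ℕ → (I27 → k)) {a n d : ℕ} (ha : a ≤ 4) (hn : n ≤ 8) :
    fE x z (cd a n d) = G4 (x a) (x (hb n)) (x (n - hb n)) (z d) := by
  unfold fE cd
  have h1 : (a + 5 * (n + 9 * d)) % 5 = a := by omega
  have h2 : (a + 5 * (n + 9 * d)) / 5 % 9 = n := by omega
  have h3 : (a + 5 * (n + 9 * d)) / 45 = d := by omega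
  rw [h1, h2, h3]

variable {x z : ℕ → (I27 → k)} {L : ℕ}

theorem G4_eq (hX : Xs κ ρ x) (hxz : ∀ a ≤ 4, ∀ b ≤ 4, ∀ d ≤ L, tf (st (x a) (x b)) (z d) = 0) {a b c d : ℕ}
    (ha : a ≤ 4) (hb' : b ≤ 4) (hc : c ≤ 4) (hd : d ≤ L) : G4 (x a) (x b) (x c) (z d) = fE x z (cd a (b + c) d) := by
  rw [fE_cd x z ha (by omega)]
  obtain ⟨v, hv, e⟩ := hX.md b hb' c hc
  unfold G4
  rw [e, st_add_right, tf_add_left]
  have h1 : ∀ v ∈ Submodule.span k {w | ∃ a, a ≤ 4 ∧ w = x a}, tf (st (x a) v) (z d) = 0 := by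
    intro v hv
    induction hv using Submodule.span_induction with
    | mem w hw =>
      obtain ⟨b', hb', rfl⟩ := hw
      exact hxz a ha b' hb' d hd
    | zero => rw [st_zero_r, tf_zero_l]
    | add w w' _ _ ih ih' => rw [st_add_right, tf_add_left, ih, ih', add_zero]
    | smul r w _ ih => rw [st_smul_right, tf_smul_left, ih, mul_zero]
  rw [h1 v hv, add_zero]

variable [CharP k 7]

theorem hb_le (n : ℕ) : hb n ≤ 4 := Nat.min_le_right _ _

theorem hb_sub {n : ℕ} (hn : n ≤ 8) : n - hb n ≤ 4 ∧ hb n ≤ n := by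
  unfold hb
  omega

theorem seven : (7 : k) = 0 := by
  have := CharP.cast_eq_zero k 7
  exact_mod_cast this

theorem inv_three : ((3 : k))⁻¹ = 5 := by
  have h7 := seven (k := k)
  have h3 : (3 : k) ≠ 0 := by
    have h1 : ((3 : ℕ) : k) ≠ 0 := by
      intro h
      rw [CharP.cast_eq_zero_iff k 7] at h
      omega
    exact_mod_cast h1
  exact inv_eq_of_mul_eq_one_right (by linear_combination 2 * h7)

theorem row_t (H : Act ρ) (hX : Xs κ ρ x) (hz : Str κ ρ L z) {a n d : ℕ} (ha : a ≤ 4) (hn : n ≤ 8) (hd : d ≤ L) :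
    ev (fE x z) (rowOf L (.t a n d)) = 0 := by
  obtain ⟨h1, h2⟩ := hb_sub hn
  have hcK : CharP K 7 := (κ.charP_iff κ.injective 7).2 inferInstance
  have h3 : (3 : K) ≠ 0 := by
    have h1 : ((3 : ℕ) : K) ≠ 0 := by
      intro h
      rw [CharP.cast_eq_zero_iff K 7] at h
      omega
    exact_mod_cast h1
  have h4 := G4_inv H (Cfsg.Agent.H943.SL2Rel.h (Units.mk0 (3 : K) h3)) (x a) (x (hb n)) (x (n - hb n)) (z d)
  rw [hX.s.h a ha, hX.s.h _ (hb_le n), hX.s.h _ h1, hz.h d hd] at h4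
  have h5 : κ ((Units.mk0 (3 : K) h3 : Kˣ) : K) = 3 := by
    rw [Units.val_mk0, map_ofNat]
  rw [h5, inv_three] at h4
  have h6 : ∀ (α β γ δ : k) (X Y Z W : I27 → k), G4 (α • X) (β • Y) (γ • Z) (δ • W) = α * β * γ * δ * G4 X Y Z W := by
    intro α β γ δ X Y Z W
    unfold G4
    rw [st_smul_left, st_smul_left, st_smul_right, st_smul_right, st_smul_right, tf_smul_left, tf_smul_left,
      tf_smul_left, tf_smul_right]
    ring
  rw [h6] at h4
  unfold rowOf
  rw [ev_single, fE_cd x z ha hn]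
  push_cast
  have h7 : (3 : k) ^ (a + n + d) * 5 ^ (12 + L - (a + n + d)) = 3 ^ a * 5 ^ (4 - a) * (3 ^ hb n * 5 ^ (4 - hb n)) *
      (3 ^ (n - hb n) * 5 ^ (4 - (n - hb n))) * (3 ^ d * 5 ^ (L - d)) := by
    have e1 : a + n + d = a + hb n + (n - hb n) + d := by omega
    have e2 : 12 + L - (a + n + d) = (4 - a) + (4 - hb n) + (4 - (n - hb n)) + (L - d) := by
      have := hb_le n
      omega
    rw [e2, e1]
    simp only [pow_add]
    ring
  rw [h7]
  linear_combination h4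

theorem row_w (H : Act ρ) (hX : Xs κ ρ x) (hz : Str κ ρ L z)
    (hxz : ∀ a ≤ 4, ∀ b ≤ 4, ∀ d ≤ L, tf (st (x a) (x b)) (z d) = 0) {a n d : ℕ} (ha : a ≤ 4) (hn : n ≤ 8) (hd : d ≤ L) :
    ev (fE x z) (rowOf L (.w a n d)) = 0 := by
  obtain ⟨h1, h2⟩ := hb_sub hn
  have h4 := G4_inv H (Cfsg.Agent.H943.SL2Rel.w) (x a) (x (hb n)) (x (n - hb n)) (z d)
  rw [hX.s.w a ha, hX.s.w _ (hb_le n), hX.s.w _ h1, hz.w d hd] at h4
  have h6 : ∀ (α β γ δ : k) (X Y Z W : I27 → k), G4 (α • X) (β • Y) (γ • Z) (δ • W) = α * β * γ * δ * G4 X Y Z W := by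
    intro α β γ δ X Y Z W
    unfold G4
    rw [st_smul_left, st_smul_left, st_smul_right, st_smul_right, st_smul_right, tf_smul_left, tf_smul_left,
      tf_smul_left, tf_smul_right]
    ring
  rw [h6, G4_eq hX hxz (by omega) (by omega) (by omega) (by omega)] at h4
  have e3 : 4 - hb n + (4 - (n - hb n)) = 8 - n := by have := hb_le n; omega
  rw [e3] at h4
  unfold rowOf
  rw [ev_cons, ev_single, fE_cd x z ha hn]
  push_cast
  have e1 : a + n + d = a + hb n + (n - hb n) + d := by omega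
  rw [e1]
  simp only [pow_add]
  linear_combination -h4

theorem row_c (hX : Xs κ ρ x) (hz : ∀ d ≤ L, tr1 (z d) = 0)
    (hxz : ∀ a ≤ 4, ∀ b ≤ 4, ∀ d ≤ L, tf (st (x a) (x b)) (z d) = 0) {a b c d : ℕ} (ha : a ≤ 4) (hb' : b ≤ 4) (hc : c ≤ 4)
    (hd : d ≤ L) : ev (fE x z) (rowOf L (.c a b c d)) = 0 := by
  unfold rowOf
  rw [ev_cons, ev_cons, ev_single, ← G4_eq hX hxz ha hb' hc hd, ← G4_eq hX hxz hb' ha hc hd, ← G4_eq hX hxz hc ha hb' hd]
  have h2 : (2 : k) ≠ 0 := by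
    have h1 : ((2 : ℕ) : k) ≠ 0 := by
      intro h
      rw [CharP.cast_eq_zero_iff k 7] at h
      omega
    exact_mod_cast h1
  have h3 : (3 : k) ≠ 0 := by
    have h1 : ((3 : ℕ) : k) ≠ 0 := by
      intro h
      rw [CharP.cast_eq_zero_iff k 7] at h
      omega
    exact_mod_cast h1
  have h4 := lin3 h2 h3 (hX.tr a ha) (hX.tr b hb') (hX.tr c hc)
  rw [hX.xx b hb' c hc, hX.xx a ha c hc, hX.xx a ha b hb', zero_smul, zero_smul, zero_smul, add_zero, add_zero, smul_zero] at h4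
  have h5 := congrArg (fun v => tf v (z d)) h4
  simp only [tf_add_left, tf_zero_l] at h5
  unfold G4
  push_cast
  linear_combination h5

theorem row_u (H : Act ρ) (hX : Xs κ ρ x) (hz : Str κ ρ L z)
    (hxz : ∀ a ≤ 4, ∀ b ≤ 4, ∀ d ≤ L, tf (st (x a) (x b)) (z d) = 0) {a n d : ℕ} (ha : a ≤ 4) (hn : n ≤ 8) (hd : d ≤ L) :
    ev (fE x z) (rowOf L (.u a n d)) = 0 := by
  obtain ⟨h1, h2⟩ := hb_sub hn
  have h0 := hb_le n
  have h4 := G4_inv H (Cfsg.Agent.H943.SL2Rel.u 1) (x a) (x (hb n)) (x (n - hb n)) (z d)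
  rw [hX.s.u a ha, hX.s.u _ (hb_le n), hX.s.u _ h1, hz.u d hd] at h4
  simp only [G4_s1, map_one, one_pow, mul_one] at h4
  unfold rowOf rowU
  rw [ev_append, ev_flat, ev_single, fE_cd x z ha hn, ← h4]
  have key : ∀ i ∈ range (4 - a + 1), ev (fE x z) ((List.range (4 - hb n + 1)).flatMap fun j =>
      (List.range (4 - (n - hb n) + 1)).flatMap fun l => (List.range (L - d + 1)).flatMap fun m =>
      [(cd (a + i) (n + j + l) (d + m), ((4 - a).choose i : ℤ) * (((4 - hb n).choose j : ℤ) *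
        (((4 - (n - hb n)).choose l : ℤ) * ((L - d).choose m : ℤ))))]) = ((4 - a).choose i : k) * G4 (x (a + i))
          (∑ j ∈ range (4 - hb n + 1), ((4 - hb n).choose j : k) • x (hb n + j))
          (∑ l ∈ range (4 - (n - hb n) + 1), ((4 - (n - hb n)).choose l : k) • x (n - hb n + l))
          (∑ m ∈ range (L - d + 1), ((L - d).choose m : k) • z (d + m)) := by
    intro i hi
    rw [mem_range] at hi
    rw [ev_flat, G4_s2, mul_sum]
    refine sum_congr rfl fun j hj => ?_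
    rw [mem_range] at hj
    rw [ev_flat, G4_s3, mul_sum, mul_sum]
    refine sum_congr rfl fun l hl => ?_
    rw [mem_range] at hl
    rw [ev_flat, G4_s4, mul_sum, mul_sum, mul_sum]
    refine sum_congr rfl fun m hm => ?_
    rw [mem_range] at hm
    rw [ev_single, G4_eq hX hxz (by omega) (by omega) (by omega) (by omega)]
    have e1 : hb n + j + (n - hb n + l) = n + j + l := by omega
    rw [e1]
    push_cast
    ring
  rw [sum_congr rfl key]
  push_cast
  ring

theorem four_zero_of (H : Act ρ) (hX : Xs κ ρ x) (hz : Str κ ρ L z) (htz : ∀ d ≤ L, tr1 (z d) = 0)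
    (hxz : ∀ a ≤ 4, ∀ b ≤ 4, ∀ d ≤ L, tf (st (x a) (x b)) (z d) = 0) {l : List RowId}
    (hok : (l.all fun i => okId L i) = true) {N : ℕ} (hN : N = 45 * (L + 1))
    (hp : prg 7 (l.map (rowOf L)) 0 = 2 ^ N - 1) {a b c d : ℕ}
    (ha : a ≤ 4) (hb' : b ≤ 4) (hc : c ≤ 4) (hd : d ≤ L) : tf (st (x a) (st (x b) (x c))) (z d) = 0 := by
  have h1 : G4 (x a) (x b) (x c) (z d) = 0 := by
    rw [G4_eq hX hxz ha hb' hc hd]
    refine prg_zero (p := 7) (fE x z) (l.map (rowOf L)) ?_ ?_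
    · intro r hr
      rw [List.mem_map] at hr
      obtain ⟨id, hid, rfl⟩ := hr
      have h2 := List.all_eq_true.1 hok id hid
      cases id with
      | t a n d =>
        simp only [okId, Bool.and_eq_true, decide_eq_true_eq] at h2
        exact row_t H hX hz h2.1.1 h2.1.2 h2.2
      | u a n d =>
        simp only [okId, Bool.and_eq_true, decide_eq_true_eq] at h2
        exact row_u H hX hz hxz h2.1.1 h2.1.2 h2.2
      | w a n d =>
        simp only [okId, Bool.and_eq_true, decide_eq_true_eq] at h2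
        exact row_w H hX hz hxz h2.1.1 h2.1.2 h2.2
      | c a b c d =>
        simp only [okId, Bool.and_eq_true, decide_eq_true_eq] at h2
        exact row_c hX htz hxz h2.1.1.1 h2.1.1.2 h2.1.2 h2.2
    · rw [hp, Nat.testBit_two_pow_sub_one, decide_eq_true_eq, hN]
      unfold cd
      omega
  exact h1

/-- **the four-linear form**, `M` -/
theorem four_zero4 (H : Act ρ) (hX : Xs κ ρ x) (hz : Str κ ρ 4 z) (htz : ∀ d ≤ 4, tr1 (z d) = 0)
    (hxz : ∀ a ≤ 4, ∀ b ≤ 4, ∀ d ≤ 4, tf (st (x a) (x b)) (z d) = 0) {a b c d : ℕ}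
    (ha : a ≤ 4) (hb' : b ≤ 4) (hc : c ≤ 4) (hd : d ≤ 4) : tf (st (x a) (st (x b) (x c))) (z d) = 0 :=
  four_zero_of H hX hz htz hxz ok4 rfl prg4 ha hb' hc hd

/-- **the four-linear form**, `S` -/
theorem four_zero6 (H : Act ρ) (hX : Xs κ ρ x) (hz : Str κ ρ 6 z) (htz : ∀ d ≤ 6, tr1 (z d) = 0)
    (hxz : ∀ a ≤ 4, ∀ b ≤ 4, ∀ d ≤ 6, tf (st (x a) (x b)) (z d) = 0) {a b c d : ℕ}
    (ha : a ≤ 4) (hb' : b ≤ 4) (hc : c ≤ 4) (hd : d ≤ 6) : tf (st (x a) (st (x b) (x c))) (z d) = 0 :=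
  four_zero_of H hX hz htz hxz ok6 rfl prg6 ha hb' hc hd

end str

end Cfsg.Agent.R2.H1.A7
end

-- part: R2/H1/A7/S3
section
/-!
# `p = 7`, step 3: normalisation (helper1, S5931)
-/

set_option autoImplicit false
set_option linter.unusedSectionVars false
set_option linter.unusedSimpArgs false

namespace Cfsg.Agent.R2.H1.A7

open Cfsg Cfsg.Lie Module Cfsg.Agent.H952.F4 Cfsg.Agent.H952.F4.Jord
open Cfsg.Agent.ChevalleyStructure.E6Min.Tables Cfsg.Agent.ChevalleyStructure.E6Min.Basic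
open Cfsg.Agent.R2.F4N (Str)
open Cfsg.Agent.R2.F4L (Act)
open Cfsg.Agent.H952.F4.FixV (W0 mem_W0 finrank_W0 trL tfL tfL_apply tr1_sub tf_sub_left tf_sub_right)
open Cfsg.Agent.R2.H1.F4
open Finset

universe u v w

variable {k : Type u} [Field k] {K : Type w} [Field K] [Fintype K] {κ : K →+* k}
variable {ρ : Representation k (Matrix.SpecialLinearGroup (Fin 2) K) (I27 → k)}
variable {x m v : ℕ → (I27 → k)} [Fact (Nat.Prime 7)] [CharP k 7]

/-- the change of the string `m` -/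
theorem Dat.change (D : Dat κ ρ x m v) (r r' e : k) (hr : r ≠ 0) (hr' : r' ≠ 0) :
    Dat κ ρ x (fun a => r • (m a + e • x a)) (fun a => r' • v a) where
  act := D.act
  sx := D.sx
  sm := str_smul (str_add D.sm (str_smul D.sx e)) r
  sv := str_smul D.sv r'
  tx := D.tx
  tm := fun a ha => by rw [tr1_smul, tr1_add, tr1_smul, D.tm a ha, D.tx a ha]; ring
  tv := fun a ha => by rw [tr1_smul, D.tv a ha, mul_zero]
  x0 := D.x0
  xx := D.xx
  xm := fun a ha b hb' => by
    rw [tf_smul_right, tf_add_right, tf_smul_right, D.xm a ha b hb', D.xx a ha b hb']; ring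
  xv := fun a ha b hb' => by rw [tf_smul_right, D.xv a ha b hb', mul_zero]
  mv := fun a ha b hb' => by
    rw [tf_smul_right, tf_smul_left, tf_add_left, tf_smul_left, D.mv a ha b hb', D.xv a ha b hb']; ring
  mm := by
    rw [tf_smul_right, tf_smul_left, tf_add_left, tf_add_right, tf_add_right, tf_smul_left, tf_smul_right, tf_smul_left,
      tf_smul_right, D.xm 0 (by norm_num) 4 (by norm_num), tf_comm (m 0) (x 4), D.xm 4 (by norm_num) 0 (by norm_num),
      D.xx 0 (by norm_num) 4 (by norm_num)]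
    have h1 : r * (r * (tf (m 0) (m 4) + e * 0 + (e * 0 + e * (e * 0)))) = r * r * tf (m 0) (m 4) := by ring
    rw [h1]
    exact mul_ne_zero (mul_ne_zero hr hr) D.mm
  vv := by
    rw [tf_smul_right, tf_smul_left, ← mul_assoc]
    exact mul_ne_zero (mul_ne_zero hr' hr') D.vv
  s4 := fun s hs hst => by
    obtain ⟨α, β, h⟩ := D.s4 s hs hst
    refine ⟨α - β * e, β * r⁻¹, fun c hc => ?_⟩
    rw [h c hc, smul_smul, mul_assoc, inv_mul_cancel₀ hr]
    module
  s6 := fun s hs hst => by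
    obtain ⟨γ, h⟩ := D.s6 s hs hst
    refine ⟨γ * r'⁻¹, fun c hc => ?_⟩
    rw [h c hc, smul_smul, mul_assoc, inv_mul_cancel₀ hr', mul_one]
  soc := D.soc
  iso := D.iso
  fix := D.fix
  wh := D.wh

/-- the orthogonal complement of everything is zero -/
theorem Dat.rzero (D : Dat κ ρ x m v) (hK : 7 ≤ Fintype.card K) {w : I27 → k} (hw : tr1 w = 0)
    (h1 : ∀ a ≤ 4, ∀ b ≤ 4, tf w (st (x a) (x b)) = 0) (h2 : ∀ a ≤ 4, tf w (m a) = 0) (h3 : ∀ a ≤ 6, tf w (v a) = 0) :
    w = 0 := by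
  let R : Submodule k (I27 → k) :=
    { carrier := {w | tr1 w = 0 ∧ (∀ y ∈ prods x, tf w y = 0) ∧ (∀ y ∈ spx 4 m, tf w y = 0) ∧ ∀ y ∈ spx 6 v, tf w y = 0}
      add_mem' := by
        rintro a b ⟨a1, a2, a3, a4⟩ ⟨b1, b2, b3, b4⟩
        refine ⟨by rw [tr1_add, a1, b1, add_zero], fun y hy => ?_, fun y hy => ?_, fun y hy => ?_⟩
        · rw [tf_add_left, a2 y hy, b2 y hy, add_zero]
        · rw [tf_add_left, a3 y hy, b3 y hy, add_zero]
        · rw [tf_add_left, a4 y hy, b4 y hy, add_zero]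
      zero_mem' := by
        refine ⟨by rw [← zero_smul k (0 : I27 → k), tr1_smul, zero_mul], fun y _ => tf_zl y, fun y _ => tf_zl y,
          fun y _ => tf_zl y⟩
      smul_mem' := by
        rintro c a ⟨a1, a2, a3, a4⟩
        refine ⟨by rw [tr1_smul, a1, mul_zero], fun y hy => ?_, fun y hy => ?_, fun y hy => ?_⟩
        · rw [tf_smul_left, a2 y hy, mul_zero]
        · rw [tf_smul_left, a3 y hy, mul_zero]
        · rw [tf_smul_left, a4 y hy, mul_zero] }
  have hst : ∀ g, ∀ y ∈ R, ρ g y ∈ R := by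
    rintro g y ⟨a1, a2, a3, a4⟩
    have key : ∀ (S : Submodule k (I27 → k)), (∀ g, ∀ z ∈ S, ρ g z ∈ S) → (∀ z ∈ S, tf y z = 0) →
        ∀ z ∈ S, tf (ρ g y) z = 0 := by
      intro S hS h z hz
      have e1 : z = ρ g (ρ g⁻¹ z) := by
        rw [← Module.End.mul_apply, ← map_mul, mul_inv_cancel, map_one, Module.End.one_apply]
      rw [e1, D.act.tf]
      exact h _ (hS _ _ hz)
    exact ⟨by rw [D.act.tr]; exact a1, key _ (fun g => prods_stable D.act D.sx g) a2, key _ (fun g => str_stable D.sm g) a3,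
      key _ (fun g => str_stable D.sv g) a4⟩
  have hR : R = ⊥ := by
    by_contra hne
    obtain ⟨n, hn, s, ss, sR, s0⟩ := D.soc R hst (fun y hy => hy.1) hne
    rcases hn with rfl | rfl
    · obtain ⟨α, β, h⟩ := D.s4 s ss (fun c hc => (sR c hc).1)
      have e0 := (sR 0 (by norm_num)).2.2.1 (m 4) (mem_spx le_rfl)
      rw [h 0 (by norm_num), tf_add_left, tf_smul_left, tf_smul_left, D.xm 0 (by norm_num) 4 le_rfl, mul_zero, zero_add] at e0
      have hβ := (mul_eq_zero.1 e0).resolve_right D.mm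
      have e2 := (sR 2 (by norm_num)).2.1 (st (x 2) (x 2)) (mem_prods (by norm_num) (by norm_num))
      rw [h 2 (by norm_num), hβ, zero_smul, add_zero, tf_smul_left, tf_comm] at e2
      have hα := (mul_eq_zero.1 e2).resolve_right (D.c1_ne hK)
      apply s0
      rw [h 0 (by norm_num), hα, hβ, zero_smul, zero_smul, add_zero]
    · obtain ⟨γ, h⟩ := D.s6 s ss (fun c hc => (sR c hc).1)
      have e0 := (sR 0 (by norm_num)).2.2.2 (v 6) (mem_spx le_rfl)
      rw [h 0 (by norm_num), tf_smul_left] at e0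
      have hγ := (mul_eq_zero.1 e0).resolve_right D.vv
      apply s0
      rw [h 0 (by norm_num), hγ, zero_smul]
  have hwR : w ∈ R := by
    refine ⟨hw, fun y hy => ?_, fun y hy => ?_, fun y hy => ?_⟩
    · have h4 : prods x ≤ LinearMap.ker (tfL k w) := prods_le fun a ha b hb' => by
        rw [LinearMap.mem_ker]; exact h1 a ha b hb'
      exact h4 hy
    · have h4 : spx 4 m ≤ LinearMap.ker (tfL k w) := spx_le fun a ha => by
        rw [LinearMap.mem_ker]; exact h2 a ha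
      exact h4 hy
    · have h4 : spx 6 v ≤ LinearMap.ker (tfL k w) := spx_le fun a ha => by
        rw [LinearMap.mem_ker]; exact h3 a ha
      exact h4 hy
  rw [hR] at hwR
  exact (Submodule.mem_bot k).1 hwR

/-- the projection to a nondegenerate string -/
theorem proj_str (hK : 7 ≤ Fintype.card K) (H : Act ρ) {n : ℕ} (hn : n < 7) {z : ℕ → (I27 → k)} (hz : Str κ ρ n z)
    (h1 : tf (z 0) (z n) = 1) (w : I27 → k) {b : ℕ} (hb' : b ≤ n) :
    tf (∑ a ∈ range (n + 1), ((-1) ^ a * ((n.choose a : ℕ) : k) * tf w (z (n - a))) • z a) (z b) = tf w (z b) := by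
  have h2 : tf (∑ a ∈ range (n + 1), ((-1) ^ a * ((n.choose a : ℕ) : k) * tf w (z (n - a))) • z a) (z b) =
      ∑ a ∈ range (n + 1), (-1) ^ a * tf w (z (n - a)) * (((n.choose a : ℕ) : k) * tf (z a) (z b)) := by
    have h3 : tf (∑ a ∈ range (n + 1), ((-1) ^ a * ((n.choose a : ℕ) : k) * tf w (z (n - a))) • z a) (z b) =
        tfL k (z b) (∑ a ∈ range (n + 1), ((-1) ^ a * ((n.choose a : ℕ) : k) * tf w (z (n - a))) • z a) := by
      rw [tfL_apply, tf_comm]
    rw [h3, map_sum]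
    refine sum_congr rfl fun a _ => ?_
    rw [map_smul, tfL_apply, smul_eq_mul, tf_comm (z b) (z a)]
    ring
  rw [h2, sum_eq_single (n - b)]
  · rw [tf_str_val hK H (n3 k) hz hz hn hn (by omega) hb', if_pos ⟨rfl, by omega⟩, h1, mul_one,
      (by omega : n - (n - b) = b)]
    have h3 : (-1 : k) ^ (n - b) * (-1) ^ (n - b) = 1 := by rw [← mul_pow, neg_one_mul, neg_neg, one_pow]
    linear_combination tf w (z b) * h3
  · intro a ha hne
    rw [mem_range] at ha
    rw [tf_str_val hK H (n3 k) hz hz hn hn (by omega) hb', if_neg (by omega), mul_zero]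
  · intro h
    exact absurd (mem_range.2 (by omega)) h

/-- orthogonality of a combination -/
theorem tf_sum_zero {n : ℕ} {z : ℕ → (I27 → k)} {c : ℕ → k} {y : I27 → k} (h : ∀ a ≤ n, tf (z a) y = 0) :
    tf (∑ a ∈ range (n + 1), c a • z a) y = 0 := by
  have h3 : tf (∑ a ∈ range (n + 1), c a • z a) y = tfL k y (∑ a ∈ range (n + 1), c a • z a) := by
    rw [tfL_apply, tf_comm]
  rw [h3, map_sum]
  refine sum_eq_zero fun a ha => ?_
  rw [mem_range] at ha
  rw [map_smul, tfL_apply, tf_comm, h a (by omega), smul_zero]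

/-- **the normalised data** -/
theorem Dat.exists_dat2 (D : Dat κ ρ x m v) (hK : 7 ≤ Fintype.card K) (hsq : ∀ c : k, ∃ r, r * r = c) :
    ∃ m' v', Dat2 κ ρ x m' v' := by
  obtain ⟨α, hα⟩ := D.hs_eq hK
  obtain ⟨c₀, hc⟩ := tab222 hK D.act D.sx D.sx D.sx
  obtain ⟨g, hg⟩ := tab222 hK D.act D.sx D.sx D.sm
  have hc0 : c₀ ≠ 0 := by
    rintro rfl
    have h1 := hc 2 2 2
    rw [zero_mul] at h1
    have e : ((4 : ℕ).choose 2 : k) ≠ 0 := R2.F4N.choose_ne (p := 7) (by norm_num) (by norm_num)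
    exact D.c1_ne hK ((((mul_eq_zero.1 h1).resolve_left e |> mul_eq_zero.1).resolve_left e |> mul_eq_zero.1).resolve_left e)
  have hch : ∀ a ≤ 4, ((4 : ℕ).choose a : k) ≠ 0 := fun a ha => R2.F4N.choose_ne (p := 7) (by norm_num) ha
  obtain ⟨r, hr⟩ := hsq (tf (m 0) (m 4))⁻¹
  obtain ⟨r', hr'⟩ := hsq (tf (v 0) (v 6))⁻¹
  have hr0 : r ≠ 0 := by
    rintro rfl
    rw [mul_zero] at hr
    exact inv_ne_zero D.mm hr.symm
  have hr0' : r' ≠ 0 := by
    rintro rfl
    rw [mul_zero] at hr'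
    exact inv_ne_zero D.vv hr'.symm
  have D' := D.change r r' (-(g * c₀⁻¹)) hr0 hr0'
  have hm1 : tf (r • (m 0 + (-(g * c₀⁻¹)) • x 0)) (r • (m 4 + (-(g * c₀⁻¹)) • x 4)) = 1 := by
    rw [tf_smul_right, tf_smul_left, tf_add_left, tf_add_right, tf_add_right, tf_smul_left, tf_smul_right, tf_smul_left,
      tf_smul_right, D.xm 0 (by norm_num) 4 (by norm_num), tf_comm (m 0) (x 4), D.xm 4 (by norm_num) 0 (by norm_num),
      D.xx 0 (by norm_num) 4 (by norm_num)]
    have h1 : r * r * tf (m 0) (m 4) = 1 := by rw [hr, inv_mul_cancel₀ D.mm]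
    linear_combination h1
  have hv1 : tf (r' • v 0) (r' • v 6) = 1 := by
    rw [tf_smul_right, tf_smul_left, ← mul_assoc, hr', inv_mul_cancel₀ D.vv]
  have hxxm : ∀ a ≤ 4, ∀ b ≤ 4, ∀ c ≤ 4, tf (st (x a) (x b)) (r • (m c + (-(g * c₀⁻¹)) • x c)) = 0 := by
    intro a ha b hb' c hc'
    have e1 := hc a b c
    have e2 := hg a b c
    rw [tf_smul_right, tf_add_right, tf_smul_right]
    have h1 : ((4 : ℕ).choose a : k) * (((4 : ℕ).choose b : k) * (((4 : ℕ).choose c : k) *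
        (tf (st (x a) (x b)) (m c) + -(g * c₀⁻¹) * tf (st (x a) (x b)) (x c)))) = 0 := by
      have e3 : c₀⁻¹ * c₀ = 1 := inv_mul_cancel₀ hc0
      linear_combination e2 - (g * c₀⁻¹) * e1 - g * (tau 2 2 2 a b c : k) * e3
    rw [((((mul_eq_zero.1 h1).resolve_left (hch a ha) |> mul_eq_zero.1).resolve_left (hch b hb') |>
      mul_eq_zero.1).resolve_left (hch c hc')), mul_zero]
  have hxxv : ∀ a ≤ 4, ∀ b ≤ 4, ∀ c ≤ 6, tf (st (x a) (x b)) (r' • v c) = 0 := fun a ha b hb' c hc' =>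
    tab_anti133 hK D'.act D'.sx D'.sv ha hb' hc'
  have X : Xs κ ρ x := ⟨D.sx, D.tx, D.xx, fun b hb' c hc' => by
    obtain ⟨l, i, hi, e⟩ := md D.hq0 hα b hb' c hc'
    exact ⟨(l * α) • x i, Submodule.smul_mem _ _ (Submodule.subset_span ⟨i, hi, rfl⟩), e⟩⟩
  refine ⟨_, _, ⟨D', hm1, hv1, hxxm, hxxv, D.c1_ne hK,
    fun a ha b hb' c hc' d hd => four_zero4 D'.act X D'.sm D'.tm hxxm ha hb' hc' hd,
    fun a ha b hb' c hc' d hd => four_zero6 D'.act X D'.sv D'.tv hxxv ha hb' hc' hd, ?_⟩⟩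
  intro w hw hwp
  set m' : ℕ → (I27 → k) := fun a => r • (m a + (-(g * c₀⁻¹)) • x a) with hm'
  set v' : ℕ → (I27 → k) := fun a => r' • v a with hv'
  have trsum : ∀ (n : ℕ) (c : ℕ → k) (z : ℕ → (I27 → k)), (∀ a ≤ n, tr1 (z a) = 0) →
      tr1 (∑ a ∈ range (n + 1), c a • z a) = 0 := by
    intro n c z hz
    have h3 : tr1 (∑ a ∈ range (n + 1), c a • z a) = trL k (∑ a ∈ range (n + 1), c a • z a) := rfl
    rw [h3, map_sum]
    refine sum_eq_zero fun a ha => ?_
    rw [mem_range] at ha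
    rw [map_smul]
    change c a • tr1 (z a) = 0
    rw [hz a (by omega), smul_zero]
  rw [← sub_eq_zero]
  refine D'.rzero hK ?_ ?_ ?_ ?_
  · rw [tr1_sub, tr1_add, hw, trsum 4 _ m' D'.tm, trsum 6 _ v' D'.tv]
    ring
  · intro a ha b hb'
    rw [tf_sub_left, tf_add_left, hwp a ha b hb', tf_sum_zero (n := 4) (fun c hc' => by
      rw [tf_comm]; exact hxxm a ha b hb' c hc'), tf_sum_zero (n := 6) (fun c hc' => by
      rw [tf_comm]; exact hxxv a ha b hb' c hc')]
    ring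
  · intro b hb'
    have h1 := proj_str hK D'.act (n := 4) (by norm_num) D'.sm hm1 w hb'
    rw [tf_sub_left, tf_add_left, tf_sum_zero (n := 6) (fun c hc' => by
      rw [tf_comm]; exact D'.mv b hb' c hc'), add_zero, sub_eq_zero]
    exact h1.symm
  · intro b hb'
    have h1 := proj_str hK D'.act (n := 6) (by norm_num) D'.sv hv1 w hb'
    rw [tf_sub_left, tf_add_left, tf_sum_zero (n := 4) (fun c hc' => D'.mv c hc' b hb'), zero_add, sub_eq_zero]
    exact h1.symm

end Cfsg.Agent.R2.H1.A7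
end

-- part: R2/H1/A7/S8
section
/-!
# `p = 7`, the end (helper1, S5931)
-/

set_option autoImplicit false
set_option linter.unusedSectionVars false
set_option linter.unusedSimpArgs false

namespace Cfsg.Agent.R2.H1.A7

open Cfsg Cfsg.Lie Module Cfsg.Agent.H952.F4 Cfsg.Agent.H952.F4.Jord
open Cfsg.Agent.ChevalleyStructure.E6Min.Tables Cfsg.Agent.ChevalleyStructure.E6Min.Basic
open Cfsg.Agent.R2.F4N (Str)
open Cfsg.Agent.R2.F4L (Act)
open Cfsg.Agent.H952.F4.FixV (W0 mem_W0 finrank_W0 trL tfL tfL_apply tr1_sub tf_sub_left tf_sub_right)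
open Cfsg.Agent.R2.F4M (Jr Rk R0 Cfg)
open Cfsg.Agent.R2.H1.F4
open Finset

universe u v w

section alg

variable {k : Type u} [Field k] {K : Type w} [Field K] [Fintype K] {κ : K →+* k}
variable {ρ : Representation k (Matrix.SpecialLinearGroup (Fin 2) K) (I27 → k)}
variable {x m v : ℕ → (I27 → k)} [Fact (Nat.Prime 7)] [CharP k 7]

/-- the odd part -/
noncomputable def U (m v : ℕ → (I27 → k)) : Submodule k (I27 → k) := spx 4 m ⊔ spx 6 v

theorem U_m {a : ℕ} (ha : a ≤ 4) : m a ∈ U m v := Submodule.mem_sup_left (mem_spx ha)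

theorem U_v {a : ℕ} (ha : a ≤ 6) : v a ∈ U m v := Submodule.mem_sup_right (mem_spx ha)

theorem U_le {S : Submodule k (I27 → k)} (h4 : ∀ a ≤ 4, m a ∈ S) (h6 : ∀ a ≤ 6, v a ∈ S) : U m v ≤ S :=
  sup_le (spx_le h4) (spx_le h6)

theorem U_ind {l : (I27 → k) →ₗ[k] k} (h4 : ∀ a ≤ 4, l (m a) = 0) (h6 : ∀ a ≤ 6, l (v a) = 0) : ∀ u ∈ U m v, l u = 0 := by
  intro u hu
  have h1 : U m v ≤ LinearMap.ker l := U_le (fun a ha => LinearMap.mem_ker.2 (h4 a ha)) fun a ha => LinearMap.mem_ker.2 (h6 a ha)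
  exact LinearMap.mem_ker.1 (h1 hu)

theorem prods_ind {l : (I27 → k) →ₗ[k] k} (h : ∀ a ≤ 4, ∀ b ≤ 4, l (st (x a) (x b)) = 0) : ∀ u ∈ prods x, l u = 0 := by
  intro u hu
  have h1 : prods x ≤ LinearMap.ker l := prods_le fun a ha b hb' => LinearMap.mem_ker.2 (h a ha b hb')
  exact LinearMap.mem_ker.1 (h1 hu)

theorem Dat2.tU (D : Dat2 κ ρ x m v) : ∀ u ∈ U m v, tr1 u = 0 := U_ind (l := trL k) D.tm D.tv

theorem Dat2.tP (D : Dat2 κ ρ x m v) : ∀ u ∈ prods x, tr1 u = 0 :=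
  prods_ind (l := trL k) fun a ha _ _ => tr1_st (n3 k) (D.tx a ha)

theorem Dat2.orth (D : Dat2 κ ρ x m v) : ∀ y ∈ prods x, ∀ u ∈ U m v, tf y u = 0 := by
  intro y hy u hu
  refine U_ind (l := tfL k y) (fun a ha => ?_) (fun a ha => ?_) u hu <;> rw [tfL_apply, tf_comm, ← tfL_apply] <;>
    refine prods_ind (fun b hb' c hc => ?_) y hy <;> rw [tfL_apply, tf_comm]
  · exact D.xxm b hb' c hc a ha
  · exact D.xxv b hb' c hc a ha

/-- the trilinear vanishing on products -/
theorem Dat2.ff (D : Dat2 κ ρ x m v) {a b c : ℕ} (ha : a ≤ 4) (hb' : b ≤ 4) (hc : c ≤ 4) : ∀ u ∈ U m v,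
    tf (st (x a) (st (x b) (x c))) u = 0 :=
  U_ind (l := tfL k _) (fun d hd => D.f4 a ha b hb' c hc d hd) (fun d hd => D.f6 a ha b hb' c hc d hd)

theorem Dat2.xU (D : Dat2 κ ρ x m v) {a : ℕ} (ha : a ≤ 4) : ∀ u ∈ U m v, tf (x a) u = 0 :=
  U_ind (l := tfL k _) (fun d hd => D.xm a ha d hd) (fun d hd => D.xv a ha d hd)

/-- every functional comes from the form -/
theorem exists_tf (l : (I27 → k) →ₗ[k] k) : ∃ y, ∀ z, l z = tf y z := by
  have h1 : Function.Injective (tfL k) := by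
    intro y z hyz
    rw [← sub_eq_zero]
    refine tf_nondeg fun w => ?_
    have h2 := congrArg (fun l => l w) hyz
    simp only [tfL_apply] at h2
    rw [tf_sub_left, h2, sub_self]
  have h2 : Function.Surjective (tfL k) :=
    (LinearMap.injective_iff_surjective_of_finrank_eq_finrank (Subspace.dual_finrank_eq (K := k) (V := I27 → k)).symm).1 h1
  obtain ⟨y, rfl⟩ := h2 l
  exact ⟨y, fun z => rfl⟩

/-- the decomposition of the trace-zero part -/
theorem Dat2.dec (D : Dat2 κ ρ x m v) (hK : 7 ≤ Fintype.card K) {w : I27 → k} (hw : tr1 w = 0) :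
    ∃ y ∈ prods x, ∃ u ∈ U m v, w = y + u := by
  have htop : (prods x ⊔ U m v) ⊔ Submodule.span k {u0 k} = ⊤ := by
    by_contra hne
    obtain ⟨l, hl0, hl⟩ := Submodule.exists_le_ker_of_lt_top _ (lt_top_iff_ne_top.2 hne)
    obtain ⟨y, hy⟩ := exists_tf l
    have hmem : ∀ z ∈ (prods x ⊔ U m v) ⊔ Submodule.span k {u0 k}, tf y z = 0 := by
      intro z hz
      rw [← hy]
      exact LinearMap.mem_ker.1 (hl hz)
    have h0 : tr1 y = 0 := by
      rw [← tf_u0_right]
      exact hmem _ (Submodule.mem_sup_right (Submodule.mem_span_singleton_self _))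
    have hy0 : y = 0 := D.rzero hK h0
      (fun a ha b hb' => hmem _ (Submodule.mem_sup_left (Submodule.mem_sup_left (mem_prods ha hb'))))
      (fun a ha => hmem _ (Submodule.mem_sup_left (Submodule.mem_sup_right (U_m ha))))
      (fun a ha => hmem _ (Submodule.mem_sup_left (Submodule.mem_sup_right (U_v ha))))
    apply hl0
    refine LinearMap.ext fun z => ?_
    rw [hy, hy0, tf_zl]
    rfl
  have h1 : w ∈ (prods x ⊔ U m v) ⊔ Submodule.span k {u0 k} := by rw [htop]; trivial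
  obtain ⟨w', hw', z, hz, e⟩ := Submodule.mem_sup.1 h1
  obtain ⟨y, hy, u, hu, e'⟩ := Submodule.mem_sup.1 hw'
  obtain ⟨c, rfl⟩ := Submodule.mem_span_singleton.1 hz
  have h2 := congrArg tr1 e
  rw [← e', tr1_add, tr1_add, D.tP y hy, D.tU u hu, tr1_smul, tr1_u0, hw] at h2
  have hc : c = 0 := by
    have h3 : c * 3 = 0 := by linear_combination h2
    exact (mul_eq_zero.1 h3).resolve_right (n3 k)
  refine ⟨y, hy, u, hu, ?_⟩
  rw [← e, hc, zero_smul, add_zero, e']

/-- the even part is a subalgebra -/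
theorem Dat2.even (D : Dat2 κ ρ x m v) (xu : ∀ a ≤ 4, ∀ u ∈ U m v, st (x a) u ∈ U m v) :
    ∀ y ∈ prods x, ∀ z ∈ prods x, ∀ u ∈ U m v, tf (st y z) u = 0 := by
  have key : ∀ a ≤ 4, ∀ b ≤ 4, ∀ c ≤ 4, ∀ d ≤ 4, ∀ u ∈ U m v, tf (st (st (x a) (x b)) (st (x c) (x d))) u = 0 := by
    intro a ha b hb' c hc d hd u hu
    have tt : tr1 (st (x a) (x b)) = 0 := tr1_st (n3 k) (D.tx a ha)
    have h1 := congrArg (fun w => tf w u) (lin3 (n2 k) (n3 k) tt (D.tx c hc) (D.tx d hd))
    simp only [tf_add_left, tf_smul_left, D.xU hc u hu, D.xU hd u hu, D.xx c hc d hd] at h1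
    have h2 : ∀ c ≤ 4, ∀ d ≤ 4, tf (st (x c) (st (st (x a) (x b)) (x d))) u = 0 := by
      intro c hc d hd
      rw [st_comm (x c), tf_st_rot (tr1_st (n3 k) tt) (D.tU u hu), st_comm _ (x d)]
      exact D.ff hd ha hb' _ (xu c hc u hu)
    rw [h2 c hc d hd, h2 d hd c hc] at h1
    linear_combination h1
  intro y hy z hz u hu
  refine prods_ind (l := (N3 k y).flip u) (fun c hc d hd => ?_) z hz
  rw [LinearMap.flip_apply]
  refine prods_ind (l := ((N3 k).flip (st (x c) (x d))).flip u) (fun a ha b hb' => ?_) y hy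
  exact key a ha b hb' c hc d hd u hu

/-- the product of odd elements is even -/
theorem odd (h4 : ∀ a ≤ 4, ∀ b ≤ 4, ∀ c ≤ 4, tf (st (m a) (m b)) (m c) = 0)
    (h5 : ∀ a ≤ 4, ∀ b ≤ 4, ∀ c ≤ 6, tf (st (m a) (m b)) (v c) = 0)
    (h6 : ∀ a ≤ 4, ∀ b ≤ 6, ∀ c ≤ 6, tf (st (m a) (v b)) (v c) = 0)
    (h7 : ∀ a ≤ 6, ∀ b ≤ 6, ∀ c ≤ 6, tf (st (v a) (v b)) (v c) = 0) (tm : ∀ a ≤ 4, tr1 (m a) = 0) (tv : ∀ a ≤ 6, tr1 (v a) = 0) :
    ∀ y ∈ U m v, ∀ z ∈ U m v, ∀ u ∈ U m v, tf (st y z) u = 0 := by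
  have s5 : ∀ a ≤ 4, ∀ b ≤ 6, ∀ c ≤ 4, tf (st (m a) (v b)) (m c) = 0 := by
    intro a ha b hb' c hc
    rw [tf_st_rot (tm a ha) (tm c hc), st_comm, ← tf_st_rot (tm a ha) (tv b hb')]
    exact h5 a ha c hc b hb'
  have s6 : ∀ a ≤ 6, ∀ b ≤ 6, ∀ c ≤ 4, tf (st (v a) (v b)) (m c) = 0 := by
    intro a ha b hb' c hc
    rw [tf_comm, ← tf_st_rot (tm c hc) (tv b hb')]
    exact h6 c hc a ha b hb'
  have k1 : ∀ a ≤ 4, ∀ z ∈ U m v, ∀ u ∈ U m v, tf (st (m a) z) u = 0 := by
    intro a ha z hz u hu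
    refine U_ind (l := tfL k (st (m a) z)) (fun c hc => ?_) (fun c hc => ?_) u hu
    · refine U_ind (l := (N3 k (m a)).flip (m c)) (fun b hb' => h4 a ha b hb' c hc) (fun b hb' => s5 a ha b hb' c hc) z hz
    · refine U_ind (l := (N3 k (m a)).flip (v c)) (fun b hb' => h5 a ha b hb' c hc) (fun b hb' => h6 a ha b hb' c hc) z hz
  have k2 : ∀ a ≤ 6, ∀ z ∈ U m v, ∀ u ∈ U m v, tf (st (v a) z) u = 0 := by
    intro a ha z hz u hu
    refine U_ind (l := tfL k (st (v a) z)) (fun c hc => ?_) (fun c hc => ?_) u hu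
    · refine U_ind (l := (N3 k (v a)).flip (m c)) (fun b hb' => ?_) (fun b hb' => s6 a ha b hb' c hc) z hz
      change tf (st (v a) (m b)) (m c) = 0
      rw [st_comm]
      exact s5 b hb' a ha c hc
    · refine U_ind (l := (N3 k (v a)).flip (v c)) (fun b hb' => ?_) (fun b hb' => h7 a ha b hb' c hc) z hz
      change tf (st (v a) (m b)) (v c) = 0
      rw [st_comm]
      exact h6 b hb' a ha c hc
  intro y hy z hz u hu
  exact U_ind (l := ((N3 k).flip z).flip u) (fun a ha => k1 a ha z hz u hu) (fun a ha => k2 a ha z hz u hu) y hy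

end alg

section main

variable {F : Type u} [Field F] [Fintype F] {K : Type w} [Field K] [Fintype K] {a b : ℕ}
  {H : Subgroup ↥(chevF4.group F)} {φ : Matrix.ProjectiveSpecialLinearGroup (Fin 2) K →* ↥(chevF4.group F)}
variable {k : Type u} [Field k] {f : F →+* k} [Fact (Nat.Prime 7)] [CharP k 7] {κ : K →+* k} {x m v : ℕ → (I27 → k)}

/-- **the end of the case `p = 7`** -/
theorem no_dat2 (h : Cfg 7 a b H φ) (hK : 7 ≤ Fintype.card K) (D : Dat2 κ (Rk f φ) x m v)
    (xu : ∀ a ≤ 4, ∀ u ∈ U m v, st (x a) u ∈ U m v)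
    (h4 : ∀ a ≤ 4, ∀ b ≤ 4, ∀ c ≤ 4, tf (st (m a) (m b)) (m c) = 0)
    (h5 : ∀ a ≤ 4, ∀ b ≤ 4, ∀ c ≤ 6, tf (st (m a) (m b)) (v c) = 0)
    (h6 : ∀ a ≤ 4, ∀ b ≤ 6, ∀ c ≤ 6, tf (st (m a) (v b)) (v c) = 0)
    (h7 : ∀ a ≤ 6, ∀ b ≤ 6, ∀ c ≤ 6, tf (st (v a) (v b)) (v c) = 0) : False := by
  obtain ⟨s, fr, -⟩ := exists_fr f
  have hρ := Rk_sv φ fr
  have hst : Str (s.comp κ) (Rk f φ) 4 (fun a => sv s (x a)) := str_sv hρ D.sx
  -- the image of `x` is in the span of `x`
  have hx : ∀ a ≤ 4, sv s (x a) ∈ spx 4 x := by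
    intro a ha
    refine D.iso (spx 4 fun a => sv s (x a)) (fun g => str_stable hst g) ?_ ?_ (mem_spx (x := fun a => sv s (x a)) ha)
    · have h1 : spx 4 (fun a => sv s (x a)) ≤ LinearMap.ker (trL k) := spx_le fun b hb' => by
        rw [LinearMap.mem_ker]
        change tr1 (sv s (x b)) = 0
        rw [sv_tr, D.tx b hb', map_zero]
      exact fun y hy => h1 hy
    · intro y hy z hz
      have h1 : ∀ b ≤ 4, ∀ z ∈ spx 4 (fun a => sv s (x a)), tf (sv s (x b)) z = 0 := by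
        intro b hb' z hz
        have h2 : spx 4 (fun a => sv s (x a)) ≤ LinearMap.ker (tfL k (sv s (x b))) := spx_le fun c hc => by
          rw [LinearMap.mem_ker, tfL_apply, sv_tf, D.xx b hb' c hc, map_zero]
        exact h2 hz
      have h3 : spx 4 (fun a => sv s (x a)) ≤ LinearMap.ker (tfL k z) := spx_le fun b hb' => by
        rw [LinearMap.mem_ker, tfL_apply, tf_comm]
        exact h1 b hb' z hz
      have h4 := h3 hy
      rw [LinearMap.mem_ker, tfL_apply, tf_comm] at h4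
      exact h4
  have hback : ∀ a ≤ 4, x a ∈ spx 4 (fun a => sv s (x a)) :=
    str_mem_of hK D.sx (by norm_num) (str_stable hst) (v := sv s (x 0)) (mem_spx (x := fun a => sv s (x a)) (Nat.zero_le _))
      (fun h0 => D.x0 (sv_inj h0)) (hx 0 (Nat.zero_le _))
  -- the two parts are stable
  have sP : ∀ y ∈ prods x, sv s y ∈ prods x := by
    intro y hy
    unfold prods at hy
    induction hy using Submodule.span_induction with
    | mem w hw =>
      obtain ⟨c, hc, d, hd, rfl⟩ := hw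
      rw [← sv_st]
      exact st_mem_prods (hx c hc) (hx d hd)
    | zero =>
      have : sv s (0 : I27 → k) = 0 := funext fun _ => map_zero s
      rw [this]
      exact Submodule.zero_mem _
    | add w w' _ _ ih ih' =>
      rw [sv_add]
      exact Submodule.add_mem _ ih ih'
    | smul r w _ ih =>
      rw [sv_smul]
      exact Submodule.smul_mem _ _ ih
  have sU : ∀ u ∈ U m v, sv s u ∈ U m v := by
    intro u hu
    have h1 : ∀ y ∈ prods (fun a => sv s (x a)), tf (sv s u) y = 0 := by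
      refine prods_ind (l := tfL k (sv s u)) fun c hc d hd => ?_
      rw [tfL_apply, sv_st, sv_tf, tf_comm, D.orth _ (mem_prods hc hd) u hu, map_zero]
    have h2 := D.udec (sv s u) (by rw [sv_tr, D.tU u hu, map_zero]) (fun c hc d hd =>
      h1 _ (st_mem_prods (hback c hc) (hback d hd)))
    rw [h2]
    refine Submodule.add_mem _ (Submodule.sum_mem _ fun c hc => Submodule.smul_mem _ _ (U_m ?_))
      (Submodule.sum_mem _ fun c hc => Submodule.smul_mem _ _ (U_v ?_))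
    · rw [mem_range] at hc; omega
    · rw [mem_range] at hc; omega
  have LU : ∀ g, ∀ u ∈ U m v, Rk f φ g u ∈ U m v := by
    intro g
    have h1 : U m v ≤ (U m v).comap (Rk f φ g) := U_le
      (fun a ha => Submodule.mem_sup_left (str_stable D.sm g _ (mem_spx ha)))
      (fun a ha => Submodule.mem_sup_right (str_stable D.sv g _ (mem_spx ha)))
    exact fun u hu => h1 hu
  have hQ := no_grade h fr (n2 k) (n3 k) (P := prods x) (Q := U m v) D.tP D.tU (fun w hw => D.dec hK hw) D.orth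
    (D.even xu) (odd h4 h5 h6 h7 D.tm D.tv) (fun g => prods_stable D.act D.sx g) LU sP sU
  have h8 : v 0 ∈ U m v := U_v (by norm_num)
  rw [hQ, Submodule.mem_bot] at h8
  have h9 := D.v1
  rw [h8, tf_zl] at h9
  exact zero_ne_one h9

end main

end Cfsg.Agent.R2.H1.A7
end

private theorem dce_29ed26f611d6 : _root_.True := by
  try have : _root_.True := by simp only [_root_.Cfsg.Agent.R2.H1.A7.okId.eq_2]
  try have : _root_.True := by simp only [_root_.Cfsg.Agent.R2.H1.A7.okId.eq_1]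
  try have : _root_.True := by simp only [_root_.Cfsg.Agent.R2.H1.A7.okB.eq_1]
  try have : _root_.True := by simp only [_root_.Cfsg.Agent.R2.H1.A7.okB.eq_4]
  try have : _root_.True := by simp only [_root_.Cfsg.Agent.R2.H1.A7.okId.eq_3]
  try have : _root_.True := by simp only [_root_.Cfsg.Agent.R2.H1.A7.okB.eq_2]
  try have : _root_.True := by simp only [_root_.Cfsg.Agent.R2.H1.A7.okB.eq_3]
  try have : _root_.True := by simp only [_root_.Cfsg.Agent.R2.H1.A7.okId.eq_4]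
  try have : _root_.True := by simp only [_root_.Cfsg.Agent.R2.H1.A7.okB.eq_5]
  exact _root_.True.intro
end

-- part: R2/H5/U7
section
prune_inst 0x40410022000000040500100000c1850004b000400000e864054c0400e0408900084000000502022800012801002001100010420000000a000000000700000000000080080300280000800080010000000000000000000000000000000004004010000
set_option linter.all false
open scoped Cfsg.Agent.FastGrp

/-!
# `p = 7`, the products on `U = <m> + <v>` (box U7 of S5931)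

`x * U ⊆ U` and the trilinear form vanishes on `U`.
-/

set_option autoImplicit false
set_option linter.unusedSectionVars false

namespace Cfsg.Agent.R2.H5.U7

open Cfsg Cfsg.Lie Module Cfsg.Agent.H952.F4 Cfsg.Agent.H952.F4.Jord
open Cfsg.Agent.ChevalleyStructure.E6Min.Tables Cfsg.Agent.ChevalleyStructure.E6Min.Basic
open Cfsg.Agent.R2.F4N (Str)
open Cfsg.Agent.R2.F4L (Act)
open Cfsg.Agent.H952.F4.FixV (W0 mem_W0 finrank_W0 trL tfL tfL_apply tr1_sub tf_sub_left tf_sub_right)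
open Cfsg.Agent.R2.H1.F4
open Cfsg.Agent.R2.H1.A7
open Finset

universe u v w

/-! ### the scaled tables -/

/-- the table with the denominators inverted modulo `7` -/
def ee (A B C l m n a b c : ℕ) : ℤ :=
  tau A B C a b c * ((l.choose a * (m.choose b * n.choose c) : ℕ) : ℤ) ^ 5 % 7

theorem ee_level {A B C l m n a b c : ℕ} (h : a + b + c ≠ A + B + C) : ee A B C l m n a b c = 0 := by
  unfold ee
  rw [tau_level h, zero_mul]
  rfl

section

variable {k : Type u} [Field k] [Fact (Nat.Prime 7)] [CharP k 7]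

theorem emod7 (z : ℤ) : ((z % 7 : ℤ) : k) = (z : k) := by
  have h1 : ((7 * (z / 7) : ℤ) : k) = 0 := by
    rw [Int.cast_mul]
    have h2 : ((7 : ℤ) : k) = 0 := by exact_mod_cast sv7 k
    rw [h2, zero_mul]
  have h3 : z = 7 * (z / 7) + z % 7 := (Int.mul_ediv_add_emod z 7).symm
  conv_rhs => rw [h3, Int.cast_add, h1, zero_add]

theorem solve7 {l m n a b c : ℕ} (hl : l < 7) (hm : m < 7) (hn : n < 7) (ha : a ≤ l) (hb : b ≤ m) (hc : c ≤ n) {t c₀ : k}
    {A B C : ℕ} (h : ((l.choose a : ℕ) : k) * (((m.choose b : ℕ) : k) * (((n.choose c : ℕ) : k) * t)) =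
      c₀ * (tau A B C a b c : k)) : t = c₀ * ((ee A B C l m n a b c : ℤ) : k) := by
  have e1 : ((l : ℕ).choose a : k) ≠ 0 := R2.F4N.choose_ne (p := 7) hl ha
  have e2 : ((m : ℕ).choose b : k) ≠ 0 := R2.F4N.choose_ne (p := 7) hm hb
  have e3 : ((n : ℕ).choose c : k) ≠ 0 := R2.F4N.choose_ne (p := 7) hn hc
  set N : ℕ := l.choose a * (m.choose b * n.choose c) with hN
  have hN0 : ((N : ℕ) : k) ≠ 0 := by
    rw [hN]
    push_cast
    exact mul_ne_zero e1 (mul_ne_zero e2 e3)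
  have hN1 : ¬ 7 ∣ N := fun h7 => hN0 ((CharP.cast_eq_zero_iff k 7 N).2 h7)
  have hN6 : ((N : ℕ) : k) ^ 6 = 1 := by
    have h1 : ((N : ℕ) : ZMod 7) ≠ 0 := by
      rw [Ne, ZMod.natCast_eq_zero_iff]
      exact hN1
    have h2 := ZMod.pow_card_sub_one_eq_one h1
    have h3 := congrArg (ZMod.castHom (dvd_refl 7) k) h2
    rw [map_pow, map_natCast, map_one] at h3
    exact h3
  have h' : ((N : ℕ) : k) * t = c₀ * (tau A B C a b c : k) := by
    rw [hN]
    push_cast
    rw [← h]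
    ring
  unfold ee
  rw [← hN, emod7]
  push_cast
  calc t = ((N : ℕ) : k) ^ 6 * t := by rw [hN6, one_mul]
    _ = ((N : ℕ) : k) ^ 5 * (((N : ℕ) : k) * t) := by ring
    _ = c₀ * ((tau A B C a b c : k) * ((N : ℕ) : k) ^ 5) := by rw [h']; ring

end

/-! ### the multiplications by the `x a` -/

section

variable {k : Type u} [Field k] {K : Type w} [Field K] [Fintype K] {κ : K →+* k}
variable {ρ : Representation k (Matrix.SpecialLinearGroup (Fin 2) K) (I27 → k)}
variable {x m v : ℕ → (I27 → k)} [Fact (Nat.Prime 7)] [CharP k 7]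

/-- the coefficients of the `m c` and the `v c` in `x a * m b` and `x a * v b` -/
def f1 (a b c : ℕ) : ℤ := (-1) ^ c * ((4 : ℕ).choose c : ℤ) * ee 2 2 2 4 4 4 a b (4 - c)

def f2 (a b c : ℕ) : ℤ := (-1) ^ c * ((6 : ℕ).choose c : ℤ) * ee 1 3 3 4 4 6 a b (6 - c)

def f3 (a b c : ℕ) : ℤ := (-1) ^ c * ((4 : ℕ).choose c : ℤ) * ee 1 3 3 4 4 6 a (4 - c) b

def f5 (a b c : ℕ) : ℤ := (-1) ^ c * ((6 : ℕ).choose c : ℤ) * ee 2 2 4 4 6 6 a b (6 - c)

/-- the tables -/
structure Tb (x m v : ℕ → (I27 → k)) (p1 p2 p3 g1 g2 : k) : Prop where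
  xmm : ∀ a ≤ 4, ∀ b ≤ 4, ∀ c ≤ 4, tf (st (x a) (m b)) (m c) = p1 * ((ee 2 2 2 4 4 4 a b c : ℤ) : k)
  xmv : ∀ a ≤ 4, ∀ b ≤ 4, ∀ c ≤ 6, tf (st (x a) (m b)) (v c) = p2 * ((ee 1 3 3 4 4 6 a b c : ℤ) : k)
  xvv : ∀ a ≤ 4, ∀ b ≤ 6, ∀ c ≤ 6, tf (st (x a) (v b)) (v c) = p3 * ((ee 2 2 4 4 6 6 a b c : ℤ) : k)
  mmm : ∀ a ≤ 4, ∀ b ≤ 4, ∀ c ≤ 4, tf (st (m a) (m b)) (m c) = g1 * ((ee 2 2 2 4 4 4 a b c : ℤ) : k)
  mvv : ∀ a ≤ 4, ∀ b ≤ 6, ∀ c ≤ 6, tf (st (m a) (v b)) (v c) = g2 * ((ee 2 2 4 4 6 6 a b c : ℤ) : k)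
  mmv : ∀ a ≤ 4, ∀ b ≤ 4, ∀ c ≤ 6, tf (st (m a) (m b)) (v c) = 0

theorem exists_tb (D : Dat2 κ ρ x m v) (hK : 7 ≤ Fintype.card K) : ∃ p1 p2 p3 g1 g2 : k, Tb x m v p1 p2 p3 g1 g2 := by
  obtain ⟨p1, h1⟩ := tab222 hK D.act D.sx D.sm D.sm
  obtain ⟨p2, h2⟩ := tab133 hK D.act D.sx D.sm D.sv
  obtain ⟨p3, h3⟩ := tab224 hK D.act D.sx D.sv D.sv
  obtain ⟨g1, h4⟩ := tab222 hK D.act D.sm D.sm D.sm
  obtain ⟨g2, h5⟩ := tab224 hK D.act D.sm D.sv D.sv
  refine ⟨p1, p2, p3, g1, g2, ?_, ?_, ?_, ?_, ?_, ?_⟩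
  · intro a ha b hb c hc
    exact solve7 (by norm_num) (by norm_num) (by norm_num) ha hb hc (h1 a b c)
  · intro a ha b hb c hc
    exact solve7 (by norm_num) (by norm_num) (by norm_num) ha hb hc (h2 a b c)
  · intro a ha b hb c hc
    exact solve7 (by norm_num) (by norm_num) (by norm_num) ha hb hc (h3 a b c)
  · intro a ha b hb c hc
    exact solve7 (by norm_num) (by norm_num) (by norm_num) ha hb hc (h4 a b c)
  · intro a ha b hb c hc
    exact solve7 (by norm_num) (by norm_num) (by norm_num) ha hb hc (h5 a b c)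
  · intro a ha b hb c hc
    exact tab_anti133 hK D.act D.sm D.sv ha hb hc

variable {p1 p2 p3 g1 g2 : k}

theorem tr_xs (D : Dat2 κ ρ x m v) {a : ℕ} (ha : a ≤ 4) (u : I27 → k) : tr1 (st (x a) u) = 0 :=
  tr1_st (n3 k) (D.tx a ha)

theorem xm (D : Dat2 κ ρ x m v) (T : Tb x m v p1 p2 p3 g1 g2) {a b : ℕ} (ha : a ≤ 4) (hb : b ≤ 4) :
    st (x a) (m b) = (p1 * (f1 a b (a + b - 2) : ℤ)) • m (a + b - 2) + (p2 * (f2 a b (a + b - 1) : ℤ)) • v (a + b - 1) := by
  have h1 := D.udec (st (x a) (m b)) (tr_xs D ha _) (fun c hc d hd => by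
    rw [st_comm, tf_st_rot (D.tm b hb) (tr1_st (n3 k) (D.tx c hc)), tf_comm]
    exact D.f4 a ha c hc d hd b hb)
  rw [h1]
  congr 1
  · rw [sum_eq_single (a + b - 2)]
    · by_cases hc : a + b - 2 ≤ 4
      · rw [T.xmm a ha b hb _ (by omega), f1]
        congr 1
        push_cast
        ring
      · have h0 : f1 a b (a + b - 2) = 0 := by
          rw [f1, ee_level (by omega), mul_zero]
        rw [h0]
        have h2 : (4 : ℕ).choose (a + b - 2) = 0 := Nat.choose_eq_zero_of_lt (by omega)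
        rw [h2]
        simp only [_root_.Nat.cast_zero, _root_.MulZeroClass.mul_zero, _root_.MulZeroClass.zero_mul, _root_.zero_smul, _root_.Int.cast_zero]
    · intro c hc hne
      have hc' := mem_range.1 hc
      rw [T.xmm a ha b hb _ (by omega), ee_level (by omega)]
      simp only [_root_.Int.cast_zero, _root_.MulZeroClass.mul_zero, _root_.zero_smul]
    · intro hc
      rw [mem_range, not_lt] at hc
      have h2 : (4 : ℕ).choose (a + b - 2) = 0 := Nat.choose_eq_zero_of_lt (by omega)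
      rw [h2]
      simp only [_root_.Nat.cast_zero, _root_.MulZeroClass.mul_zero, _root_.MulZeroClass.zero_mul, _root_.zero_smul]
  · rw [sum_eq_single (a + b - 1)]
    · by_cases hc : a + b - 1 ≤ 6
      · rw [T.xmv a ha b hb _ (by omega), f2]
        congr 1
        push_cast
        ring
      · have h0 : f2 a b (a + b - 1) = 0 := by
          rw [f2, ee_level (by omega), mul_zero]
        rw [h0]
        have h2 : (6 : ℕ).choose (a + b - 1) = 0 := Nat.choose_eq_zero_of_lt (by omega)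
        rw [h2]
        simp only [_root_.Nat.cast_zero, _root_.MulZeroClass.mul_zero, _root_.MulZeroClass.zero_mul, _root_.zero_smul, _root_.Int.cast_zero]
    · intro c hc hne
      have hc' := mem_range.1 hc
      rw [T.xmv a ha b hb _ (by omega), ee_level (by omega)]
      simp only [_root_.Int.cast_zero, _root_.MulZeroClass.mul_zero, _root_.zero_smul]
    · intro hc
      rw [mem_range, not_lt] at hc
      have h2 : (6 : ℕ).choose (a + b - 1) = 0 := Nat.choose_eq_zero_of_lt (by omega)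
      rw [h2]
      simp only [_root_.Nat.cast_zero, _root_.MulZeroClass.mul_zero, _root_.MulZeroClass.zero_mul, _root_.zero_smul]

theorem xv (D : Dat2 κ ρ x m v) (T : Tb x m v p1 p2 p3 g1 g2) {a b : ℕ} (ha : a ≤ 4) (hb : b ≤ 6) :
    st (x a) (v b) = (p2 * (f3 a b (a + b - 3) : ℤ)) • m (a + b - 3) + (p3 * (f5 a b (a + b - 2) : ℤ)) • v (a + b - 2) := by
  have h1 := D.udec (st (x a) (v b)) (tr_xs D ha _) (fun c hc d hd => by
    rw [st_comm, tf_st_rot (D.tv b hb) (tr1_st (n3 k) (D.tx c hc)), tf_comm]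
    exact D.f6 a ha c hc d hd b hb)
  have hsw : ∀ c ≤ 4, tf (st (x a) (v b)) (m c) = tf (st (x a) (m c)) (v b) := by
    intro c hc
    rw [st_comm, tf_st_rot (D.tv b hb) (D.tm c hc), tf_comm]
  rw [h1]
  congr 1
  · rw [sum_eq_single (a + b - 3)]
    · by_cases hc : a + b - 3 ≤ 4
      · rw [hsw _ (by omega), T.xmv a ha _ (by omega) b hb, f3]
        congr 1
        push_cast
        ring
      · have h0 : f3 a b (a + b - 3) = 0 := by
          rw [f3, ee_level (by omega), mul_zero]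
        rw [h0]
        have h2 : (4 : ℕ).choose (a + b - 3) = 0 := Nat.choose_eq_zero_of_lt (by omega)
        rw [h2]
        simp only [_root_.Nat.cast_zero, _root_.MulZeroClass.mul_zero, _root_.MulZeroClass.zero_mul, _root_.zero_smul, _root_.Int.cast_zero]
    · intro c hc hne
      have hc' := mem_range.1 hc
      rw [hsw _ (by omega), T.xmv a ha _ (by omega) b hb, ee_level (by omega)]
      simp only [_root_.Int.cast_zero, _root_.MulZeroClass.mul_zero, _root_.zero_smul]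
    · intro hc
      rw [mem_range, not_lt] at hc
      have h2 : (4 : ℕ).choose (a + b - 3) = 0 := Nat.choose_eq_zero_of_lt (by omega)
      rw [h2]
      simp only [_root_.Nat.cast_zero, _root_.MulZeroClass.mul_zero, _root_.MulZeroClass.zero_mul, _root_.zero_smul]
  · rw [sum_eq_single (a + b - 2)]
    · by_cases hc : a + b - 2 ≤ 6
      · rw [T.xvv a ha b hb _ (by omega), f5]
        congr 1
        push_cast
        ring
      · have h0 : f5 a b (a + b - 2) = 0 := by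
          rw [f5, ee_level (by omega), mul_zero]
        rw [h0]
        have h2 : (6 : ℕ).choose (a + b - 2) = 0 := Nat.choose_eq_zero_of_lt (by omega)
        rw [h2]
        simp only [_root_.Nat.cast_zero, _root_.MulZeroClass.mul_zero, _root_.MulZeroClass.zero_mul, _root_.zero_smul, _root_.Int.cast_zero]
    · intro c hc hne
      have hc' := mem_range.1 hc
      rw [T.xvv a ha b hb _ (by omega), ee_level (by omega)]
      simp only [_root_.Int.cast_zero, _root_.MulZeroClass.mul_zero, _root_.zero_smul]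
    · intro hc
      rw [mem_range, not_lt] at hc
      have h2 : (6 : ℕ).choose (a + b - 2) = 0 := Nat.choose_eq_zero_of_lt (by omega)
      rw [h2]
      simp only [_root_.Nat.cast_zero, _root_.MulZeroClass.mul_zero, _root_.MulZeroClass.zero_mul, _root_.zero_smul]

/-- the space `U` -/
def UU (m v : ℕ → (I27 → k)) : Submodule k (I27 → k) := spx 4 m ⊔ spx 6 v

theorem UU_m {a : ℕ} (ha : a ≤ 4) : m a ∈ UU m v := Submodule.mem_sup_left (Submodule.subset_span ⟨a, ha, rfl⟩)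

theorem UU_v {a : ℕ} (ha : a ≤ 6) : v a ∈ UU m v := Submodule.mem_sup_right (Submodule.subset_span ⟨a, ha, rfl⟩)

theorem UU_le {S : Submodule k (I27 → k)} (h1 : ∀ a ≤ 4, m a ∈ S) (h2 : ∀ a ≤ 6, v a ∈ S) : UU m v ≤ S := by
  refine sup_le ?_ ?_
  · refine Submodule.span_le.2 ?_
    rintro _ ⟨a, ha, rfl⟩
    exact h1 a ha
  · refine Submodule.span_le.2 ?_
    rintro _ ⟨a, ha, rfl⟩
    exact h2 a ha

theorem UU_dec (D : Dat2 κ ρ x m v) {w : I27 → k} (hw : tr1 w = 0)
    (h : ∀ a ≤ 4, ∀ b ≤ 4, tf w (st (x a) (x b)) = 0) : w ∈ UU m v := by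
  rw [D.udec w hw h]
  refine Submodule.add_mem _ (Submodule.sum_mem _ fun c hc => Submodule.smul_mem _ _ (UU_m ?_))
    (Submodule.sum_mem _ fun c hc => Submodule.smul_mem _ _ (UU_v ?_))
  · have := mem_range.1 hc
    omega
  · have := mem_range.1 hc
    omega

/-- the multiplication by `y` -/
noncomputable def stL (y : I27 → k) : (I27 → k) →ₗ[k] (I27 → k) where
  toFun u := st y u
  map_add' a b := st_add_right y a b
  map_smul' c a := st_smul_right c y a

theorem stL_apply (y u : I27 → k) : stL y u = st y u := rfl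

theorem xu (D : Dat2 κ ρ x m v) {a : ℕ} (ha : a ≤ 4) {u : I27 → k} (hu : u ∈ UU m v) : st (x a) u ∈ UU m v := by
  have h : UU m v ≤ (UU m v).comap (stL (x a)) := by
    refine UU_le ?_ ?_
    · intro b hb
      rw [Submodule.mem_comap, stL_apply]
      refine UU_dec D (tr_xs D ha _) fun c hc d hd => ?_
      rw [st_comm, tf_st_rot (D.tm b hb) (tr1_st (n3 k) (D.tx c hc)), tf_comm]
      exact D.f4 a ha c hc d hd b hb
    · intro b hb
      rw [Submodule.mem_comap, stL_apply]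
      refine UU_dec D (tr_xs D ha _) fun c hc d hd => ?_
      rw [st_comm, tf_st_rot (D.tv b hb) (tr1_st (n3 k) (D.tx c hc)), tf_comm]
      exact D.f6 a ha c hc d hd b hb
  exact h hu

theorem z7 {z r : ℤ} (h : z % 7 = r % 7) : (z : k) = (r : k) := by
  rw [← emod7 (k := k) z, h, emod7]

/-- the cubic relation -/
theorem cub {y u : I27 → k} (hy : tr1 y = 0) (hu : tr1 u = 0) (hyy : tf y y = 0) (hyu : tf y u = 0)
    (hq : tf (st y y) u = 0) : (6 : k) • st y (st y (st y u)) = -(tf (st y y) y) • u := by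
  have h2 := n2 k
  have h3 := n3 k
  have hyu' : tr1 (st y u) = 0 := tr1_st h3 hy
  have hyy' : tr1 (st y y) = 0 := tr1_st h3 hy
  have a := lin3 h2 h3 hy hy hu
  have b := lin3 h2 h3 hy hy hyu'
  have c := lin3 h2 h3 hy hu hyy'
  have d := st_cube h2 h3 hy
  have e1 : tf y (st y u) = 0 := by rw [← tf_st_rot hy hu]; exact hq
  have e2 : tf u (st y y) = 0 := by rw [tf_comm]; exact hq
  rw [hyy, mul_zero, zero_smul] at d
  rw [hyu, hyy, zero_smul, zero_smul, add_zero, add_zero, smul_zero] at a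
  rw [e1, hyy, zero_smul, zero_smul, add_zero, add_zero, smul_zero] at b
  rw [e2, hyu, zero_smul, zero_smul, zero_add, add_zero, d, tf_comm y (st y y)] at c
  have a' : st u (st y y) = (-2 : k) • st y (st y u) := by
    linear_combination (norm := module) a
  have b' : st (st y y) (st y u) = (-2 : k) • st y (st y (st y u)) := by
    rw [st_comm (st y y)]
    linear_combination (norm := module) b
  have z0 : st u (0 : I27 → k) = 0 := by
    have := st_smul_right (0 : k) u (0 : I27 → k)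
    rwa [zero_smul, zero_smul] at this
  rw [a', b', st_smul_right, z0, add_zero] at c
  have c' := congrArg (fun w => (3 / 2 : k) • w) c
  have e4 : (3 / 2 : k) * (2 / 3) = 1 := by field_simp
  simp only [smul_add, smul_smul, ← mul_assoc, e4, one_mul] at c'
  have e5 : (3 / 2 : k) * -2 = -3 := by field_simp
  rw [e5] at c'
  linear_combination (norm := module) -c'

theorem cub_x (D : Dat2 κ ρ x m v) {u : I27 → k} (hu : tr1 u = 0) (h1 : tf (x 2) u = 0)
    (h2 : tf (st (x 2) (x 2)) u = 0) :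
    (6 : k) • st (x 2) (st (x 2) (st (x 2) u)) = -(tf (st (x 2) (x 2)) (x 2)) • u :=
  cub (D.tx 2 (by norm_num)) hu (D.xx 2 (by norm_num) 2 (by norm_num)) h1 h2

theorem tf_zero_left (y : I27 → k) : tf 0 y = 0 := by
  have := tf_smul_left (0 : k) (0 : I27 → k) y
  rwa [zero_smul, zero_mul] at this

theorem p2_ne (D : Dat2 κ ρ x m v) (hK : 7 ≤ Fintype.card K) (T : Tb x m v p1 p2 p3 g1 g2) : p2 ≠ 0 := by
  intro h0
  have hm0 : m 0 ≠ 0 := by
    intro h
    have h1 := D.m1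
    rw [h, tf_zero_left] at h1
    exact zero_ne_one h1
  have hm2 : m 2 ≠ 0 := str_ne D.sm (by omega) hm0 (by norm_num)
  have e1 : st (x 2) (m 2) = p1 • m 2 := by
    have h := xm D T (a := 2) (b := 2) (by norm_num) (by norm_num)
    rw [h0, zero_mul, zero_smul, add_zero, z7 (by decide +kernel : f1 2 2 (2 + 2 - 2) % 7 = 1 % 7)] at h
    rw [h]
    norm_num
  have e2 : st (x 2) (m 0) = (-p1) • m 0 := by
    have h := xm D T (a := 2) (b := 0) (by norm_num) (by norm_num)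
    rw [h0, zero_mul, zero_smul, add_zero, z7 (by decide +kernel : f1 2 0 (2 + 0 - 2) % 7 = (-1) % 7)] at h
    rw [h]
    norm_num
  have c1 := cub_x D (D.tm 2 (by norm_num)) (D.xm 2 (by norm_num) 2 (by norm_num))
    (D.xxm 2 (by norm_num) 2 (by norm_num) 2 (by norm_num))
  have c2 := cub_x D (D.tm 0 (by norm_num)) (D.xm 2 (by norm_num) 0 (by norm_num))
    (D.xxm 2 (by norm_num) 2 (by norm_num) 0 (by norm_num))
  rw [e1, st_smul_right, e1, st_smul_right, st_smul_right, e1, smul_smul, smul_smul, smul_smul] at c1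
  rw [e2, st_smul_right, e2, st_smul_right, st_smul_right, e2, smul_smul, smul_smul, smul_smul] at c2
  have d1 := smul_left_injective k hm2 c1
  have d2 := smul_left_injective k hm0 c2
  have hn := D.c1
  apply hn
  have h3 : (2 : k) * tf (st (x 2) (x 2)) (x 2) = 0 := by
    linear_combination d1 + d2
  exact (mul_eq_zero.1 h3).resolve_left (n2 k)

theorem four0 (D : Dat2 κ ρ x m v) {a : ℕ} (ha : a ≤ 4) {y z w : I27 → k} (hy : tr1 y = 0) (hz : tr1 z = 0)
    (hw : tr1 w = 0) (h1 : tf (x a) y = 0) (h2 : tf (x a) z = 0) (h3 : tf (x a) w = 0) :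
    tf (st (x a) y) (st z w) + tf (st (x a) z) (st y w) + tf (st (x a) w) (st y z) = 0 := by
  have h := four (n2 k) (n3 k) (D.tx a ha) hy hz hw
  rw [h1, h2, h3] at h
  rw [h]
  ring

theorem g2_zero (D : Dat2 κ ρ x m v) (T : Tb x m v p1 p2 p3 g1 g2) (hp : p2 ≠ 0) : g2 = 0 := by
  have h := four0 D (a := 0) (by norm_num) (D.tm 3 (by norm_num)) (D.tm 4 (by norm_num)) (D.tv 2 (by norm_num))
    (D.xm 0 (by norm_num) 3 (by norm_num)) (D.xm 0 (by norm_num) 4 (by norm_num)) (D.xv 0 (by norm_num) 2 (by norm_num))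
  have e1 : st (x 0) (m 3) = (p1 * 4) • m 1 + p2 • v 2 := by
    have h := xm D T (a := 0) (b := 3) (by norm_num) (by norm_num)
    rw [z7 (by decide +kernel : f1 0 3 (0 + 3 - 2) % 7 = 4 % 7), z7 (by decide +kernel : f2 0 3 (0 + 3 - 1) % 7 = 1 % 7)] at h
    rw [h]
    norm_num
  have e2 : st (x 0) (m 4) = p1 • m 2 + (p2 * 6) • v 3 := by
    have h := xm D T (a := 0) (b := 4) (by norm_num) (by norm_num)
    rw [z7 (by decide +kernel : f1 0 4 (0 + 4 - 2) % 7 = 1 % 7), z7 (by decide +kernel : f2 0 4 (0 + 4 - 1) % 7 = 6 % 7)] at h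
    rw [h]
    norm_num
  have e3 : st (x 0) (v 2) = p3 • v 0 := by
    have h := xv D T (a := 0) (b := 2) (by norm_num) (by norm_num)
    rw [z7 (by decide +kernel : f3 0 2 (0 + 2 - 3) % 7 = 0 % 7), z7 (by decide +kernel : f5 0 2 (0 + 2 - 2) % 7 = 1 % 7)] at h
    rw [h]
    norm_num
  have a1 : tf (m 1) (st (m 4) (v 2)) = 0 := by
    rw [← tf_st_rot (D.tm 1 (by norm_num)) (D.tv 2 (by norm_num))]
    exact T.mmv _ (by norm_num) _ (by norm_num) _ (by norm_num)
  have a2 : tf (m 2) (st (m 3) (v 2)) = 0 := by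
    rw [← tf_st_rot (D.tm 2 (by norm_num)) (D.tv 2 (by norm_num))]
    exact T.mmv _ (by norm_num) _ (by norm_num) _ (by norm_num)
  have a3 : tf (v 0) (st (m 3) (m 4)) = 0 := by
    rw [tf_comm]
    exact T.mmv _ (by norm_num) _ (by norm_num) _ (by norm_num)
  have a4 : tf (v 2) (st (m 4) (v 2)) = g2 * 6 := by
    rw [tf_comm, T.mvv 4 (by norm_num) 2 (by norm_num) 2 (by norm_num),
      z7 (by decide +kernel : ee 2 2 4 4 6 6 4 2 2 % 7 = 6 % 7)]
    norm_num
  have a5 : tf (v 3) (st (m 3) (v 2)) = g2 := by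
    rw [tf_comm, T.mvv 3 (by norm_num) 2 (by norm_num) 3 (by norm_num),
      z7 (by decide +kernel : ee 2 2 4 4 6 6 3 2 3 % 7 = 1 % 7)]
    norm_num
  rw [e1, e2, e3, tf_add_left, tf_add_left, tf_smul_left, tf_smul_left, tf_smul_left, tf_smul_left, tf_smul_left, a1, a2, a3,
    a4, a5] at h
  have h2 : (12 : k) * (p2 * g2) = 0 := by linear_combination h
  exact ((mul_eq_zero.1 ((mul_eq_zero.1 h2).resolve_left (n12 k))).resolve_left hp)

theorem g1_zero (D : Dat2 κ ρ x m v) (T : Tb x m v p1 p2 p3 g1 g2) (hp : p2 ≠ 0) (hg : g2 = 0) : g1 = 0 := by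
  have h := four0 D (a := 0) (by norm_num) (D.tm 1 (by norm_num)) (D.tm 2 (by norm_num)) (D.tv 6 (by norm_num))
    (D.xm 0 (by norm_num) 1 (by norm_num)) (D.xm 0 (by norm_num) 2 (by norm_num)) (D.xv 0 (by norm_num) 6 (by norm_num))
  have e1 : st (x 0) (m 1) = (p2 * 5) • v 0 := by
    have h := xm D T (a := 0) (b := 1) (by norm_num) (by norm_num)
    rw [z7 (by decide +kernel : f1 0 1 (0 + 1 - 2) % 7 = 0 % 7), z7 (by decide +kernel : f2 0 1 (0 + 1 - 1) % 7 = 5 % 7)] at h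
    rw [h]
    norm_num
  have e2 : st (x 0) (m 2) = (p1 * 6) • m 0 + (p2 * 3) • v 1 := by
    have h := xm D T (a := 0) (b := 2) (by norm_num) (by norm_num)
    rw [z7 (by decide +kernel : f1 0 2 (0 + 2 - 2) % 7 = 6 % 7), z7 (by decide +kernel : f2 0 2 (0 + 2 - 1) % 7 = 3 % 7)] at h
    rw [h]
    norm_num
  have e3 : st (x 0) (v 6) = p2 • m 3 + p3 • v 4 := by
    have h := xv D T (a := 0) (b := 6) (by norm_num) (by norm_num)
    rw [z7 (by decide +kernel : f3 0 6 (0 + 6 - 3) % 7 = 1 % 7), z7 (by decide +kernel : f5 0 6 (0 + 6 - 2) % 7 = 1 % 7)] at h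
    rw [h]
    norm_num
  have a1 : tf (v 0) (st (m 2) (v 6)) = 0 := by
    rw [tf_comm, T.mvv 2 (by norm_num) 6 (by norm_num) 0 (by norm_num), hg, zero_mul]
  have a2 : tf (m 0) (st (m 1) (v 6)) = 0 := by
    rw [← tf_st_rot (D.tm 0 (by norm_num)) (D.tv 6 (by norm_num))]
    exact T.mmv _ (by norm_num) _ (by norm_num) _ (by norm_num)
  have a3 : tf (v 1) (st (m 1) (v 6)) = 0 := by
    rw [tf_comm, T.mvv 1 (by norm_num) 6 (by norm_num) 1 (by norm_num), hg, zero_mul]
  have a4 : tf (m 3) (st (m 1) (m 2)) = g1 * 6 := by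
    rw [tf_comm, T.mmm 1 (by norm_num) 2 (by norm_num) 3 (by norm_num),
      z7 (by decide +kernel : ee 2 2 2 4 4 4 1 2 3 % 7 = 6 % 7)]
    norm_num
  have a5 : tf (v 4) (st (m 1) (m 2)) = 0 := by
    rw [tf_comm]
    exact T.mmv _ (by norm_num) _ (by norm_num) _ (by norm_num)
  rw [e1, e2, e3, tf_add_left, tf_add_left, tf_smul_left, tf_smul_left, tf_smul_left, tf_smul_left, tf_smul_left, a1, a2, a3,
    a4, a5] at h
  have h2 : (6 : k) * (p2 * g1) = 0 := by linear_combination h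
  exact ((mul_eq_zero.1 ((mul_eq_zero.1 h2).resolve_left (n6 k))).resolve_left hp)

theorem vvv_aux (D : Dat2 κ ρ x m v) (T : Tb x m v p1 p2 p3 g1 g2) (hp : p2 ≠ 0) (hg : g2 = 0) {a b : ℕ} (ha : a ≤ 4)
    (hb : b ≤ 4) (hab : f1 a b (a + b - 2) % 7 = 0 % 7 ∨ a + b - 2 ≤ 4) (hf : f2 a b (a + b - 1) % 7 ≠ 0) {i j : ℕ} (hi : i ≤ 6) (hj : j ≤ 6) :
    tf (v (a + b - 1)) (st (v i) (v j)) = 0 := by
  have h := four0 D ha (D.tm b hb) (D.tv i hi) (D.tv j hj) (D.xm a ha b hb) (D.xv a ha i hi) (D.xv a ha j hj)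
  have hU : ∀ j ≤ 6, ∀ u ∈ UU m v, tf u (st (m b) (v j)) = 0 := by
    intro j hj
    have h1 : UU m v ≤ LinearMap.ker (tfL k (st (m b) (v j))) := by
      refine UU_le ?_ ?_
      · intro c hc
        rw [LinearMap.mem_ker, tfL_apply, tf_comm, ← tf_st_rot (D.tm c hc) (D.tv j hj)]
        exact T.mmv _ hc _ hb _ hj
      · intro c hc
        rw [LinearMap.mem_ker, tfL_apply, T.mvv b hb j hj c hc, hg, zero_mul]
    intro u hu
    have h2 := h1 hu
    rw [LinearMap.mem_ker, tfL_apply, tf_comm] at h2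
    exact h2
  rw [hU j hj _ (xu D ha (UU_v hi)), hU i hi _ (xu D ha (UU_v hj)), add_zero, add_zero, xm D T ha hb, tf_add_left,
    tf_smul_left, tf_smul_left] at h
  have h3 : p1 * ((f1 a b (a + b - 2) : ℤ) : k) * tf (m (a + b - 2)) (st (v i) (v j)) = 0 := by
    rcases hab with hab | hab
    · rw [z7 hab, Int.cast_zero, mul_zero, zero_mul]
    · rw [← tf_st_rot (D.tm _ hab) (D.tv j hj), T.mvv _ hab i hi j hj, hg, zero_mul, mul_zero]
  rw [h3, zero_add] at h
  refine (mul_eq_zero.1 h).resolve_left (mul_ne_zero hp ?_)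
  rw [Ne, CharP.intCast_eq_zero_iff k 7]
  intro h4
  exact hf (Int.emod_eq_zero_of_dvd h4)

theorem vvv (D : Dat2 κ ρ x m v) (T : Tb x m v p1 p2 p3 g1 g2) (hp : p2 ≠ 0) (hg : g2 = 0) {c i j : ℕ} (hc : c ≤ 6)
    (hi : i ≤ 6) (hj : j ≤ 6) : tf (v c) (st (v i) (v j)) = 0 := by
  interval_cases c
  · exact vvv_aux D T hp hg (a := 0) (b := 1) (by norm_num) (by norm_num) (by decide +kernel) (by decide +kernel) hi hj
  · exact vvv_aux D T hp hg (a := 0) (b := 2) (by norm_num) (by norm_num) (by decide +kernel) (by decide +kernel) hi hj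
  · exact vvv_aux D T hp hg (a := 0) (b := 3) (by norm_num) (by norm_num) (by decide +kernel) (by decide +kernel) hi hj
  · exact vvv_aux D T hp hg (a := 0) (b := 4) (by norm_num) (by norm_num) (by decide +kernel) (by decide +kernel) hi hj
  · exact vvv_aux D T hp hg (a := 1) (b := 4) (by norm_num) (by norm_num) (by decide +kernel) (by decide +kernel) hi hj
  · exact vvv_aux D T hp hg (a := 2) (b := 4) (by norm_num) (by norm_num) (by decide +kernel) (by decide +kernel) hi hj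
  · exact vvv_aux D T hp hg (a := 4) (b := 3) (by norm_num) (by norm_num) (by decide +kernel) (by decide +kernel) hi hj

/-- **The trilinear form vanishes on `U`.** -/
theorem u7 (D : Dat2 κ ρ x m v) (hK : 7 ≤ Fintype.card K) :
    (∀ a ≤ 4, ∀ b ≤ 4, ∀ c ≤ 4, tf (st (m a) (m b)) (m c) = 0) ∧
    (∀ a ≤ 4, ∀ b ≤ 4, ∀ c ≤ 6, tf (st (m a) (m b)) (v c) = 0) ∧
    (∀ a ≤ 4, ∀ b ≤ 6, ∀ c ≤ 6, tf (st (m a) (v b)) (v c) = 0) ∧
    (∀ a ≤ 6, ∀ b ≤ 6, ∀ c ≤ 6, tf (st (v a) (v b)) (v c) = 0) := by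
  obtain ⟨p1, p2, p3, g1, g2, T⟩ := exists_tb D hK
  have hp := p2_ne D hK T
  have hg := g2_zero D T hp
  have hg1 := g1_zero D T hp hg
  refine ⟨?_, T.mmv, ?_, ?_⟩
  · intro a ha b hb c hc
    rw [T.mmm a ha b hb c hc, hg1, zero_mul]
  · intro a ha b hb c hc
    rw [T.mvv a ha b hb c hc, hg, zero_mul]
  · intro a ha b hb c hc
    rw [tf_comm]
    exact vvv D T hp hg hc ha hb

/-- the by-product in the form of `spx` -/
theorem xu' (D : Dat2 κ ρ x m v) : ∀ a ≤ 4, ∀ u ∈ spx 4 m ⊔ spx 6 v, st (x a) u ∈ spx 4 m ⊔ spx 6 v :=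
  fun _ ha _ hu => xu D ha hu

end

end Cfsg.Agent.R2.H5.U7

private theorem dce_8e9c4f18af49 : _root_.True := by
  try have : _root_.True := by simp only [_root_.Cfsg.Agent.R2.H5.U7.f1.eq_1]
  try have : _root_.True := by simp only [_root_.Cfsg.Agent.R2.H5.U7.f3.eq_1]
  try have : _root_.True := by simp only [_root_.Cfsg.Agent.R2.H5.U7.f5.eq_1]
  try have : _root_.True := by simp only [_root_.Cfsg.Agent.R2.H5.U7.f2.eq_1]
  exact _root_.True.intro
end

-- part: R2/F4T/HwOne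
section
set_option linter.all false
open scoped Cfsg.Agent.FastGrp

/-!
# Vectors fixed by `U`, `a = 1` (helper6, S5931)

* `w_SS`, `SS_SS` : the operator `SS` on the vectors of `Ew e`;
* `gen_one`, `hw_soc` : if the label `Q - c` is not in the socle, `U`-fixed vectors of weight `c` lie in submodules `V_c`;
* `finrank_le_uf` : `dim V ≤ p · dim V^U`.
-/

set_option autoImplicit false
set_option linter.unusedSectionVars false

namespace Cfsg.Agent.R2.F4T

open Matrix Cfsg.Agent.H943.SL2Rel Cfsg.Agent.H943.SL2Mod Cfsg.Agent.H943.RepAdd Cfsg.Agent.R2.H28.SL2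
open Cfsg.Agent.R2.H22.Q7 (Ew mem_Ew Uf mem_Uf finrank_Ew_le Uf_le finrank_ker_pow_le)

universe u v w

section ops

variable {k : Type*} [Field k] [DecidableEq k] {F : Type*} [Field F] [Fintype F] [DecidableEq F] (ι : F →+* k)
variable {V : Type*} [AddCommGroup V] [Module k V] {ρ : Representation k (SpecialLinearGroup (Fin 2) F) V}

theorem Dm_fix {x : V} (hx : ∀ t, ρ (u t) x = x) {m : ℕ} (hm : 1 ≤ m) : Dm ι ρ m x = 0 := by
  have h := Dm_mem' ι ρ (W := (⊥ : Submodule k V)) (x := x) (fun t => by rw [hx, sub_self]; exact Submodule.zero_mem _) hm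
  exact (Submodule.mem_bot k).1 h

theorem w_SS {c : ℕ} (hc : 0 < c) (hcQ : c < Fintype.card F - 1) {x : V} (hx : x ∈ Ew ι ρ c) :
    ρ w (SS ρ x) = ι ((-1 : Fˣ) : F) ^ c • x - Dm ι ρ c (ρ w x) := by
  have hq := one_lt (F := F)
  have hU : UFix ρ (Submodule.span k {x}) := by
    intro t d hd
    obtain ⟨e, rfl⟩ := Submodule.mem_span_singleton.1 hd
    rw [map_smul, hx.1]
  have h1 : ∀ t : F, ρ w (ρ (u t) (ρ w x)) = (if t = 0 then ι ((-1 : Fˣ) : F) ^ c • x else 0) +
      ι (-t) ^ c • ρ (u (-t⁻¹)) (ρ w x) := by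
    intro t
    by_cases ht : t = 0
    · rw [if_pos ht, ht, u_zero, map_one, Module.End.one_apply, ww, hx.2, neg_zero, map_zero, zero_pow (by omega), zero_smul,
        add_zero]
    · rw [if_neg ht, zero_add, wuw ρ hU ht (Submodule.mem_span_singleton_self x), hx.2, map_smul, map_smul]
      congr 2
      have h2 : (((mi t ht)⁻¹ : Fˣ) : F) = -t := by
        rw [Units.val_inv_eq_inv_val]
        show (-t⁻¹)⁻¹ = -t
        rw [inv_neg, inv_inv]
      rw [h2]
  rw [SS_apply, map_sum, Finset.sum_congr rfl fun t _ => h1 t, Finset.sum_add_distrib,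
    Finset.sum_ite_eq' Finset.univ (0 : F), if_pos (Finset.mem_univ _), sub_eq_add_neg]
  congr 1
  rw [Dm_apply, neg_neg]
  refine Fintype.sum_equiv (Function.Involutive.toPerm (fun t : F => -t⁻¹) fun t => by
    show -(-t⁻¹)⁻¹ = t
    rw [inv_neg, inv_inv, neg_neg]) _ _ fun t => ?_
  show ι (-t) ^ c • ρ (u (-t⁻¹)) (ρ w x) = ι (-t⁻¹) ^ (Fintype.card F - 1 - c) • ρ (u (-t⁻¹)) (ρ w x)
  congr 1
  by_cases ht : t = 0
  · rw [ht, _root_.inv_zero, neg_zero, map_zero, zero_pow (by omega), zero_pow (by omega)]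
  · have h2 : ι (-t⁻¹) ^ (Fintype.card F - 1) = 1 := powQ ι (neg_ne_zero.2 (inv_ne_zero ht))
    have h3 : ι (-t⁻¹) ^ (Fintype.card F - 1 - c) * ι (-t⁻¹) ^ c = 1 := by
      rw [← pow_add, Nat.sub_add_cancel hcQ.le, h2]
    have h4 : ι (-t) ^ c * ι (-t⁻¹) ^ c = 1 := by
      rw [← mul_pow, ← map_mul, neg_mul_neg, mul_inv_cancel₀ ht, map_one, one_pow]
    have h5 : ι (-t⁻¹) ^ c ≠ 0 := pow_ne_zero _ ((map_ne_zero ι).2 (neg_ne_zero.2 (inv_ne_zero ht)))
    exact mul_right_cancel₀ h5 (h4.trans h3.symm)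

theorem SS_eq_Dm (z : V) : SS ρ z = -Dm ι ρ (Fintype.card F - 1) (ρ w z) := by
  rw [SS_apply, Dm_apply, neg_neg, Nat.sub_self]
  exact Finset.sum_congr rfl fun t _ => by rw [pow_zero, one_smul]

theorem SS_SS {c : ℕ} (hc : 0 < c) (hcQ : c < Fintype.card F - 1) {x : V} (hx : x ∈ Ew ι ρ c) : SS ρ (SS ρ x) = 0 := by
  have hq := one_lt (F := F)
  rw [SS_eq_Dm ι (SS ρ x), w_SS ι hc hcQ hx, map_sub, map_smul, Dm_fix ι hx.1 (by omega), smul_zero, zero_sub, neg_neg,
    Dm_mul_zero ι ρ (by omega) (by omega) le_rfl hcQ.le (by omega)]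

theorem SS_mem_Ew [IsAlgClosed k] {c e : ℕ} (he : (c + e) % (Fintype.card F - 1) = 0) {x : V} (hx : x ∈ Ew ι ρ c) :
    SS ρ x ∈ Ew ι ρ e := by
  refine ⟨fun t => SS_u ρ t x, fun a => ?_⟩
  rw [H28.SL2.SS_h, hx.2, map_smul]
  congr 1
  have h0 : ι (a : F) ≠ 0 := (map_ne_zero ι).2 a.ne_zero
  rw [Units.val_inv_eq_inv_val, map_inv₀, inv_pow]
  apply inv_eq_of_mul_eq_one_left
  rw [← pow_add]
  obtain ⟨n, hn⟩ := Nat.dvd_of_mod_eq_zero he
  rw [add_comm, hn, pow_mul, powQ ι a.ne_zero, one_pow]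

end ops

variable {k : Type u} [Field k] [DecidableEq k] {F : Type w} [Field F] [Fintype F] [DecidableEq F] (ι : F →+* k)
variable (p : ℕ) [Fact p.Prime] [CharP k p] [CharP F p] [IsAlgClosed k] (hF : Fintype.card F = p)

section

variable {V : Type v} [AddCommGroup V] [Module k V] [FiniteDimensional k V]
  {ρ : Representation k (SpecialLinearGroup (Fin 2) F) V}

include hF in
theorem isV_rb' {b : ℕ} (hb : b ≤ p - 1) : ∃ (B : Type (max u w)) (_ : AddCommGroup B) (_ : Module k B)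
    (σ : Representation k (SpecialLinearGroup (Fin 2) F) B), IsV ι p σ b := by
  have hb' : b ≤ Fintype.card F - 1 := by omega
  exact ⟨Vb ι b, _, _, RB ι p hb', hb', LinearEquiv.refl _ _, fun _ _ => rfl⟩

include hF in
/-- a `U`-fixed vector killed by `SS` -/
theorem gen_one {c : ℕ} (hc : 0 < c) (hcQ : c < p - 1) {x : V} (hx : x ∈ Ew ι ρ c) (hS : SS ρ x = 0) (hx0 : x ≠ 0) :
    ∃ (X : Submodule k V) (hX : ∀ g, ∀ y ∈ X, ρ g y ∈ X), IsV ι p (subRep ρ X hX) c ∧ x ∈ X := by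
  have hp : p.Prime := Fact.out
  have hq := one_lt (F := F)
  have hD1 : Dm ι ρ c (ρ w x) = ι ((-1 : Fˣ) : F) ^ c • x := by
    have h1 := w_SS ι hc (by omega) hx
    rw [hS, map_zero] at h1
    exact (sub_eq_zero.1 h1.symm).symm
  have hD2 : Dm ι ρ (c + 1) (ρ w x) = 0 := by
    have h1 := Dm_mul' ι ρ p (a := 1) (by rw [pow_one]; exact hF) (m := 1) (n := c) le_rfl (by omega) (by omega) (ρ w x)
    rw [hD1, map_smul, Dm_fix ι hx.1 le_rfl, smul_zero, Nat.choose_one_right] at h1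
    have h2 : ((1 + c : ℕ) : k) ≠ 0 := by
      rw [Ne, CharP.cast_eq_zero_iff k p]
      intro h3
      have := Nat.le_of_dvd (by omega) h3
      omega
    rw [add_comm 1 c] at h1 h2
    exact (smul_eq_zero.1 h1.symm).resolve_left h2
  obtain ⟨B, _, _, σ, hσ⟩ := isV_rb' ι p hF (b := c) hcQ.le
  obtain ⟨m, hm0, hmu, -⟩ := IsV.hw ι p hσ
  obtain ⟨f, hf, hfm⟩ := gen_hw ι p ρ (a := 1) (by rw [hF, pow_one]) hσ hm0 hmu hx.1 hx.2 (by
    rw [hS]
    unfold cb
    rw [if_pos (by omega), zero_smul]) (fun i hi _ => by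
      have : i = 0 := by omega
      subst this
      unfold en
      rw [pow_zero, Nat.div_one, Nat.mod_eq_of_lt (by omega), mul_one]
      exact hD2)
  have hf0 : f ≠ 0 := by
    rintro rfl
    exact hx0 (by rw [← hfm]; rfl)
  have hker : LinearMap.ker f = ⊥ := by
    rcases hσ.irr.2 (LinearMap.ker f) (fun g y hy => by
      rw [LinearMap.mem_ker] at hy ⊢
      rw [hf, hy, map_zero]) with h4 | h4
    · exact h4
    · exact absurd (LinearMap.ker_eq_top.1 h4) hf0
  have hX : ∀ g, ∀ y ∈ LinearMap.range f, ρ g y ∈ LinearMap.range f := by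
    rintro g _ ⟨y, rfl⟩
    exact ⟨_, hf g y⟩
  exact ⟨LinearMap.range f, hX, IsV.iso ι p (LinearEquiv.ofInjective f (LinearMap.ker_eq_bot.1 hker))
    (fun g y => Subtype.ext (hf g y)) hσ, ⟨m, hfm⟩⟩

include hF in
/-- **`U`-fixed vectors of weight `c`** -/
theorem hw_soc {c : ℕ} (hc : 0 < c) (hcQ : c < p - 1) (hn : ¬ InSoc ι p ρ (p - 1 - c)) {x : V} (hx : x ∈ Ew ι ρ c)
    (hx0 : x ≠ 0) : ∃ (X : Submodule k V) (hX : ∀ g, ∀ y ∈ X, ρ g y ∈ X), IsV ι p (subRep ρ X hX) c ∧ x ∈ X := by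
  by_cases hS : SS ρ x = 0
  · exact gen_one ι p hF hc hcQ hx hS hx0
  · exfalso
    obtain ⟨X, hX, hV, -⟩ := gen_one ι p hF (c := p - 1 - c) (by omega) (by omega)
      (SS_mem_Ew ι (by rw [hF, show c + (p - 1 - c) = p - 1 by omega, Nat.mod_self]) hx) (SS_SS ι hc (by omega) hx) hS
    exact hn ⟨X, hX, hV⟩

omit [IsAlgClosed k] [FiniteDimensional k V] in
include hF in
theorem exists_nat' (t : F) : ∃ n : ℕ, t = n := by
  obtain ⟨z, hz⟩ := (ZMod.castHom_bijective F hF).2 t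
  refine ⟨z.val, ?_⟩
  rw [← hz]
  conv_lhs => rw [← ZMod.natCast_zmod_val z]
  rw [map_natCast]

include hF in
theorem Uf_eq' : Uf ρ = LinearMap.ker (ρ (u 1) - 1) := by
  ext x
  rw [mem_Uf, LinearMap.mem_ker, LinearMap.sub_apply, Module.End.one_apply, sub_eq_zero]
  refine ⟨fun hx => hx 1, fun hx t => ?_⟩
  obtain ⟨n, rfl⟩ := exists_nat' p hF t
  have h1 : ∀ n : ℕ, ρ (u ((n : ℕ) : F)) x = x := by
    intro n
    induction n with
    | zero => rw [Nat.cast_zero, u_zero, map_one, Module.End.one_apply]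
    | succ n ih => rw [Nat.cast_succ, u_add, map_mul, Module.End.mul_apply, hx, ih]
  exact h1 n

include hF in
/-- **the dimension** -/
theorem finrank_le_uf' : Module.finrank k V ≤ p * Module.finrank k (Uf ρ) := by
  have h1 : (ρ (u 1) - 1) ^ p = 0 := by
    have h2 : (Polynomial.X - 1 : Polynomial k) ^ p = Polynomial.X ^ p - 1 := by
      rw [sub_pow_char, one_pow]
    have h3 := congrArg (Polynomial.aeval (ρ (u 1) : Module.End k V)) h2
    rw [map_pow, map_sub, Polynomial.aeval_X, map_one, map_sub, map_pow, Polynomial.aeval_X, map_one,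
      u_pow_p ρ p (1 : F), sub_self] at h3
    exact h3
  have h2 := finrank_ker_pow_le (ρ (u 1) - 1) p
  rw [h1, ← Uf_eq' p hF] at h2
  have h3 : LinearMap.ker (0 : V →ₗ[k] V) = ⊤ := LinearMap.ker_zero
  rw [h3, finrank_top] at h2
  exact h2

end

end Cfsg.Agent.R2.F4T
end

-- part: R2/F4T/Sd_mg
section

end

-- part: R2/F4T/D13_mg
section
prune_inst 0x4040000002000000000000000000480004200000000028040d000400a0208900080014800002122290014801000000100000000000000000040000020000008002022000a000020008000000000000000000000000000000000000010000000000000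
set_option linter.all false
open scoped Cfsg.Agent.FastGrp

-- part: R2/F4T/Rl
section
/-!
# The rules for the socle of the 26-dimensional module of `F₄`, `p ≥ 5` (helper6, S5931)

`Rl ι p a ρ P` : the rules (to be proved from the product of `J`), `ρ` the representation on `J₀` over `k`, `P` the trace
form; `okA`, `okB`, `okC` : the conditions on the types of the socle for `p ≥ 11`, `p = 7`, `p = 5`.
-/

set_option autoImplicit false
set_option linter.unusedSectionVars false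

namespace Cfsg.Agent.R2.F4T

open Matrix Cfsg.Agent.H943.SL2Rel Cfsg.Agent.H943.SL2Mod Cfsg.Agent.H943.RepAdd Cfsg.Agent.R2.H28.SL2
open Cfsg.Agent.R2.SL2 (typ tyl coe_tyl typ_step typ_zero tyl_eq_nil mem_typ listF4)

universe u v w

variable {k : Type u} [Field k] [DecidableEq k] {F : Type w} [Field F] [Fintype F] [DecidableEq F] (ι : F →+* k)
variable (p : ℕ) [Fact p.Prime] [CharP k p] [CharP F p] [IsAlgClosed k] (a : ℕ)
variable {V : Type v} [AddCommGroup V] [Module k V] [FiniteDimensional k V]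

/-- **the rules** -/
structure Rl (ρ : Representation k (_root_.Matrix.SpecialLinearGroup (Fin 2) F) V) (P : V →ₗ[k] V →ₗ[k] k) : Prop where
  sS : ∀ (X : Submodule k V) (hX : ∀ g, ∀ x ∈ X, ρ g x ∈ X), X ≠ ⊥ →
    ∃ c, c ∈ cf (Sy.{u, v, w} ι p) (Sq (subRep ρ X hX)) ∧ c ≠ 0 ∧ InSoc ι p ρ c
  n2 : ∀ i < a, ¬ InSoc ι p ρ (2 * p ^ i)
  n4 : 11 ≤ p → ∀ i < a, (cf (Sy.{u, v, w} ι p) ρ).count (4 * p ^ i) ≤ 3 → InSoc ι p ρ (4 * p ^ i) →
    8 * p ^ i ∈ cf (Sy.{u, v, w} ι p) ρ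
  i4 : 11 ≤ p → ∀ i < a, (cf (Sy.{u, v, w} ι p) ρ).count (4 * p ^ i) ≤ 3 → InSoc ι p ρ (4 * p ^ i) →
    (∀ (X : Submodule k V) (hX : ∀ g, ∀ x ∈ X, ρ g x ∈ X), IsV ι p (subRep ρ X hX) (4 * p ^ i) → Iso P X) →
    ∃ (Y : Submodule k V) (hY : ∀ g, ∀ x ∈ Y, ρ g x ∈ Y), IsV ι p (subRep ρ Y hY) (8 * p ^ i) ∧ Iso P Y
  n45 : p = 5 → 0 ∉ cf (Sy.{u, v, w} ι p) ρ → ∀ i < a, (cf (Sy.{u, v, w} ι p) ρ).count (4 * p ^ i) ≤ 3 →
    ¬ InSoc ι p ρ (4 * p ^ i)
  n47 : p = 7 → 2 ≤ a → 0 ∉ cf (Sy.{u, v, w} ι p) ρ → ∀ i < a, (cf (Sy.{u, v, w} ι p) ρ).count (4 * p ^ i) ≤ 3 →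
    (InSoc ι p ρ (p ^ i + p ^ ((i + 1) % a)) → (cf (Sy.{u, v, w} ι p) ρ).count (p ^ i + p ^ ((i + 1) % a)) ≤ 1) →
    ((cf (Sy.{u, v, w} ι p) ρ).count (p ^ i + p ^ ((i + 1) % a)) ≤ 1 ∨
      (cf (Sy.{u, v, w} ι p) ρ).count (4 * p ^ i) ≤ 2) → InSoc ι p ρ (4 * p ^ i) →
    ∃ (Y : Submodule k V) (hY : ∀ g, ∀ x ∈ Y, ρ g x ∈ Y), Nd P Y ∧
      cf (Sy.{u, v, w} ι p) (subRep ρ Y hY) = {4 * p ^ i, 4 * p ^ i, p ^ i + p ^ ((i + 1) % a)}
  n22 : ∀ i < a, ∀ j < a, i ≠ j → (cf (Sy.{u, v, w} ι p) ρ).count (2 * p ^ i + 2 * p ^ j) ≤ 3 →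
    ¬ InSoc ι p ρ (4 * p ^ i) → ¬ InSoc ι p ρ (4 * p ^ j) → ¬ InSoc ι p ρ (4 * p ^ i + 4 * p ^ j) →
    ¬ InSoc ι p ρ (2 * p ^ i + 2 * p ^ j)

variable {ι p a}
variable {ρ : Representation k (_root_.Matrix.SpecialLinearGroup (Fin 2) F) V} {P : V →ₗ[k] V →ₗ[k] k} (R : Rl ι p a ρ P)
  (hF : Fintype.card F = p ^ a)

include R hF

theorem Rl.n11 (hp5 : 5 ≤ p) {i j : ℕ} (hi : i < a) (hj : j < a) (hij : i ≠ j) (h : InSoc ι p ρ (p ^ i + p ^ j)) :
    2 * p ^ i + 2 * p ^ j ∈ cf (Sy.{u, v, w} ι p) ρ := by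
  obtain ⟨X, hX, hV⟩ := h
  have hX0 : X ≠ ⊥ := Submodule.nontrivial_iff_ne_bot.1 hV.irr.1
  obtain ⟨c, h1, h2, h3⟩ := R.sS X hX hX0
  rw [sq_11 ι p hF (by omega) hij hi hj hV, Multiset.insert_eq_cons, Multiset.mem_cons, Multiset.mem_singleton] at h1
  rcases h1 with rfl | rfl
  · exact h3.mem_cf
  · exact absurd rfl h2

theorem Rl.sq1 {n i : ℕ} (hn : n < p) (hi : i < a) (h : InSoc ι p ρ (n * p ^ i)) :
    ∃ c ∈ sqs p a i n, c ≠ 0 ∧ InSoc ι p ρ c := by
  obtain ⟨X, hX, hV⟩ := h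
  have hX0 : X ≠ ⊥ := Submodule.nontrivial_iff_ne_bot.1 hV.irr.1
  obtain ⟨c, h1, h2, h3⟩ := R.sS X hX hX0
  rw [cf_sq_single ι p hF hn hi hV] at h1
  exact ⟨c, h1, h2, h3⟩

variable {W : List (List ℕ)} (hw : (W : Multiset (List ℕ)) = (cf (Sy.{u, v, w} ι p) ρ).map (tyl p))
  (hW4 : (W : Multiset (List ℕ)).count [4] ≤ 3) (hW22 : (W : Multiset (List ℕ)).count [2, 2] ≤ 3)

include hw

theorem Rl.soc2 {c : ℕ} (hc : InSoc ι p ρ c) : tyl p c ≠ [2] := by
  intro h
  obtain ⟨i, hi, rfl⟩ := tyl_single_inv h (cf_lt ι p hF ρ c hc.mem_cf) (by norm_num)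
  exact R.n2 i hi hc

theorem Rl.soc11 (hp5 : 5 ≤ p) {c : ℕ} (hc : InSoc ι p ρ c) (h : tyl p c = [1, 1]) : [2, 2] ∈ W := by
  obtain ⟨i, hi, j, hj, hij, rfl⟩ := tyl_pair_inv h (cf_lt ι p hF ρ c hc.mem_cf) (by norm_num) (by norm_num)
  rw [one_mul, one_mul] at hc
  have h1 := cf_typ_mem ι p hw (R.n11 hF hp5 hi hj hij hc)
  rwa [tyl_pair (by norm_num) (by omega) le_rfl (by omega) hij] at h1

include hW4

theorem Rl.soc4 (hp : 11 ≤ p) {c : ℕ} (hc : InSoc ι p ρ c) (h : tyl p c = [4]) :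
    ∃ i < a, c = 4 * p ^ i ∧ 8 * p ^ i ∈ cf (Sy.{u, v, w} ι p) ρ := by
  obtain ⟨i, hi, rfl⟩ := tyl_single_inv h (cf_lt ι p hF ρ c hc.mem_cf) (by norm_num)
  refine ⟨i, hi, rfl, R.n4 hp i hi ?_ hc⟩
  have := count_tyl hw (4 * p ^ i)
  rw [h] at this
  omega

theorem Rl.soc4' (hp : 11 ≤ p) {c : ℕ} (hc : InSoc ι p ρ c) (h : tyl p c = [4]) : [8] ∈ W := by
  obtain ⟨i, hi, rfl, h8⟩ := R.soc4 hF hw hW4 hp hc h
  have h1 := cf_typ_mem ι p hw h8
  rwa [tyl_single (by norm_num) (by omega)] at h1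

include hW22

omit hW4 in
theorem Rl.soc22 (hp5 : 5 ≤ p) {c : ℕ} (hc : InSoc ι p ρ c) (h : tyl p c = [2, 2]) :
    (∃ d, InSoc ι p ρ d ∧ tyl p d = [4]) ∨ [4, 4] ∈ W := by
  obtain ⟨i, hi, j, hj, hij, rfl⟩ := tyl_pair_inv h (cf_lt ι p hF ρ c hc.mem_cf) (by norm_num) (by norm_num)
  by_contra hcon
  push Not at hcon
  obtain ⟨h1, h2⟩ := hcon
  refine R.n22 i hi j hj hij ?_ (fun h3 => h1 _ h3 (tyl_single (by norm_num) (by omega) _))
    (fun h3 => h1 _ h3 (tyl_single (by norm_num) (by omega) _)) (fun h3 => h2 ?_) hc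
  · have := count_tyl hw (2 * p ^ i + 2 * p ^ j)
    rw [h] at this
    omega
  · have h4 := cf_typ_mem ι p hw h3.mem_cf
    rwa [tyl_pair (by norm_num) (by omega) le_rfl (by omega) hij] at h4

/-- the conditions on the types of the socle, `p ≥ 11` -/
def okA (W : List (List ℕ)) (t : List ℕ) : Bool :=
  decide (t ∈ W ∧ t ≠ [2] ∧ (t = [1, 1] → [2, 2] ∈ W) ∧ (t = [4] → [8] ∈ W) ∧ (t = [2, 2] → [8] ∈ W ∧ [4] ∈ W ∨ [4, 4] ∈ W))

theorem Rl.okA (hp : 11 ≤ p) {c : ℕ} (hc : InSoc ι p ρ c) : okA W (tyl p c) = true := by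
  unfold F4T.okA
  rw [decide_eq_true_iff]
  refine ⟨cf_typ_mem ι p hw hc.mem_cf, R.soc2 hF hw hc, R.soc11 hF hw (by omega) hc, R.soc4' hF hw hW4 hp hc, fun h => ?_⟩
  rcases R.soc22 hF hw hW22 (by omega) hc h with ⟨d, hd, h4⟩ | h1
  · refine Or.inl ⟨R.soc4' hF hw hW4 hp hd h4, ?_⟩
    rw [← h4]
    exact cf_typ_mem ι p hw hd.mem_cf
  · exact Or.inr h1

/-- the conditions on the types of the socle, `p = 5`, no trivial factor -/
def okC (W : List (List ℕ)) (t : List ℕ) : Bool :=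
  decide (t ∈ W ∧ t ≠ [2] ∧ (t = [1, 1] → [2, 2] ∈ W) ∧ t ≠ [4] ∧ (t = [2, 2] → [4, 4] ∈ W))

theorem Rl.okC (hp : p = 5) (h0 : [] ∉ W) {c : ℕ} (hc : InSoc ι p ρ c) : okC W (tyl p c) = true := by
  have h4 : ∀ {c : ℕ}, InSoc ι p ρ c → tyl p c ≠ [4] := by
    intro c hc h
    obtain ⟨i, hi, rfl⟩ := tyl_single_inv h (cf_lt ι p hF ρ c hc.mem_cf) (by norm_num)
    refine R.n45 hp (fun h1 => h0 ?_) i hi ?_ hc
    · have h2 := cf_typ_mem ι p hw h1
      rwa [tyl_eq_nil.2 rfl] at h2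
    · have := count_tyl hw (4 * p ^ i)
      rw [h] at this
      omega
  unfold F4T.okC
  rw [decide_eq_true_iff]
  refine ⟨cf_typ_mem ι p hw hc.mem_cf, R.soc2 hF hw hc, R.soc11 hF hw (by omega) hc, h4 hc, fun h => ?_⟩
  rcases R.soc22 hF hw hW22 (by omega) hc h with ⟨d, hd, h5⟩ | h1
  · exact absurd h5 (h4 hd)
  · exact h1

/-- the conditions on the types of the socle, `p = 7`; `e` : there is a `[4]` in the socle -/
def okB (W : List (List ℕ)) (e : Bool) (t : List ℕ) : Bool :=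
  decide (t ∈ W ∧ t ≠ [2] ∧ (t = [1, 1] → [2, 2] ∈ W) ∧ (t = [4] → e = true) ∧ (t = [2, 2] → e = true ∨ [4, 4] ∈ W))

omit hW4 in
theorem Rl.okB (hp : p = 7) {e : Bool} (he : e = false → ∀ c, InSoc ι p ρ c → tyl p c ≠ [4])
    {c : ℕ} (hc : InSoc ι p ρ c) : okB W e (tyl p c) = true := by
  have h4 : ∀ {c : ℕ}, InSoc ι p ρ c → tyl p c = [4] → e = true := by
    intro c hc h
    by_contra h1
    exact he (Bool.eq_false_iff.2 h1) c hc h
  unfold F4T.okB
  rw [decide_eq_true_iff]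
  refine ⟨cf_typ_mem ι p hw hc.mem_cf, R.soc2 hF hw hc, R.soc11 hF hw (by omega) hc, h4 hc, fun h => ?_⟩
  rcases R.soc22 hF hw hW22 (by omega) hc h with ⟨d, hd, h5⟩ | h1
  · exact Or.inl (h4 hd h5)
  · exact Or.inr h1

omit hW4 in
/-- `p = 7` : the summand `T(8)` -/
theorem Rl.T8 (hW4 : (W : Multiset (List ℕ)).count [4] ≤ 3) (hp : p = 7) (ha : 2 ≤ a) (h0 : [] ∉ W)
    (hA : [2, 2] ∈ W → (W : Multiset (List ℕ)).count [1, 1] ≤ 1)
    (hB : (W : Multiset (List ℕ)).count [1, 1] ≤ 1 ∨ (W : Multiset (List ℕ)).count [4] ≤ 2) {c : ℕ} (hc : InSoc ι p ρ c)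
    (h : tyl p c = [4]) : ∃ i < a, c = 4 * p ^ i ∧ ∃ (Y : Submodule k V) (hY : ∀ g, ∀ x ∈ Y, ρ g x ∈ Y), Nd P Y ∧
      cf (Sy.{u, v, w} ι p) (subRep ρ Y hY) = {4 * p ^ i, 4 * p ^ i, p ^ i + p ^ ((i + 1) % a)} := by
  obtain ⟨i, hi, rfl⟩ := tyl_single_inv h (cf_lt ι p hF ρ c hc.mem_cf) (by norm_num)
  have hii : i ≠ (i + 1) % a := by
    by_cases h1 : i + 1 = a
    · rw [h1, Nat.mod_self]
      omega
    · rw [Nat.mod_eq_of_lt (by omega)]
      omega
  have ht11 : tyl p (p ^ i + p ^ ((i + 1) % a)) = [1, 1] := by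
    have h := tyl_pair (p := p) (n := 1) (m := 1) (by norm_num) (by omega) (by norm_num) (by omega) hii
    rwa [one_mul, one_mul] at h
  have c4 := count_tyl hw (4 * p ^ i)
  have c11 := count_tyl hw (p ^ i + p ^ ((i + 1) % a))
  rw [h] at c4
  rw [ht11] at c11
  refine ⟨i, hi, rfl, R.n47 hp ha (fun h1 => h0 ?_) i hi (by omega) (fun h1 => ?_) (by omega) hc⟩
  · have h2 := cf_typ_mem ι p hw h1
    rwa [tyl_eq_nil.2 rfl] at h2
  · have := hA (R.soc11 hF hw (by omega) h1 ht11)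
    omega

end Cfsg.Agent.R2.F4T
end

-- part: R2/F4T/Tab11
section
/-!
# The patterns for `p ≥ 11` (helper6, S5931)

`tab11` : the surviving patterns: `[4],[4],[6],[8]` (alpha), `[1,1,2],[4],[8]`, `[1,5],[4],[8]` (theta), `[1,3],[8],[8]`,
`[2],[4],[8],[8]`, `[8],[16]`.
-/

set_option autoImplicit false
set_option linter.unusedSectionVars false

namespace Cfsg.Agent.R2.F4T

open Matrix Cfsg.Agent.H943.SL2Rel Cfsg.Agent.H943.SL2Mod Cfsg.Agent.H943.RepAdd Cfsg.Agent.R2.H28.SL2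
open Cfsg.Agent.R2.SL2 (typ tyl coe_tyl typ_step typ_zero tyl_eq_nil mem_typ listF4)

universe u v w

section lists

theorem exists_list {α β : Type*} [DecidableEq α] (f : α → β) : ∀ (W : List β) (s : Multiset α)
    (_ : (W : Multiset β) = s.map f), ∃ l : List α, s = (l : Multiset α) ∧ l.map f = W := by
  intro W
  induction W with
  | nil =>
    intro s h
    have h1 : s = 0 := Multiset.map_eq_zero.1 h.symm
    exact ⟨[], h1, rfl⟩
  | cons t W ih =>
    intro s h
    have h1 : s.map f = t ::ₘ (W : Multiset β) := h.symm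
    obtain ⟨b, hb, hbt, hs⟩ := (Multiset.map_eq_cons f s _ t).2 h1
    obtain ⟨l, hl, hl'⟩ := ih _ hs.symm
    refine ⟨b :: l, ?_, ?_⟩
    · rw [← Multiset.cons_coe, ← hl, Multiset.cons_erase hb]
    · rw [List.map_cons, hbt, hl']

theorem pow_inj' {p n i j : ℕ} [Fact p.Prime] (hn : 0 < n) (h : n * p ^ i = n * p ^ j) : i = j :=
  Nat.pow_right_injective (Fact.out : p.Prime).two_le (Nat.eq_of_mul_eq_mul_left hn h)

end lists

variable {k : Type u} [Field k] [DecidableEq k] {F : Type w} [Field F] [Fintype F] [DecidableEq F] {ι : F →+* k}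
variable {p : ℕ} [Fact p.Prime] [CharP k p] [CharP F p] [IsAlgClosed k] {a : ℕ}
variable {V : Type v} [AddCommGroup V] [Module k V] [FiniteDimensional k V]
variable {ρ : Representation k (_root_.Matrix.SpecialLinearGroup (Fin 2) F) V} {P : V →ₗ[k] V →ₗ[k] k}

/-- all irreducible submodules are nondegenerate -/
def Nds (ι : F →+* k) (p : ℕ) [Fact p.Prime] [CharP k p] [CharP F p]
    (ρ : Representation k (_root_.Matrix.SpecialLinearGroup (Fin 2) F) V) (P : V →ₗ[k] V →ₗ[k] k) : Prop :=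
  ∀ (X : Submodule k V) (hX : ∀ g, ∀ x ∈ X, ρ g x ∈ X) (b : ℕ), IsV ι p (subRep ρ X hX) b → Nd P X

/-- orthogonality -/
theorem SD.orth_of_ne (S : SD ρ P) {X Y : Submodule k V} {hX : ∀ g, ∀ x ∈ X, ρ g x ∈ X} {hY : ∀ g, ∀ x ∈ Y, ρ g x ∈ Y}
    {b c : ℕ} (hb : IsV ι p (subRep ρ X hX) b) (hc : IsV ι p (subRep ρ Y hY) c) (hbc : b ≠ c) :
    ∀ x ∈ X, ∀ y ∈ Y, P x y = 0 := by
  rcases IsV.inf_or_le ι p hc (S.orth_inv hX) with h | h
  · exfalso
    obtain ⟨B₁, D₁, -⟩ := S.dul.sub hX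
    have h2 : IsV ι p (quotRep ρ (orth P X) (S.orth_inv hX)) b := IsV.dual ι p hb D₁.flip.flip
    have h3 : InSoc ι p (quotRep ρ (orth P X) (S.orth_inv hX)) c := by
      refine inSoc_of_hom ι p hc ((orth P X).mkQ ∘ₗ Y.subtype) (fun g x => ?_) ?_
      · exact (quotRep_mk ρ (orth P X) (S.orth_inv hX) g _).symm
      · intro h0
        obtain ⟨y, hy⟩ := @exists_ne Y hc.irr.1 0
        apply hy
        have h4 : (orth P X).mkQ (y : V) = 0 := by
          have := LinearMap.congr_fun h0 y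
          exact this
        have h5 : (y : V) ∈ Y ⊓ orth P X := ⟨y.2, (Submodule.Quotient.mk_eq_zero _).1 h4⟩
        rw [h, Submodule.mem_bot] at h5
        exact Subtype.ext h5
    have h4 := h3.mem_cf
    have h5 : cf (Sy.{u, v, w} ι p) (quotRep ρ (orth P X) (S.orth_inv hX)) = {b} := cf_irr _ h2
    rw [h5, Multiset.mem_singleton] at h4
    exact hbc h4.symm
  · exact fun x hx y hy => h hy x hx

theorem typ1 {W : List (List ℕ)} (hw : (W : Multiset (List ℕ)) = (cf (Sy.{u, v, w} ι p) ρ).map (tyl p)) {t : List ℕ}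
    (h1 : (W : Multiset (List ℕ)).count t ≤ 1) {b c : ℕ} (hb : b ∈ cf (Sy.{u, v, w} ι p) ρ)
    (hc : c ∈ cf (Sy.{u, v, w} ι p) ρ) (hbt : tyl p b = t) (hct : tyl p c = t) : b = c := by
  have h2 : 0 < (W : Multiset (List ℕ)).count t := by
    rw [hw, ← hbt]
    exact Multiset.count_pos.2 (Multiset.mem_map_of_mem _ hb)
  exact (uniq_typ ι p hw (by omega) hb hc hbt hct).1

/-- the socle of a nondegenerate submodule -/
theorem Nds.restrict {X : Submodule k V} (hX : ∀ g, ∀ x ∈ X, ρ g x ∈ X)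
    (h : ∀ (Y : Submodule k V) (hY : ∀ g, ∀ x ∈ Y, ρ g x ∈ Y) (b : ℕ), IsV ι p (subRep ρ Y hY) b → Y ≤ X → Nd P Y) :
    Nds ι p (subRep ρ X hX) (P.compl₁₂ X.subtype X.subtype) := by
  intro Y hY b hb
  obtain ⟨hY', e, he⟩ := eqv_map (subRep ρ X hX) ρ X.subtype (fun _ _ => rfl) X.injective_subtype Y hY
  exact nd_map (h _ hY' b (IsV.iso ι p e he hb) (Submodule.map_subtype_le _ _))

/-- a submodule of a nondegenerate submodule, counted there -/
theorem SD.nd_of_count_sub (S : SD ρ P) {X : Submodule k V} (hX : ∀ g, ∀ x ∈ X, ρ g x ∈ X) (h : Nd P X)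
    {Y : Submodule k V} {hY : ∀ g, ∀ x ∈ Y, ρ g x ∈ Y} {b : ℕ} (hb : IsV ι p (subRep ρ Y hY) b) (hYX : Y ≤ X)
    (hc : (cf (Sy.{u, v, w} ι p) (subRep ρ X hX)).count b ≤ 1) : Nd P Y := by
  have hYi : ∀ g, ∀ x ∈ Y.comap X.subtype, subRep ρ X hX g x ∈ Y.comap X.subtype := fun g x hx => hY g _ hx
  have hmap : (Y.comap X.subtype).map X.subtype = Y := by
    rw [Submodule.map_comap_subtype, inf_eq_right.2 hYX]
  have hV : IsV ι p (subRep (subRep ρ X hX) (Y.comap X.subtype) hYi) b := by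
    refine IsV.iso ι p (Submodule.comapSubtypeEquivOfLe hYX).symm (fun g x => ?_) hb
    exact Subtype.ext (Subtype.ext rfl)
  have h1 := (S.restrict hX h).nd_of_count hV hc
  rw [← hmap]
  exact nd_map' h1

variable (S : SD ρ P) (R : Rl ι p a ρ P) (hF : Fintype.card F = p ^ a) {W : List (List ℕ)}
  (hw : (W : Multiset (List ℕ)) = (cf (Sy.{u, v, w} ι p) ρ).map (tyl p))

include S R hF hw

/-- two factors `[4]` : semisimplicity -/
theorem SD.four (hp11 : 11 ≤ p) (c8 : (W : Multiset (List ℕ)).count [8] ≤ 1) (c4 : (W : Multiset (List ℕ)).count [4] = 2)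
    (c22 : (W : Multiset (List ℕ)).count [2, 2] ≤ 3)
    (hoth : ∀ t ∈ W, okA W t = true → t ≠ [4] → (W : Multiset (List ℕ)).count t ≤ 1) :
    ∀ b ∈ cf (Sy.{u, v, w} ι p) ρ, InSoc ι p ρ b := by
  by_cases hall : Nds ι p ρ P
  · exact S.all_soc hall
  · unfold Nds at hall
    push Not at hall
    obtain ⟨X, hX, b, hb, hnd⟩ := hall
    have hiso := (S.nd_or_iso hb).resolve_left hnd
    have hc2 := S.two_le_count hb hiso
    have hbs : InSoc ι p ρ b := ⟨X, hX, hb⟩
    have hok := R.okA hF hw (by omega) c22 hp11 hbs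
    have hbt : tyl p b = [4] := by
      by_contra h4
      have h5 := hoth _ (cf_typ_mem ι p hw hbs.mem_cf) hok h4
      have h6 := count_tyl hw b
      omega
    obtain ⟨r, hr, rfl, h8⟩ := R.soc4 hF hw (by omega) hp11 hbs hbt
    have hc : (cf (Sy.{u, v, w} ι p) ρ).count (4 * p ^ r) = 2 := by
      have h6 := count_tyl hw (4 * p ^ r)
      rw [hbt, c4] at h6
      omega
    -- a nondegenerate copy
    obtain ⟨X', hX', hb', hnd'⟩ : ∃ (X : Submodule k V) (hX : ∀ g, ∀ x ∈ X, ρ g x ∈ X),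
        IsV ι p (subRep ρ X hX) (4 * p ^ r) ∧ Nd P X := by
      by_contra hcon
      push Not at hcon
      obtain ⟨Y, hY, hY8, hYi⟩ := R.i4 hp11 r hr (by omega) hbs fun X hX h => (S.nd_or_iso h).resolve_left (hcon X hX h)
      have h9 := S.two_le_count hY8 hYi
      have h10 := count_tyl hw (8 * p ^ r)
      rw [tyl_single (by norm_num) (by omega)] at h10
      omega
    have hcf := S.cf_eq (ι := ι) (p := p) hX' hnd'
    rw [cf_irr (Sy.{u, v, w} ι p) hb'] at hcf
    have hcnt : ∀ c, (cf (Sy.{u, v, w} ι p) ρ).count c ≤ 1 ∨ c = 4 * p ^ r →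
        (cf (Sy.{u, v, w} ι p) (subRep ρ (orth P X') (S.orth_inv hX'))).count c ≤ 1 := by
      intro c hc'
      rw [hcf, Multiset.count_add] at hc'
      rcases hc' with h1 | rfl
      · omega
      · rw [hcf, Multiset.count_add, Multiset.count_singleton_self] at hc
        omega
    have hZ := (S.restrict (S.orth_inv hX') (S.nd_orth hnd')).all_soc (ι := ι) (p := p) (fun Y hY c hc' =>
      (S.restrict (S.orth_inv hX') (S.nd_orth hnd')).nd_of_count hc' (hcnt c (by
        have hcs : InSoc ι p ρ c := InSoc.iso ι p (orth P X').subtype (fun _ _ => rfl) (Submodule.injective_subtype _)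
          ⟨Y, hY, hc'⟩
        have hok' := R.okA hF hw (by omega) c22 hp11 hcs
        by_cases h4 : tyl p c = [4]
        · right
          by_contra hne
          have h5 := hcs.mem_cf
          rw [hcf, Multiset.mem_add, Multiset.mem_singleton] at h5
          have h6 : 3 ≤ (W : Multiset (List ℕ)).count [4] := by
            have h7 : ((4 * p ^ r) ::ₘ (4 * p ^ r) ::ₘ {c}) ≤ cf (Sy.{u, v, w} ι p) ρ := by
              rw [Multiset.le_iff_count]
              intro d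
              rw [Multiset.count_cons, Multiset.count_cons, Multiset.count_singleton]
              by_cases hd : d = 4 * p ^ r
              · rw [if_pos hd, if_neg (by rw [hd]; exact Ne.symm hne), hd, hc]
              · rw [if_neg hd]
                split_ifs with hdc
                · rw [hdc]
                  exact Multiset.one_le_count_iff_mem.2 hcs.mem_cf
                · exact Nat.zero_le _
            have h8 := Multiset.map_le_map (f := tyl p) h7
            rw [← hw, Multiset.map_cons, Multiset.map_cons, Multiset.map_singleton, h4, hbt] at h8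
            have h9 := Multiset.count_le_of_le [4] h8
            rw [Multiset.count_cons_self, Multiset.count_cons_self, Multiset.count_singleton_self] at h9
            omega
          omega
        · left
          exact (count_tyl hw c).trans (hoth _ (cf_typ_mem ι p hw hcs.mem_cf) hok' h4))))
    intro c hc'
    rw [hcf, Multiset.mem_add, Multiset.mem_singleton] at hc'
    rcases hc' with rfl | hc'
    · exact ⟨X', hX', hb'⟩
    · exact InSoc.iso ι p (orth P X').subtype (fun _ _ => rfl) (Submodule.injective_subtype _) (hZ c hc')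

omit S R hF hw in
theorem keyA : ∀ W ∈ listF4, [] ∉ W →
    ((∀ t ∈ W, okA W t = true → (W : Multiset (List ℕ)).count t ≤ 1) ∧ ¬ ∀ t ∈ W, okA W t = true) ∨
    W ∈ ([[[1, 1], [2], [4], [4], [8]], [[1, 1, 2], [4], [8]], [[1, 5], [4], [8]], [[1, 3], [8], [8]],
      [[2], [4], [8], [8]], [[4], [4], [6], [8]], [[8], [16]]] : List (List (List ℕ))) := by decide +kernel

omit S R hF hw in
theorem keyC : ∀ W ∈ listF4, [] ∉ W → (W : Multiset (List ℕ)).count [4] ≤ 3 ∧ (W : Multiset (List ℕ)).count [2, 2] ≤ 3 := by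
  decide +kernel

omit S R hw in
/-- labels with one digit -/
theorem lab1 {b n : ℕ} (hb : b ∈ cf (Sy.{u, v, w} ι p) ρ) (h : tyl p b = [n]) (hn : 0 < n) : ∃ i < a, b = n * p ^ i :=
  tyl_single_inv h (cf_lt ι p hF ρ b hb) hn

omit S R hF hw in
/-- the square of `[6]`, `p ≥ 11` -/
theorem sqs6 (hp11 : 11 ≤ p) {i c : ℕ} (hi : i < a) (hc : c ∈ sqs p a i 6) (h0 : c ≠ 0)
    (ht : tyl p c ∈ ([[4], [4], [6], [8]] : List (List ℕ))) : c = 4 * p ^ i ∨ c = 8 * p ^ i := by
  have hp : p.Prime := Fact.out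
  have e : sqs p a i 6 = H28.SL2.one p a i 12 + (H28.SL2.one p a i 8 + (H28.SL2.one p a i 4 + {0})) := rfl
  rw [e] at hc
  simp only [Multiset.mem_add] at hc
  rcases hc with hc | hc | hc | hc
  · by_cases h13 : 12 < p
    · exfalso
      unfold Cfsg.Agent.R2.H28.SL2.one at hc
      rw [if_pos h13, Multiset.mem_singleton] at hc
      rw [hc, tyl_single (by norm_num) h13] at ht
      revert ht
      decide
    · have h11 : p = 11 := by
        have h12 : p ≠ 12 := by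
          rintro rfl
          revert hp
          decide
        omega
      subst h11
      by_cases ha1 : a = 1
      · have hi0 : i = 0 := by omega
        subst hi0
        unfold Cfsg.Agent.R2.H28.SL2.one ov at hc
        rw [if_neg (by norm_num), if_pos ha1, if_neg (by norm_num)] at hc
        simp only [Multiset.insert_eq_cons, Multiset.mem_cons, Multiset.mem_singleton] at hc
        norm_num at hc
        rcases hc with hc | hc | hc
        · exfalso
          have h4 := tyl_single (p := 11) (n := 2) (by norm_num) (by norm_num) 0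
          rw [pow_zero, mul_one] at h4
          rw [hc, h4] at ht
          revert ht
          decide
        · exact absurd hc h0
        · right
          rw [hc, pow_zero, mul_one]
      · unfold Cfsg.Agent.R2.H28.SL2.one ov at hc
        rw [if_neg (by norm_num), if_neg ha1] at hc
        simp only [Multiset.insert_eq_cons, Multiset.mem_cons, Multiset.mem_singleton] at hc
        rcases hc with hc | hc
        · exfalso
          have h4 := tyl_pair (p := 11) (n := 1) (m := 1) (by norm_num) (by omega) (by norm_num) (by omega)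
            (succ_mod_ne (a := a) (i := i) (by omega) hi)
          rw [one_mul] at h4
          norm_num at hc
          rw [one_mul] at h4
          rw [hc, h4] at ht
          revert ht
          decide
        · right
          rw [hc]
  · right
    unfold Cfsg.Agent.R2.H28.SL2.one at hc
    rwa [if_pos (by omega), Multiset.mem_singleton] at hc
  · left
    unfold Cfsg.Agent.R2.H28.SL2.one at hc
    rwa [if_pos (by omega), Multiset.mem_singleton] at hc
  · exact absurd (Multiset.mem_singleton.1 hc) h0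

/-- **the patterns for `p ≥ 11`** -/
theorem tab11 (hp11 : 11 ≤ p) (hWm : W ∈ listF4) (h0 : [] ∉ W) :
    (∃ r < a, cf (Sy.{u, v, w} ι p) ρ = {4 * p ^ r, 4 * p ^ r, 6 * p ^ r, 8 * p ^ r} ∧
      (∀ b ∈ cf (Sy.{u, v, w} ι p) ρ, InSoc ι p ρ b) ∧
      ∃ (X : Submodule k V) (hX : ∀ g, ∀ x ∈ X, ρ g x ∈ X), IsV ι p (subRep ρ X hX) (4 * p ^ r) ∧ Nd P X) ∨
    (∃ r < a, ∃ b, (tyl p b = [1, 1, 2] ∨ tyl p b = [1, 5]) ∧ cf (Sy.{u, v, w} ι p) ρ = {b, 4 * p ^ r, 8 * p ^ r} ∧
      Nds ι p ρ P) ∨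
    (∃ b, tyl p b = [1, 3] ∧ ∃ r < a, ∃ s < a, cf (Sy.{u, v, w} ι p) ρ = {b, 8 * p ^ r, 8 * p ^ s}) ∨
    (∃ i < a, ∃ j < a, ∃ r < a, ∃ s < a, cf (Sy.{u, v, w} ι p) ρ = {2 * p ^ i, 4 * p ^ j, 8 * p ^ r, 8 * p ^ s}) ∨
    (17 ≤ p ∧ ∃ r < a, ∃ s < a, cf (Sy.{u, v, w} ι p) ρ = {8 * p ^ r, 16 * p ^ s} ∧ Nds ι p ρ P) := by
  have hp : p.Prime := Fact.out
  obtain ⟨hc4, hc22⟩ := keyC W hWm h0
  have hok : ∀ c, InSoc ι p ρ c → okA W (tyl p c) = true := fun c hc => R.okA hF hw hc4 hc22 hp11 hc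
  rcases keyA W hWm h0 with h | h
  · exact (S.kp hw (okA W) hok h).elim
  -- the labels
  obtain ⟨l, hl, hlW⟩ := exists_list (tyl p) W _ hw
  simp only [List.mem_cons, List.not_mem_nil, or_false] at h
  rcases h with rfl | rfl | rfl | rfl | rfl | rfl | rfl
  -- `[1,1],[2],[4],[4],[8]`
  · exfalso
    have h1 := S.four R hF hw hp11 (by decide) (by decide) (by decide) (by decide)
    have h2 : [2] ∈ ((([[1, 1], [2], [4], [4], [8]] : List (List ℕ))) : Multiset (List ℕ)) := by decide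
    rw [hw] at h2
    obtain ⟨c, hc, hct⟩ := Multiset.mem_map.1 h2
    exact R.soc2 hF hw (h1 c hc) hct
  -- `[1,1,2],[4],[8]`
  · right; left
    obtain ⟨b, l1, rfl, hb, hl1⟩ := List.map_eq_cons_iff.1 hlW
    obtain ⟨c, l2, rfl, hc, hl2⟩ := List.map_eq_cons_iff.1 hl1
    obtain ⟨d, l3, rfl, hd, hl3⟩ := List.map_eq_cons_iff.1 hl2
    obtain rfl := List.map_eq_nil_iff.1 hl3
    have hk := S.kp' hw (okA _) hok (by decide)
    have hcm : c ∈ cf (Sy.{u, v, w} ι p) ρ := by rw [hl]; simp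
    have hdm : d ∈ cf (Sy.{u, v, w} ι p) ρ := by rw [hl]; simp
    obtain ⟨r, hr, rfl, h8⟩ := R.soc4 hF hw hc4 hp11 (S.all_soc hk.1 c hcm) hc
    have h9 := typ1 hw (t := [8]) (by decide) hdm h8 hd (tyl_single (by norm_num) (by omega) _)
    rw [h9] at hl
    exact ⟨r, hr, b, Or.inl hb, hl, hk.1⟩
  -- `[1,5],[4],[8]`
  · right; left
    obtain ⟨b, l1, rfl, hb, hl1⟩ := List.map_eq_cons_iff.1 hlW
    obtain ⟨c, l2, rfl, hc, hl2⟩ := List.map_eq_cons_iff.1 hl1
    obtain ⟨d, l3, rfl, hd, hl3⟩ := List.map_eq_cons_iff.1 hl2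
    obtain rfl := List.map_eq_nil_iff.1 hl3
    have hk := S.kp' hw (okA _) hok (by decide)
    have hcm : c ∈ cf (Sy.{u, v, w} ι p) ρ := by rw [hl]; simp
    have hdm : d ∈ cf (Sy.{u, v, w} ι p) ρ := by rw [hl]; simp
    obtain ⟨r, hr, rfl, h8⟩ := R.soc4 hF hw hc4 hp11 (S.all_soc hk.1 c hcm) hc
    have h9 := typ1 hw (t := [8]) (by decide) hdm h8 hd (tyl_single (by norm_num) (by omega) _)
    rw [h9] at hl
    exact ⟨r, hr, b, Or.inr hb, hl, hk.1⟩
  -- `[1,3],[8],[8]`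
  · right; right; left
    obtain ⟨b, l1, rfl, hb, hl1⟩ := List.map_eq_cons_iff.1 hlW
    obtain ⟨c, l2, rfl, hc, hl2⟩ := List.map_eq_cons_iff.1 hl1
    obtain ⟨d, l3, rfl, hd, hl3⟩ := List.map_eq_cons_iff.1 hl2
    obtain rfl := List.map_eq_nil_iff.1 hl3
    obtain ⟨r, hr, rfl⟩ := lab1 hF (b := c) (by rw [hl]; simp) hc (by norm_num)
    obtain ⟨s, hs, rfl⟩ := lab1 hF (b := d) (by rw [hl]; simp) hd (by norm_num)
    exact ⟨b, hb, r, hr, s, hs, hl⟩
  -- `[2],[4],[8],[8]`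
  · right; right; right; left
    obtain ⟨b, l1, rfl, hb, hl1⟩ := List.map_eq_cons_iff.1 hlW
    obtain ⟨c, l2, rfl, hc, hl2⟩ := List.map_eq_cons_iff.1 hl1
    obtain ⟨d, l3, rfl, hd, hl3⟩ := List.map_eq_cons_iff.1 hl2
    obtain ⟨e, l4, rfl, he, hl4⟩ := List.map_eq_cons_iff.1 hl3
    obtain rfl := List.map_eq_nil_iff.1 hl4
    obtain ⟨i, hi, rfl⟩ := lab1 hF (b := b) (by rw [hl]; simp) hb (by norm_num)
    obtain ⟨j, hj, rfl⟩ := lab1 hF (b := c) (by rw [hl]; simp) hc (by norm_num)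
    obtain ⟨r, hr, rfl⟩ := lab1 hF (b := d) (by rw [hl]; simp) hd (by norm_num)
    obtain ⟨s, hs, rfl⟩ := lab1 hF (b := e) (by rw [hl]; simp) he (by norm_num)
    exact ⟨i, hi, j, hj, r, hr, s, hs, hl⟩
  -- alpha
  · left
    obtain ⟨b, l1, rfl, hb, hl1⟩ := List.map_eq_cons_iff.1 hlW
    obtain ⟨c, l2, rfl, hc, hl2⟩ := List.map_eq_cons_iff.1 hl1
    obtain ⟨d, l3, rfl, hd, hl3⟩ := List.map_eq_cons_iff.1 hl2
    obtain ⟨e, l4, rfl, he, hl4⟩ := List.map_eq_cons_iff.1 hl3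
    obtain rfl := List.map_eq_nil_iff.1 hl4
    have hall := S.four R hF hw hp11 (by decide) (by decide) (by decide) (by decide)
    have hbm : b ∈ cf (Sy.{u, v, w} ι p) ρ := by rw [hl]; simp
    have hcm : c ∈ cf (Sy.{u, v, w} ι p) ρ := by rw [hl]; simp
    have hdm : d ∈ cf (Sy.{u, v, w} ι p) ρ := by rw [hl]; simp
    have hem : e ∈ cf (Sy.{u, v, w} ι p) ρ := by rw [hl]; simp
    obtain ⟨r, hr, rfl, h8⟩ := R.soc4 hF hw hc4 hp11 (hall b hbm) hb
    obtain ⟨r', hr', rfl, h8'⟩ := R.soc4 hF hw hc4 hp11 (hall c hcm) hc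
    have h9 := typ1 hw (t := [8]) (by decide) hem h8 he (tyl_single (by norm_num) (by omega) _)
    have h9' := typ1 hw (t := [8]) (by decide) h8 h8' (tyl_single (by norm_num) (by omega) _)
      (tyl_single (by norm_num) (by omega) _)
    have hrr := pow_inj' (p := p) (by norm_num : 0 < 8) h9'
    subst hrr
    obtain ⟨t, ht, rfl⟩ := lab1 hF (b := d) hdm hd (by norm_num)
    -- the position of `6`
    have htr : t = r := by
      obtain ⟨x, hx, hx0, hxs⟩ := R.sq1 hF (by omega) ht (hall _ hdm)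
      have hxW := cf_typ_mem ι p hw hxs.mem_cf
      rcases sqs6 hp11 ht hx hx0 hxW with rfl | rfl
      · obtain ⟨r₂, hr₂, h4, h8₂⟩ := R.soc4 hF hw hc4 hp11 hxs (tyl_single (by norm_num) (by omega) _)
        have h10 := typ1 hw (t := [8]) (by decide) h8 h8₂ (tyl_single (by norm_num) (by omega) _)
          (tyl_single (by norm_num) (by omega) _)
        rw [pow_inj' (by norm_num) h4, pow_inj' (by norm_num) h10]
      · have h10 := typ1 hw (t := [8]) (by decide) hxs.mem_cf h8 (tyl_single (by norm_num) (by omega) _)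
          (tyl_single (by norm_num) (by omega) _)
        exact pow_inj' (by norm_num) h10
    subst htr
    rw [h9] at hl
    refine ⟨t, ht, hl, hall, ?_⟩
    by_contra hcon
    push Not at hcon
    have hc2 := count_tyl hw (4 * p ^ t)
    rw [hb] at hc2
    obtain ⟨Y, hY, hY8, hYi⟩ := R.i4 hp11 t ht (hc2.trans (by decide)) (hall _ hbm)
      fun X hX h => (S.nd_or_iso h).resolve_left (hcon X hX h)
    have h10 := S.two_le_count hY8 hYi
    have h11 := count_tyl hw (8 * p ^ t)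
    rw [tyl_single (by norm_num) (by omega)] at h11
    have h12 : (([[4], [4], [6], [8]] : List (List ℕ)) : Multiset (List ℕ)).count [8] = 1 := by decide
    omega
  -- `[8],[16]`
  · right; right; right; right
    obtain ⟨b, l1, rfl, hb, hl1⟩ := List.map_eq_cons_iff.1 hlW
    obtain ⟨c, l2, rfl, hc, hl2⟩ := List.map_eq_cons_iff.1 hl1
    obtain rfl := List.map_eq_nil_iff.1 hl2
    have hcm : c ∈ cf (Sy.{u, v, w} ι p) ρ := by rw [hl]; simp
    obtain ⟨r, hr, rfl⟩ := lab1 hF (b := b) (by rw [hl]; simp) hb (by norm_num)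
    obtain ⟨s, hs, rfl⟩ := lab1 hF (b := c) hcm hc (by norm_num)
    have h16 : 16 < p := lt_p ι p hw (t := [16]) (by decide) (List.mem_singleton_self _)
    exact ⟨h16, r, hr, s, hs, hl, (S.kp' hw (okA _) hok (by decide)).1⟩

end Cfsg.Agent.R2.F4T
end

-- part: R2/F4T/CC
section
/-!
# The pattern `[1,3], [8], [8]`, `p ≥ 11` (helper6, S5931)

* `sq_31` : the symmetric square of `V_{3p^i+p^j}`;
* `soc_ne_31` : it is not in the socle; `CC.pos` : the positions; `CC.uniq` : the socle is simple;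
* `CC.p13` : `p = 13`, `b = 3p^r + p^(r+1)` (`p ≥ 13`).
-/

set_option autoImplicit false
set_option linter.unusedSectionVars false

namespace Cfsg.Agent.R2.F4T

open Matrix Cfsg.Agent.H943.SL2Rel Cfsg.Agent.H943.SL2Mod Cfsg.Agent.H943.RepAdd Cfsg.Agent.R2.H28.SL2
open Cfsg.Agent.R2.SL2 (typ tyl coe_tyl typ_step typ_zero tyl_eq_nil mem_typ listF4)

universe u v w

variable {k : Type u} [Field k] [DecidableEq k] {F : Type w} [Field F] [Fintype F] [DecidableEq F] {ι : F →+* k}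
variable {p : ℕ} [Fact p.Prime] [CharP k p] [CharP F p] [IsAlgClosed k] {a : ℕ} (hF : Fintype.card F = p ^ a)

theorem s2_three {z : ℂ} (hz : z ≠ 0) : s2 3 z = chi 6 z + chi 2 z := by
  have := s2_add_two 1 hz
  rw [s2_one hz] at this
  exact this

theorem a2_three {z : ℂ} (hz : z ≠ 0) : a2 3 z = chi 4 z + 1 := by
  have := a2_succ 2 hz
  rw [s2_two hz] at this
  exact this

include hF in
theorem sq_31 {X : Type v} [AddCommGroup X] [Module k X] [FiniteDimensional k X]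
    {σ : Representation k (_root_.Matrix.SpecialLinearGroup (Fin 2) F) X} {i j : ℕ} (hp : 6 < p) (hij : i ≠ j) (hi : i < a) (hj : j < a)
    (h : IsV ι p σ (3 * p ^ i + p ^ j)) :
    cf (Sy.{u, v, w} ι p) (Sq σ) = {6 * p ^ i + 2 * p ^ j, 2 * p ^ i + 2 * p ^ j, 4 * p ^ i, 0} := by
  have hpp : p.Prime := Fact.out
  have h' : IsV ι p σ (3 * p ^ i + 1 * p ^ j) := by rwa [one_mul]
  refine cf_of_cs ι p hF ?_ fun z hz => ?_
  · intro b hb
    simp only [Multiset.insert_eq_cons, Multiset.mem_cons, Multiset.mem_singleton] at hb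
    rcases hb with rfl | rfl | rfl | rfl
    · exact pair_lt p hp (by omega) hij hi hj
    · exact pair_lt p (by omega) (by omega) hij hi hj
    · exact single_lt p (by omega) hi
    · exact Nat.pow_pos hpp.pos
  · have hz0 := hz.ne_zero (two_le_q p hF)
    have hi0 := pow_ne_zero (p ^ i) hz0
    have hj0 := pow_ne_zero (p ^ j) hz0
    rw [cs_sq_pair ι p hF (by omega) (by omega) hij h' hz, s2_three hi0, s2_one hj0, a2_three hi0, a2_one hj0,
      Multiset.insert_eq_cons, Multiset.insert_eq_cons, Multiset.insert_eq_cons,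
      cs_cons, cs_cons, cs_cons, cs_singleton, chB_pair k p hp (by omega) hij, chB_pair k p (by omega) (by omega) hij,
      chB_single k p (by omega), chB_zero]
    ring

variable {V : Type v} [AddCommGroup V] [Module k V] [FiniteDimensional k V]
variable {ρ : Representation k (_root_.Matrix.SpecialLinearGroup (Fin 2) F) V} {P : V →ₗ[k] V →ₗ[k] k}
variable (S : SD ρ P) (R : Rl ι p a ρ P)

include hF R

/-- rule (S) for `[1,3]` -/
theorem Rl.soc31 {W : List (List ℕ)} (hw : (W : Multiset (List ℕ)) = (cf (Sy.{u, v, w} ι p) ρ).map (tyl p))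
    (hp : 6 < p) {c : ℕ} (hc : InSoc ι p ρ c) (h : tyl p c = [1, 3]) : [2, 6] ∈ W ∨ [2, 2] ∈ W ∨ [4] ∈ W := by
  obtain ⟨j, hj, i, hi, hij, rfl⟩ := tyl_pair_inv h (cf_lt ι p hF ρ c hc.mem_cf) (by norm_num) (by norm_num)
  rw [one_mul, add_comm] at hc
  obtain ⟨X, hX, hV⟩ := hc
  have hX0 : X ≠ ⊥ := Submodule.nontrivial_iff_ne_bot.1 hV.irr.1
  obtain ⟨c, h1, h2, h3⟩ := R.sS X hX hX0
  rw [sq_31 hF hp (Ne.symm hij) hi hj hV] at h1
  simp only [Multiset.insert_eq_cons, Multiset.mem_cons, Multiset.mem_singleton] at h1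
  have h4 := cf_typ_mem ι p hw h3.mem_cf
  rcases h1 with rfl | rfl | rfl | rfl
  · left
    rwa [tyl_pair' (by norm_num) (by omega) (by norm_num) (by omega) (Ne.symm hij)] at h4
  · right; left
    rwa [tyl_pair' (by norm_num) (by omega) (by norm_num) (by omega) (Ne.symm hij)] at h4
  · right; right
    rwa [tyl_single (by norm_num) (by omega)] at h4
  · exact absurd rfl h2

/-- the socle of the pattern `[1,3],[8],[8]` -/
theorem soc_eight {b r s : ℕ} (hp : 6 < p) (hb : tyl p b = [1, 3])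
    (hw : (([[1, 3], [8], [8]] : List (List ℕ)) : Multiset (List ℕ)) = (cf (Sy.{u, v, w} ι p) ρ).map (tyl p))
    (hcf : cf (Sy.{u, v, w} ι p) ρ = {b, 8 * p ^ r, 8 * p ^ s}) {c : ℕ} (hc : InSoc ι p ρ c) :
    c ≠ b ∧ (c = 8 * p ^ r ∨ c = 8 * p ^ s) := by
  have h1 : c ≠ b := by
    rintro rfl
    have := R.soc31 hF hw hp hc hb
    revert this
    decide
  refine ⟨h1, ?_⟩
  have h2 := hc.mem_cf
  rw [hcf] at h2
  simp only [Multiset.insert_eq_cons, Multiset.mem_cons, Multiset.mem_singleton] at h2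
  rcases h2 with h2 | h2 | h2
  · exact absurd h2 h1
  · exact Or.inl h2
  · exact Or.inr h2

include S

/-- the two `8`s are at the same position -/
theorem eight_pos {b r s : ℕ} (hp : 8 < p) (hb : tyl p b = [1, 3])
    (hw : (([[1, 3], [8], [8]] : List (List ℕ)) : Multiset (List ℕ)) = (cf (Sy.{u, v, w} ι p) ρ).map (tyl p))
    (hcf : cf (Sy.{u, v, w} ι p) ρ = {b, 8 * p ^ r, 8 * p ^ s}) : r = s := by
  by_contra hrs
  have h8 : tyl p (8 * p ^ r) = [8] := tyl_single (by norm_num) hp _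
  have h8' : tyl p (8 * p ^ s) = [8] := tyl_single (by norm_num) hp _
  have hne : 8 * p ^ r ≠ 8 * p ^ s := fun h => hrs (pow_inj' (by norm_num) h)
  have hb8 : b ≠ 8 * p ^ r := fun h => by rw [h, h8] at hb; exact absurd hb (by decide)
  have hb8' : b ≠ 8 * p ^ s := fun h => by rw [h, h8'] at hb; exact absurd hb (by decide)
  have hall := S.all_soc (ι := ι) (p := p) (fun X hX c hc => S.nd_of_count hc (by
    rw [hcf, Multiset.insert_eq_cons, Multiset.insert_eq_cons, Multiset.count_cons, Multiset.count_cons,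
      Multiset.count_singleton]
    split_ifs with h1 h2 h3 h3 h3 h3 <;> first | omega | (exfalso; subst h1; first | exact hne h2 | exact hb8' h2.symm | skip)))
  have hbm : b ∈ cf (Sy.{u, v, w} ι p) ρ := by
    rw [hcf]
    exact Multiset.mem_cons_self _ _
  exact (soc_eight hF R (by omega) hb hw hcf (hall b hbm)).1 rfl

end Cfsg.Agent.R2.F4T
end

-- part: R2/F4T/LiftG
section
/-!
# Lifting of submodules, general form (helper6, S5931; after helper28's `lift_irr`)

* `lift_gen` : as `lift_irr`, with the third arithmetic condition replaced by the vanishing of `D_{en c i} (w x)`;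
* `BasS.wt` : the weight vectors of `V_{n p^i}`; `BasS.Dm` : divided powers on the basis.
-/

set_option autoImplicit false
set_option linter.unusedSectionVars false

namespace Cfsg.Agent.R2.F4T

open Matrix Cfsg.Agent.H943.SL2Rel Cfsg.Agent.H943.SL2Mod Cfsg.Agent.H943.RepAdd Cfsg.Agent.R2.H28.SL2

universe u v w

variable {k : Type u} [Field k] [DecidableEq k] {F : Type w} [Field F] [Fintype F] [DecidableEq F] (ι : F →+* k)
variable (p : ℕ) [Fact p.Prime] [CharP k p] [CharP F p] [IsAlgClosed k]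

/-- **lifting of submodules** -/
theorem lift_gen {a : ℕ} (hF : Fintype.card F = p ^ a) {V : Type v} [AddCommGroup V] [Module k V]
    [FiniteDimensional k V] {ρ : Representation k (_root_.Matrix.SpecialLinearGroup (Fin 2) F) V} (W : Submodule k V)
    (hW : ∀ g, ∀ x ∈ W, ρ g x ∈ W) (Z : Submodule k (V ⧸ W)) (hZ : ∀ g, ∀ x ∈ Z, quotRep ρ W hW g x ∈ Z) {c : ℕ}
    (hc : IsV ι p (subRep (quotRep ρ W hW) Z hZ) c)
    (hL1 : ∀ b ∈ cf (Sy.{u, v, w} ι p) (subRep ρ W hW), ∀ i < a, b / p ^ i % p + 1 < p →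
      (c + 2 * en p b i) % (p ^ a - 1) ≠ b % (p ^ a - 1))
    (hL2 : ∀ b ∈ cf (Sy.{u, v, w} ι p) (subRep ρ W hW), (b + c) % (p ^ a - 1) ≠ 0)
    (hL3 : ∀ x : V, (∀ t, ρ (u t) x = x) → (∀ a : Fˣ, ρ (h a) x = ι a ^ c • x) → ∀ i < a, c / p ^ i % p + 1 < p →
      Dm ι ρ (en p c i) (ρ w x) ∈ W → Dm ι ρ (en p c i) (ρ w x) = 0) :
    ∃ (X : Submodule k V) (hX : ∀ g, ∀ x ∈ X, ρ g x ∈ X), IsV ι p (subRep ρ X hX) c ∧ X.map W.mkQ = Z ∧ X ⊓ W = ⊥ := by
  have hp : p.Prime := Fact.out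
  have hq := one_lt (F := F)
  obtain ⟨Q, hQ⟩ : ∃ Q, Q = Fintype.card F - 1 := ⟨_, rfl⟩
  have hpa : p ^ a - 1 = Q := by omega
  have hmem : ∀ z : V, W.mkQ z = 0 → z ∈ W := fun z hz => (Submodule.Quotient.mk_eq_zero W).1 hz
  obtain ⟨m, hm0, hmu, hmh, hmS, hmD, hmf, -⟩ := hc.hw2
  obtain ⟨x₀, hx₀⟩ := W.mkQ_surjective (m : V ⧸ W)
  obtain ⟨n, hn⟩ := cf_spec (Sy.{u, v, w} ι p) (subRep ρ W hW)
  have hmu' : ∀ t, quotRep ρ W hW (u t) (m : V ⧸ W) = m := fun t => congrArg Subtype.val (hmu t)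
  have hmh' : ∀ a, quotRep ρ W hW (h a) (m : V ⧸ W) = ι a ^ c • (m : V ⧸ W) := fun a => congrArg Subtype.val (hmh a)
  obtain ⟨x, hx, hxu, hxh⟩ := lift_hw' ι p hF n W hW hn hL1 x₀
    (fun t => hmem _ (by rw [map_sub, ← quotRep_mk ρ W hW, hx₀, hmu', sub_self]))
    (fun a => hmem _ (by rw [map_sub, ← quotRep_mk ρ W hW, hx₀, hmh', map_smul, hx₀, sub_self]))
  have hxm : W.mkQ x = (m : V ⧸ W) := by
    have h1 : W.mkQ (x - x₀) = 0 := (Submodule.Quotient.mk_eq_zero W).2 hx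
    rw [map_sub, sub_eq_zero] at h1
    rw [h1, hx₀]
  have hwx : ∀ a, ρ (h a) (ρ w x) = ι (a : F) ^ ((Fintype.card F - 1 - 1) * c) • ρ w x := by
    intro a
    rw [apply_mul, h_w, ← apply_mul, hxh, map_smul, inv_pow_eq]
  have hcc : ((Fintype.card F - 1 - 1) * c + c) % Q = 0 := by
    have h1 : (Fintype.card F - 1 - 1) * c + c = Q * c := by
      rw [← Nat.succ_mul]
      congr 1
      omega
    rw [h1, Nat.mul_mod_right]
  -- the second condition
  have hS : SS ρ x = cb k F c • x := by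
    rw [← sub_eq_zero]
    by_contra hne
    have h1 : SS ρ x - cb k F c • x ∈ W := by
      apply hmem
      rw [map_sub, map_smul, hxm, sub_eq_zero, SS_apply, map_sum]
      have h2 := congrArg (Submodule.subtype Z) hmS
      rw [SS_apply, map_sum] at h2
      have h3 : ∀ t : F, W.mkQ (ρ (u t) (ρ w x)) = quotRep ρ W hW (u t) (quotRep ρ W hW w (m : V ⧸ W)) := by
        intro t
        rw [← quotRep_mk ρ W hW, ← quotRep_mk ρ W hW, hxm]
      rw [Finset.sum_congr rfl fun t _ => h3 t]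
      exact h2
    obtain ⟨b, hb, hbe⟩ := mem_cf_of_hw (V := W) ι p (ρ := subRep ρ W hW) (e := (Fintype.card F - 1 - 1) * c)
      (x := ⟨_, h1⟩) (fun h0 => hne (congrArg Subtype.val h0)) (fun t => Subtype.ext (by
        show ρ (u t) (SS ρ x - cb k F c • x) = SS ρ x - cb k F c • x
        rw [map_sub, map_smul, SS_u, hxu])) (fun a => Subtype.ext (by
        show ρ (h a) (SS ρ x - cb k F c • x) = ι a ^ ((Fintype.card F - 1 - 1) * c) • (SS ρ x - cb k F c • x)
        rw [map_sub, map_smul, H28.SL2.SS_h, hxh, map_smul, inv_pow_eq, hxh, smul_sub]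
        congr 1
        unfold cb
        by_cases hcq : c < Fintype.card F - 1
        · rw [if_pos hcq, zero_smul, zero_smul, smul_zero]
        · rw [if_neg hcq, smul_comm]
          have hcQ : c = Fintype.card F - 1 := by
            have := hc.choose
            omega
          have e1 : ι (a : F) ^ c = 1 := by
            rw [hcQ]
            exact powQ ι a.ne_zero
          have e2 : ι (a : F) ^ ((Fintype.card F - 1 - 1) * c) = 1 := by
            rw [mul_comm, pow_mul, e1, one_pow]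
          rw [e1, e2]))
    apply hL2 b hb
    rw [hpa, Nat.add_mod, hQ, hbe, ← Nat.add_mod]
    rw [hQ] at hcc
    exact hcc
  -- the third condition
  have hD : ∀ i < a, c / p ^ i % p + 1 < p → Dm ι ρ (en p c i) (ρ w x) = 0 := by
    intro i hi hlt
    have he1 : 1 ≤ en p c i := en_pos hp.pos
    have he2 : en p c i ≤ Fintype.card F - 1 := by
      rw [hF]
      exact en_le hp.pos hi hlt
    refine hL3 x hxu hxh i hi hlt ?_
    apply hmem
    rw [Dm_comm ι ρ (quotRep ρ W hW) W.mkQ (fun g y => (quotRep_mk ρ W hW g y).symm)]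
    have h2 := Dm_comm ι (subRep (quotRep ρ W hW) Z hZ) (quotRep ρ W hW) Z.subtype (fun g y => rfl) (en p c i)
      (subRep (quotRep ρ W hW) Z hZ w m)
    rw [hmD _ he1 he2 (dvd_choose_en hp hlt), map_zero] at h2
    rw [← quotRep_mk ρ W hW, hxm]
    exact h2.symm
  obtain ⟨f, hf, hfm⟩ := gen_hw ι p ρ hF hc hm0 hmu hxu hxh hS hD
  have hirr := hc.irr
  -- the section
  have hsec : ∀ z : Z, W.mkQ (f z) = (z : V ⧸ W) := by
    have h1 := hirr.2 (LinearMap.eqLocus (W.mkQ ∘ₗ f) Z.subtype) (by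
      intro g z hz
      rw [LinearMap.mem_eqLocus] at hz ⊢
      have hz' : W.mkQ (f z) = (z : V ⧸ W) := hz
      show W.mkQ (f (subRep (quotRep ρ W hW) Z hZ g z)) = quotRep ρ W hW g (z : V ⧸ W)
      rw [hf, ← hz', quotRep_mk])
    rcases h1 with h1 | h1
    · exfalso
      have h2 : m ∈ LinearMap.eqLocus (W.mkQ ∘ₗ f) Z.subtype := by
        rw [LinearMap.mem_eqLocus]
        show W.mkQ (f m) = m
        rw [hfm, hxm]
      rw [h1, Submodule.mem_bot] at h2
      exact hm0 h2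
    · intro z
      have h2 : z ∈ LinearMap.eqLocus (W.mkQ ∘ₗ f) Z.subtype := by rw [h1]; trivial
      exact h2
  have hfi : Function.Injective f := by
    intro y z hyz
    apply Subtype.ext
    rw [← hsec y, hyz, hsec z]
  have hX : ∀ g, ∀ x ∈ LinearMap.range f, ρ g x ∈ LinearMap.range f := by
    rintro g _ ⟨y, rfl⟩
    exact ⟨_, hf g y⟩
  refine ⟨LinearMap.range f, hX, IsV.iso ι p (LinearEquiv.ofInjective f hfi) (fun g y => Subtype.ext (hf g y)) hc, ?_, ?_⟩
  · ext z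
    constructor
    · rintro ⟨_, ⟨y, rfl⟩, rfl⟩
      rw [hsec]
      exact y.2
    · intro hz
      exact ⟨f ⟨z, hz⟩, ⟨_, rfl⟩, hsec ⟨z, hz⟩⟩
  · rw [eq_bot_iff]
    rintro _ ⟨⟨y, rfl⟩, hy⟩
    have h1 : (y : V ⧸ W) = 0 := by
      rw [← hsec y]
      exact (Submodule.Quotient.mk_eq_zero W).2 hy
    have h2 : y = 0 := Subtype.ext h1
    rw [Submodule.mem_bot, h2, map_zero]

variable {ι p}
variable {V : Type*} [AddCommGroup V] [Module k V] {σ : Representation k (_root_.Matrix.SpecialLinearGroup (Fin 2) F) V} {n i : ℕ}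
  {v : ℕ → V}

/-- **weight vectors** -/
theorem basS_wt (hv : BasS ι p σ n i v) {y : V} {e : ℕ} (hh : ∀ a : Fˣ, σ (h a) y = ι a ^ e • y) :
    ∃ c : Fin (n + 1) → k, y = ∑ s, c s • v s ∧ ∀ s, c s ≠ 0 →
      (2 * (s : ℕ) * p ^ i) % (Fintype.card F - 1) = (n * p ^ i + e) % (Fintype.card F - 1) := by
  have hq := one_lt (F := F)
  obtain ⟨lam, hlam⟩ := IsCyclic.exists_generator (α := Fˣ)
  have hprim := primitive ι ι.injective hlam
  have hl0 : ι (lam : F) ≠ 0 := (map_ne_zero ι).2 lam.ne_zero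
  obtain ⟨c, hc⟩ := (Submodule.mem_span_range_iff_exists_fun k).1 (hv.sp (show y ∈ ⊤ from trivial))
  refine ⟨c, hc.symm, fun s hs => ?_⟩
  have h1 := hh lam
  rw [← hc, map_sum, Finset.smul_sum] at h1
  have h2 : ∑ s, (c s * ((ι lam ^ p ^ i) ^ (s : ℕ) * ((ι lam ^ p ^ i)⁻¹) ^ (n - s)) - ι lam ^ e * c s) • v s = 0 := by
    rw [← sub_eq_zero] at h1
    rw [← h1, ← Finset.sum_sub_distrib]
    refine Finset.sum_congr rfl fun s _ => ?_
    rw [map_smul, hv.h s (by have := s.2; omega), smul_smul, smul_smul, sub_smul]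
  have h3 := Fintype.linearIndependent_iff.1 hv.li _ h2 s
  have h4 : (ι (lam : F) ^ p ^ i) ^ (s : ℕ) * ((ι (lam : F) ^ p ^ i)⁻¹) ^ (n - s) = ι lam ^ e := by
    have h5 : c s * ((ι (lam : F) ^ p ^ i) ^ (s : ℕ) * ((ι (lam : F) ^ p ^ i)⁻¹) ^ (n - s) - ι lam ^ e) = 0 := by
      linear_combination h3
    exact sub_eq_zero.1 ((mul_eq_zero.1 h5).resolve_left hs)
  have h6 : ι (lam : F) ^ (2 * (s : ℕ) * p ^ i) = ι (lam : F) ^ (n * p ^ i + e) := by
    have hsn : (s : ℕ) ≤ n := by have := s.2; omega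
    have h7 : (ι (lam : F) ^ p ^ i) ^ (n - (s : ℕ)) * ((ι (lam : F) ^ p ^ i)⁻¹) ^ (n - s) = 1 := by
      rw [← mul_pow, mul_inv_cancel₀ (pow_ne_zero _ hl0), one_pow]
    calc ι (lam : F) ^ (2 * (s : ℕ) * p ^ i) = (ι (lam : F) ^ p ^ i) ^ (s : ℕ) * (ι (lam : F) ^ p ^ i) ^ (s : ℕ) := by
          rw [← pow_add, ← pow_mul]
          congr 1
          ring
      _ = (ι (lam : F) ^ p ^ i) ^ (s : ℕ) * (ι (lam : F) ^ p ^ i) ^ (s : ℕ) *
          ((ι (lam : F) ^ p ^ i) ^ (n - (s : ℕ)) * ((ι (lam : F) ^ p ^ i)⁻¹) ^ (n - s)) := by rw [h7, mul_one]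
      _ = (ι (lam : F) ^ p ^ i) ^ ((s : ℕ) + (n - s)) *
          ((ι (lam : F) ^ p ^ i) ^ (s : ℕ) * ((ι (lam : F) ^ p ^ i)⁻¹) ^ (n - s)) := by
          rw [pow_add]
          ring
      _ = _ := by
          rw [h4, show (s : ℕ) + (n - s) = n by omega, ← pow_mul, ← pow_add]
          congr 1
          ring
  have h8 := (hprim.isOfFinOrder (by omega)).pow_eq_pow_iff_modEq.1 h6
  rw [← hprim.eq_orderOf] at h8
  exact h8

/-- the divided powers on the basis -/
theorem basS_Dm (hv : BasS ι p σ n i v) {s m : ℕ} (hs : s ≤ n) (hm : 1 ≤ m) (hmn : n * p ^ i < Fintype.card F - 1)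
    (hmn' : m ≤ n) : H28.SL2.Dm ι σ (m * p ^ i) (v s) = ((n - s).choose m : k) • v (s + m) := by
  have hp : p.Prime := Fact.out
  have hpi : 0 < p ^ i := Nat.pow_pos hp.pos
  have hmi : m * p ^ i ≤ n * p ^ i := Nat.mul_le_mul_right _ hmn'
  have hmi1 : 1 ≤ m * p ^ i := Nat.mul_pos hm hpi
  rw [Dm_apply]
  have h1 : ∀ t : F, ι t ^ (Fintype.card F - 1 - m * p ^ i) • σ (u t) (v s) =
      ∑ j ∈ Finset.range (n - s + 1), (((n - s).choose j : k) * ι t ^ (Fintype.card F - 1 - m * p ^ i + j * p ^ i)) • v (s + j) := by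
    intro t
    rw [hv.u s hs, Finset.smul_sum]
    refine Finset.sum_congr rfl fun j _ => ?_
    rw [smul_smul]
    congr 1
    rw [← pow_mul, mul_comm (p ^ i) j, pow_add]
    ring
  rw [Finset.sum_congr rfl fun t _ => h1 t, Finset.sum_comm]
  have h2 : ∀ j ∈ Finset.range (n - s + 1), ∑ t : F, (((n - s).choose j : k) *
      ι t ^ (Fintype.card F - 1 - m * p ^ i + j * p ^ i)) • v (s + j) =
      if j = m then -(((n - s).choose m : k) • v (s + m)) else 0 := by
    intro j hj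
    rw [Finset.mem_range] at hj
    have hji : j * p ^ i ≤ n * p ^ i := Nat.mul_le_mul_right _ (by omega)
    rw [← Finset.sum_smul, ← Finset.mul_sum, psum ι (by omega)]
    by_cases hjm : j = m
    · rw [if_pos hjm, if_pos (by rw [hjm]; omega), hjm, mul_neg, mul_one, neg_smul]
    · rw [if_neg hjm, if_neg, mul_zero, zero_smul]
      intro h3
      apply hjm
      have h4 : j * p ^ i = m * p ^ i := by (clear * - hmn hji h3; omega)
      exact Nat.eq_of_mul_eq_mul_right hpi h4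
  rw [Finset.sum_congr rfl h2, Finset.sum_ite_eq']
  split_ifs with h3
  · rw [neg_neg]
  · rw [Finset.mem_range, not_lt] at h3
    rw [Nat.choose_eq_zero_of_lt (by omega), Nat.cast_zero, zero_smul, neg_zero]

end Cfsg.Agent.R2.F4T
end

-- part: R2/F4T/Ext11
section
/-!
# `Ext¹(V_{3p^r+p^j}, V_{8p^r}) = 0` for `p = 11` (helper6, S5931)
-/

set_option autoImplicit false
set_option linter.unusedSectionVars false

namespace Cfsg.Agent.R2.F4T

open Matrix Cfsg.Agent.H943.SL2Rel Cfsg.Agent.H943.SL2Mod Cfsg.Agent.H943.RepAdd Cfsg.Agent.R2.H28.SL2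

universe u v w

section arith

theorem m10 (x : ℕ) : ∃ A, 11 ^ x = 10 * A + 1 := by
  refine ⟨11 ^ x / 10, ?_⟩
  have h : 11 ^ x % 10 = 1 := by
    rw [Nat.pow_mod]
    norm_num
  omega

theorem mod10 {a X Y : ℕ} (h : X % (11 ^ a - 1) = Y % (11 ^ a - 1)) : X % 10 = Y % 10 := by
  obtain ⟨A, hA⟩ := m10 a
  have h1 : X ≡ Y [MOD 11 ^ a - 1] := h
  have h2 : 10 ∣ 11 ^ a - 1 := ⟨A, by omega⟩
  exact h1.of_dvd h2

theorem pow_lt_Q {a x n : ℕ} (ha : 2 ≤ a) (hx : x < a) (hn : n ≤ 10) : n * 11 ^ x < 11 ^ a - 1 := by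
  obtain ⟨b, rfl⟩ : ∃ b, a = b + 1 := ⟨a - 1, by omega⟩
  have h1 : 11 ^ x ≤ 11 ^ b := Nat.pow_le_pow_right (by norm_num) (by omega)
  have h2 : 11 ^ 1 ≤ 11 ^ b := Nat.pow_le_pow_right (by norm_num) (by omega)
  have h3 : n * 11 ^ x ≤ 10 * 11 ^ b := Nat.mul_le_mul hn h1
  rw [pow_succ]
  omega

theorem pow_add_lt_Q {a x y : ℕ} (ha : 2 ≤ a) (hx : x < a) (hy : y < a) : 11 ^ x + 11 ^ y < 11 ^ a - 1 := by
  obtain ⟨b, rfl⟩ : ∃ b, a = b + 1 := ⟨a - 1, by omega⟩
  have h1 : 11 ^ x ≤ 11 ^ b := Nat.pow_le_pow_right (by norm_num) (by omega)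
  have h4 : 11 ^ y ≤ 11 ^ b := Nat.pow_le_pow_right (by norm_num) (by omega)
  have h2 : 11 ^ 1 ≤ 11 ^ b := Nat.pow_le_pow_right (by norm_num) (by omega)
  rw [pow_succ]
  omega

theorem pow_inj11 {x y : ℕ} (h : 11 ^ x = 11 ^ y) : x = y := Nat.pow_right_injective (le_refl 2 |>.trans (by norm_num)) h

theorem sum_ne11 {x y z : ℕ} (hxy : x ≠ y) : 11 ^ x + 11 ^ y ≠ 2 * 11 ^ z := by
  have key : ∀ {x y : ℕ}, x < y → 11 ^ x + 11 ^ y ≠ 2 * 11 ^ z := by
    intro x y hxy h
    have h3 : 11 ^ x < 11 ^ y := Nat.pow_lt_pow_right (by norm_num) hxy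
    have h0 : 0 < 11 ^ x := by positivity
    rcases Nat.lt_or_ge z y with h1 | h1
    · have h4 : 11 * 11 ^ z ≤ 11 ^ y := by
        rw [← pow_succ']
        exact Nat.pow_le_pow_right (by norm_num) (by omega)
      omega
    · have h2 : 11 ^ y ≤ 11 ^ z := Nat.pow_le_pow_right (by norm_num) h1
      omega
  rcases Nat.lt_or_gt_of_ne hxy with h | h
  · exact key h
  · rw [add_comm]
    exact key h

theorem wrap11 {a r : ℕ} (hr : r < a) : 11 * 11 ^ r ≡ 11 ^ ((r + 1) % a) [MOD 11 ^ a - 1] := by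
  rw [← pow_succ']
  by_cases h : r + 1 = a
  · rw [h, Nat.mod_self, pow_zero]
    have h1 : 1 ≤ 11 ^ a := Nat.one_le_pow _ _ (by norm_num)
    exact ((Nat.modEq_iff_dvd' h1).2 dvd_rfl).symm
  · rw [Nat.mod_eq_of_lt (by omega)]

end arith

variable {k : Type u} [Field k] [DecidableEq k] {F : Type w} [Field F] [Fintype F] [DecidableEq F] (ι : F →+* k)
variable (p : ℕ) [Fact p.Prime] [CharP k p] [CharP F p] [IsAlgClosed k]

/-- **no extensions** -/
theorem ext0_31_8 (hp11 : p = 11) {a : ℕ} (hF : Fintype.card F = p ^ a) {r j : ℕ} (hr : r < a) (hj : j < a) (hrj : r ≠ j) :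
    Ext0 (Sy.{u, v, w} ι p) (3 * p ^ r + p ^ j) (8 * p ^ r) := by
  intro V _ _ _ ρ W hW hb hc
  subst hp11
  have ha : 2 ≤ a := by omega
  have hcard : Fintype.card F - 1 = 11 ^ a - 1 := by rw [hF]
  have h11 : (11 : ℕ).Prime := Fact.out
  obtain ⟨A, hA⟩ := m10 r
  obtain ⟨B, hB⟩ := m10 j
  have hcf : ∀ b ∈ cf (Sy.{u, v, w} ι 11) (subRep ρ W hW), b = 8 * 11 ^ r := by
    intro b hb'
    have h1 : cf (Sy.{u, v, w} ι 11) (subRep ρ W hW) = {8 * 11 ^ r} := cf_irr _ hb
    rw [h1, Multiset.mem_singleton] at hb'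
    exact hb'
  have htop : ∀ g, ∀ x ∈ (⊤ : Submodule k (V ⧸ W)), quotRep ρ W hW g x ∈ (⊤ : Submodule k (V ⧸ W)) :=
    fun _ _ _ => trivial
  obtain ⟨X, hX, -, h1, h2⟩ := lift_gen ι 11 hF W hW ⊤ htop
    (IsV.iso ι 11 Submodule.topEquiv.symm (fun g x => Subtype.ext rfl) hc) (by
      intro b hb' i hi _ h
      rw [hcf b hb'] at h
      have h1 := mod10 h
      have h2 : en 11 (8 * 11 ^ r) i = (if i = r then 9 else 1) * 11 ^ i := by
        unfold en
        rw [dg_single h11.one_lt (by norm_num)]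
        split_ifs <;> rfl
      obtain ⟨C, hC⟩ := m10 i
      rw [h2, hA, hB, hC] at h1
      split_ifs at h1 <;> omega) (by
      intro b hb' h
      rw [hcf b hb'] at h
      have h1 := mod10 (a := a) (X := 8 * 11 ^ r + (3 * 11 ^ r + 11 ^ j)) (Y := 0) (by rw [h, Nat.zero_mod])
      rw [hA, hB] at h1
      omega) (by
      intro x hxu hxh i hi hdig hyW
      obtain ⟨e0, he0⟩ : ∃ e0, e0 = en 11 (3 * 11 ^ r + 11 ^ j) i := ⟨_, rfl⟩
      rw [← he0] at hyW ⊢
      have hen : e0 = (if i = r then 4 else if i = j then 2 else 1) * 11 ^ i := by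
        rw [he0]
        unfold en
        rw [dg_two h11.one_lt hrj (by norm_num)]
        split_ifs <;> rfl
      have he1 : 1 ≤ e0 := by
        rw [he0]
        exact en_pos h11.pos
      have he2 : e0 ≤ Fintype.card F - 1 := by
        rw [he0, hF]
        exact en_le h11.pos hi hdig
      obtain ⟨Y, hY⟩ : ∃ Y : W, Y = ⟨_, hyW⟩ := ⟨_, rfl⟩
      have hYc : (Y : V) = Dm ι ρ e0 (ρ Cfsg.Agent.H943.SL2Rel.w x) := by rw [hY]
      obtain ⟨v, hv⟩ := IsV.basS ι 11 (by norm_num) hb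
      have hwt : ∀ a : Fˣ, subRep ρ W hW (h a) Y = ι a ^ (2 * e0 + (Fintype.card F - 1 - 1) * (3 * 11 ^ r + 11 ^ j)) • Y := by
        intro a
        apply Subtype.ext
        show ρ (h a) (Y : V) = _ • (Y : V)
        rw [hYc, h_Dm ι ρ he2, apply_mul, h_w, ← apply_mul, hxh, map_smul, inv_pow_eq, map_smul, smul_smul, ← pow_add]
      obtain ⟨c, hsum, hcs⟩ := basS_wt hv hwt
      -- the congruence
      have hcs' : ∀ s : Fin (8 + 1), c s ≠ 0 → 2 * (s : ℕ) * 11 ^ r + (3 * 11 ^ r + 11 ^ j) ≡ 8 * 11 ^ r + 2 * e0 [MOD 11 ^ a - 1] := by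
        intro s hs
        have h1 : 2 * (s : ℕ) * 11 ^ r ≡ 8 * 11 ^ r + (2 * e0 + (Fintype.card F - 1 - 1) * (3 * 11 ^ r + 11 ^ j))
            [MOD Fintype.card F - 1] := hcs s hs
        have h2 := h1.add_right (3 * 11 ^ r + 11 ^ j)
        have hq := one_lt (F := F)
        have h3 : 8 * 11 ^ r + (2 * e0 + (Fintype.card F - 1 - 1) * (3 * 11 ^ r + 11 ^ j)) + (3 * 11 ^ r + 11 ^ j) =
            8 * 11 ^ r + 2 * e0 + (Fintype.card F - 1) * (3 * 11 ^ r + 11 ^ j) := by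
          obtain ⟨q, hq'⟩ : ∃ q, Fintype.card F - 1 = q + 1 := ⟨Fintype.card F - 1 - 1, by omega⟩
          rw [hq', Nat.add_sub_cancel]
          ring
        rw [h3] at h2
        have h4 : 8 * 11 ^ r + 2 * e0 + (Fintype.card F - 1) * (3 * 11 ^ r + 11 ^ j) ≡ 8 * 11 ^ r + 2 * e0
            [MOD Fintype.card F - 1] := by
          unfold Nat.ModEq
          rw [Nat.add_mul_mod_self_left]
        have h5 := h2.trans h4
        rwa [hcard] at h5
      have hcs10 : ∀ s : Fin (8 + 1), c s ≠ 0 → (2 * (s : ℕ) + 4) % 10 = (8 + 2 * (if i = r then 4 else if i = j then 2 else 1)) % 10 := by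
        intro s hs
        have h1 := mod10 (hcs' s hs)
        obtain ⟨C, hC⟩ := m10 i
        rw [hen, hA, hB, hC] at h1
        have h2 : 2 * (s : ℕ) * (10 * A + 1) + (3 * (10 * A + 1) + (10 * B + 1)) =
            10 * (2 * s * A + 3 * A + B) + (2 * s + 4) := by ring
        rw [h2, Nat.mul_add_mod] at h1
        rw [h1]
        split_ifs <;> omega
      have hzero : Y = 0 := by
        by_cases hir : i = r
        · subst hir
          -- only `s = 1`
          have hs1 : ∀ s : Fin (8 + 1), c s ≠ 0 → (s : ℕ) = 1 := by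
            intro s hs
            have h1 := hcs10 s hs
            rw [if_pos rfl] at h1
            have hs8 := s.2
            have h2 : (s : ℕ) = 1 ∨ (s : ℕ) = 6 := by omega
            rcases h2 with h2 | h2
            · exact h2
            · exfalso
              have h3 := hcs' s hs
              rw [h2, hen, if_pos rfl] at h3
              have h4 : 15 * 11 ^ i + 11 ^ j ≡ 15 * 11 ^ i + 11 ^ i [MOD 11 ^ a - 1] := by
                convert h3 using 1 <;> ring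
              have h5 := Nat.ModEq.add_left_cancel' _ h4
              have h6 := h5.eq_of_lt_of_lt (by have := pow_lt_Q (n := 1) ha hj (by norm_num); omega)
                (by have := pow_lt_Q (n := 1) ha hi (by norm_num); omega)
              exact hrj (pow_inj11 h6.symm)
          have hY1 : Y = c 1 • v 1 := by
            rw [hsum]
            refine Finset.sum_eq_single (1 : Fin (8 + 1)) (fun s _ hs => ?_) (fun h => absurd (Finset.mem_univ _) h)
            by_contra h0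
            have h1 : c s ≠ 0 := fun h1 => h0 (by rw [h1, zero_smul])
            exact hs (Fin.ext (hs1 s h1))
          -- the trick
          have hD7 : Dm ι ρ (7 * 11 ^ i) (Y : V) = 0 := by
            rw [hYc, hen, if_pos rfl]
            have h7 := pow_lt_Q (n := 7) ha hi (by norm_num)
            have h4 := pow_lt_Q (n := 4) ha hi (by norm_num)
            have h0 : 0 < 11 ^ i := by positivity
            by_cases hle : 7 * 11 ^ i + 4 * 11 ^ i ≤ Fintype.card F - 1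
            · rw [Dm_mul' ι ρ 11 hF (by omega) (by omega) hle]
              have h8 : 7 * 11 ^ i + 4 * 11 ^ i = 11 ^ (i + 1) := by rw [pow_succ]; ring
              rw [h8, (CharP.cast_eq_zero_iff k 11 _).2 (h11.dvd_choose_pow (by omega) (by rw [pow_succ]; omega)), zero_smul]
            · exact Dm_mul_zero ι ρ (by omega) (by omega) (by omega) (by omega) (by omega) _
          have hD7' : Dm ι (subRep ρ W hW) (7 * 11 ^ i) Y = 0 := by
            apply Subtype.ext
            have h1 := Dm_comm ι (subRep ρ W hW) ρ W.subtype (fun g y => rfl) (7 * 11 ^ i) Y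
            exact h1.trans hD7
          rw [hY1, map_smul, basS_Dm hv (by norm_num) (by norm_num)
            (by rw [hcard]; exact pow_lt_Q ha hi (by norm_num)) (by norm_num)] at hD7'
          have hv8 : v 8 ≠ 0 := hv.li.ne_zero (8 : Fin (8 + 1))
          have h9 : c 1 = 0 := by
            rw [show 8 - 1 = 7 from rfl, Nat.choose_self, Nat.cast_one, one_smul] at hD7'
            exact (smul_eq_zero.1 hD7').resolve_right hv8
          rw [hY1, h9, zero_smul]
        · -- no weights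
          rw [hsum]
          refine Finset.sum_eq_zero fun s _ => ?_
          by_contra h0
          have hs : c s ≠ 0 := fun h1 => h0 (by rw [h1, zero_smul])
          have h1 := hcs10 s hs
          have h3 := hcs' s hs
          have hs8 := s.2
          rw [if_neg hir] at h1
          rw [hen, if_neg hir] at h3
          by_cases hij : i = j
          · subst hij
            rw [if_pos rfl] at h1 h3
            have h2 : (s : ℕ) = 4 := by omega
            rw [h2] at h3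
            have h4 : (8 * 11 ^ r + 11 ^ i) + 3 * 11 ^ r ≡ (8 * 11 ^ r + 11 ^ i) + 3 * 11 ^ i [MOD 11 ^ a - 1] := by
              convert h3 using 1 <;> ring
            have h5 := Nat.ModEq.add_left_cancel' _ h4
            have h6 := h5.eq_of_lt_of_lt (pow_lt_Q ha hr (by norm_num)) (pow_lt_Q ha hi (by norm_num))
            exact hir (pow_inj11 (Nat.eq_of_mul_eq_mul_left (by norm_num) h6)).symm
          · rw [if_neg hij] at h1 h3
            have h2 : (s : ℕ) = 3 ∨ (s : ℕ) = 8 := by omega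
            rcases h2 with h2 | h2
            · rw [h2] at h3
              have h4 : 8 * 11 ^ r + (11 ^ r + 11 ^ j) ≡ 8 * 11 ^ r + 2 * 11 ^ i [MOD 11 ^ a - 1] := by
                convert h3 using 1 <;> ring
              have h5 := Nat.ModEq.add_left_cancel' _ h4
              have h6 := h5.eq_of_lt_of_lt (pow_add_lt_Q ha hr hj) (pow_lt_Q ha hi (by norm_num))
              exact sum_ne11 hrj h6
            · rw [h2] at h3
              have h4 : 8 * 11 ^ r + (11 * 11 ^ r + 11 ^ j) ≡ 8 * 11 ^ r + 2 * 11 ^ i [MOD 11 ^ a - 1] := by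
                convert h3 using 1 <;> ring
              have h5 := Nat.ModEq.add_left_cancel' _ h4
              have h5' := ((wrap11 hr).symm.add_right (11 ^ j)).trans h5
              have hr' : (r + 1) % a < a := Nat.mod_lt _ (by omega)
              have h6 := h5'.eq_of_lt_of_lt (pow_add_lt_Q ha hr' hj) (pow_lt_Q ha hi (by norm_num))
              by_cases hr'j : (r + 1) % a = j
              · rw [hr'j] at h6
                exact hij (pow_inj11 (by omega)).symm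
              · exact sum_ne11 hr'j h6
      rw [← hYc, hzero]
      rfl)
  refine ⟨X, hX, ?_⟩
  rw [isCompl_iff, disjoint_iff, codisjoint_iff]
  refine ⟨by rw [inf_comm]; exact h2, ?_⟩
  rw [eq_top_iff]
  intro x _
  have h3 : W.mkQ x ∈ X.map W.mkQ := by
    rw [h1]
    trivial
  obtain ⟨y, hy, e⟩ := h3
  have h4 : x - y ∈ W := by
    have h5 : y - x ∈ W := (Submodule.Quotient.eq W).1 e
    rw [← neg_sub]
    exact W.neg_mem h5
  have h6 : x = (x - y) + y := by abel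
  rw [h6]
  exact Submodule.add_mem_sup h4 hy

end Cfsg.Agent.R2.F4T
end

-- part: R2/F4T/C13
section
/-!
# The patterns `[1,3],[8],[8]` and `[2],[4],[8],[8]` (helper6, S5931)

* `ext0_31` : `Ext¹(V_{3p^i+p^j}, V_{8p^r}) = 0` for `p ≥ 11` unless `p = 13`, `r = i`, `j = i+1`;
* `c13` : the pattern `[1,3],[8],[8]` : `p = 13` and the socle is simple;
* `d1` : the pattern `[2],[4],[8],[8]` : `a = 1`, `p = 11, 13`.
-/

set_option autoImplicit false
set_option linter.unusedSectionVars false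

namespace Cfsg.Agent.R2.F4T

open Matrix Cfsg.Agent.H943.SL2Rel Cfsg.Agent.H943.SL2Mod Cfsg.Agent.H943.RepAdd Cfsg.Agent.R2.H28.SL2
open Cfsg.Agent.R2.SL2 (typ tyl coe_tyl typ_step typ_zero tyl_eq_nil mem_typ listF4)

universe u v w

section Ext

variable {k : Type u} [Field k] [DecidableEq k] {F : Type w} [Field F] [Fintype F] [DecidableEq F] (ι : F →+* k)
variable (p : ℕ) [Fact p.Prime] [CharP k p] [CharP F p] [IsAlgClosed k] {a : ℕ} (hF : Fintype.card F = p ^ a)

include hF in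
theorem ext0_31 (hp : 11 ≤ p) {i j r : ℕ} (hij : i ≠ j) (hi : i < a) (hj : j < a) (hr : r < a)
    (hne : ¬ (p = 13 ∧ i = r ∧ j = (r + 1) % a)) : Ext0 (Sy.{u, v, w} ι p) (3 * p ^ i + p ^ j) (8 * p ^ r) := by
  have hpp : p.Prime := Fact.out
  have hp1 := hpp.one_lt
  have ha : 2 ≤ a := by omega
  by_cases h11 : p = 11 ∧ i = r
  · obtain ⟨h11, rfl⟩ := h11
    exact ext0_31_8 ι p h11 hF hi hj hij
  · have hp12 : p ≠ 12 := fun h => by
      rw [h] at hpp
      revert hpp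
      decide
    have hov : ∀ l < a, (3 * p ^ i + p ^ j) / p ^ l % p + (8 * p ^ r) / p ^ l % p < p := by
      intro l _
      rw [dg_two hp1 hij (by omega), dg_single hp1 (show 8 < p by omega)]
      split_ifs <;> omega
    have hlt1 : 3 * p ^ i + p ^ j < p ^ a := by
      have := pair_lt (n := 3) (m := 1) p (by omega) (by omega) hij hi hj
      rwa [one_mul] at this
    refine ext0_of_Hs ι p hF (cg p a (3 * p ^ i + p ^ j) (8 * p ^ r)) (fun d hd => (mem_cg hpp.pos a hov hd).1)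
      (fun z hz => cs_cg k p a hlt1 (single_lt p (by omega) hr) hov (hz.ne_zero (two_le_q p hF)))
      (Hs_eq_zero fun c hc => ?_)
    obtain ⟨h1, h2⟩ := mem_cg hpp.pos a hov hc
    by_contra h0
    unfold hb at h0
    rw [← Ne, Ne, Finset.card_eq_zero, ← Ne, ← Finset.nonempty_iff_ne_empty] at h0
    obtain ⟨l, hl⟩ := h0
    rw [Finset.mem_filter, Finset.mem_range] at hl
    have h3 := (exc_odd hpp (by omega) hl.1 h1 hl.2).resolve_left (by omega)
    have hll := succ_mod_ne ha hl.1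
    rw [h3.2] at h2
    have h5 := h2 l hl.1
    have h6 := h2 i hi
    have h7 := h2 j hj
    rw [dg_two hp1 hll (by (clear * - hp; omega)), dg_two hp1 hij (by omega), dg_single hp1 (show 8 < p by omega)] at h5 h6 h7
    rw [if_pos rfl] at h5 h6
    rw [if_neg (Ne.symm hij), if_pos rfl] at h7
    have hlr : l = r := by
      by_contra h8
      rw [if_neg h8] at h5
      split_ifs at h5 <;> omega
    subst hlr
    by_cases hli : l = i
    · subst hli
      rw [if_pos rfl, if_pos rfl] at h5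
      have hp13 : p = 13 := by (clear * - hp h11 h5; omega)
      refine hne ⟨hp13, rfl, ?_⟩
      by_contra h8
      rw [if_neg (Ne.symm hij), if_neg h8, if_neg (Ne.symm hij)] at h7
      omega
    · rw [if_neg hli, if_pos rfl] at h5
      split_ifs at h5 with h8
      · subst h8
        rw [if_neg (Ne.symm hli), if_neg (Ne.symm hli)] at h6
        split_ifs at h6 <;> omega
      · omega

end Ext

variable {k : Type u} [Field k] [DecidableEq k] {F : Type w} [Field F] [Fintype F] [DecidableEq F] {ι : F →+* k}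
variable {p : ℕ} [Fact p.Prime] [CharP k p] [CharP F p] [IsAlgClosed k] {a : ℕ} (hF : Fintype.card F = p ^ a)
variable {V : Type v} [AddCommGroup V] [Module k V] [FiniteDimensional k V]
variable {ρ : Representation k (_root_.Matrix.SpecialLinearGroup (Fin 2) F) V} {P : V →ₗ[k] V →ₗ[k] k}
variable (S : SD ρ P) (R : Rl ι p a ρ P)

include hF R S

/-- **the pattern `[1,3],[8],[8]`** -/
theorem c13 (hV : Module.finrank k V = 26) {b r s : ℕ} (hp : 11 ≤ p) (hb : tyl p b = [1, 3]) (hr : r < a)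
    (hw : (([[1, 3], [8], [8]] : List (List ℕ)) : Multiset (List ℕ)) = (cf (Sy.{u, v, w} ι p) ρ).map (tyl p))
    (hcf : cf (Sy.{u, v, w} ι p) ρ = {b, 8 * p ^ r, 8 * p ^ s}) :
    p = 13 ∧ 2 ≤ a ∧ cf (Sy.{u, v, w} ι p) ρ = {8 * p ^ r, 8 * p ^ r, 3 * p ^ r + p ^ ((r + 1) % a)} ∧
      ∃ (X : Submodule k V) (hX : ∀ g, ∀ x ∈ X, ρ g x ∈ X), IsV ι p (subRep ρ X hX) (8 * p ^ r) ∧
        ∀ (Y : Submodule k V) (hY : ∀ g, ∀ x ∈ Y, ρ g x ∈ Y), Irrd (subRep ρ Y hY) → Y = X := by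
  have hpp : p.Prime := Fact.out
  obtain rfl := eight_pos hF S R (by omega) hb hw hcf
  have hsoc : ∀ {c : ℕ}, InSoc ι p ρ c → c ≠ b ∧ c = 8 * p ^ r := by
    intro c hc
    have h := soc_eight hF R (by omega) hb hw hcf hc
    exact ⟨h.1, h.2.elim id id⟩
  have hbm : b ∈ cf (Sy.{u, v, w} ι p) ρ := by
    rw [hcf]
    exact Multiset.mem_cons_self _ _
  obtain ⟨j, hj, i, hi, hij, rfl⟩ := tyl_pair_inv hb (cf_lt ι p hF ρ b hbm) (by norm_num) (by norm_num)
  rw [one_mul, add_comm] at hb hcf hsoc hbm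
  have h8 : tyl p (8 * p ^ r) = [8] := tyl_single (by norm_num) (by omega) _
  have hne : 3 * p ^ i + p ^ j ≠ 8 * p ^ r := fun h => by
    rw [h, h8] at hb
    exact absurd hb (by decide)
  have ha : 2 ≤ a := by omega
  by_cases hex : p = 13 ∧ i = r ∧ j = (r + 1) % a
  · obtain ⟨hp13, rfl, rfl⟩ := hex
    refine ⟨hp13, ha, ?_, ?_⟩
    · rw [hcf]
      simp only [Multiset.insert_eq_cons]
      rw [Multiset.cons_swap]
      exact congrArg _ (Multiset.pair_comm _ _)
    · have hnt : Nontrivial V := Module.nontrivial_of_finrank_pos (R := k) (by omega)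
      obtain ⟨c, X, hX, hc⟩ := exists_inSoc ι p ρ
      obtain rfl := (hsoc ⟨X, hX, hc⟩).2
      refine ⟨X, hX, hc, fun Y hY hYi => ?_⟩
      obtain ⟨d, hd⟩ := (Sy.{u, v, w} ι p).ex (subRep ρ Y hY) hYi
      obtain rfl := (hsoc ⟨Y, hY, hd⟩).2
      have hX9 := IsV.dim_single ι hF (by omega) hc
      have hY9 := IsV.dim_single ι hF (by omega) hd
      rcases IsV.inf_or_le ι p hc hY with h | h
      · exfalso
        have hXY : ∀ g, ∀ x ∈ X ⊔ Y, ρ g x ∈ X ⊔ Y := by
          intro g x hx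
          obtain ⟨y, hy, z, hz, rfl⟩ := Submodule.mem_sup.1 hx
          rw [map_add]
          exact Submodule.add_mem_sup (hX g y hy) (hY g z hz)
        have h1 := Submodule.finrank_sup_add_finrank_inf_eq X Y
        rw [h, finrank_bot, hX9, hY9] at h1
        have h2 := S.finrank_orth hXY
        rw [hV] at h2
        have hO := S.orth_inv hXY
        have hO0 : orth P (X ⊔ Y) ≠ ⊥ := by
          intro h3
          rw [h3, finrank_bot] at h2
          omega
        obtain ⟨e, ⟨Z, hZ, hZe⟩, he⟩ := exists_inSoc_sub ι p hO hO0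
        obtain rfl := (hsoc he).2
        have hZ9 := IsV.dim_single ι hF (by omega) hZe
        have h3 := Submodule.finrank_le Z
        omega
      · exact (Submodule.eq_of_le_of_finrank_eq h (by omega)).symm
  · exfalso
    have hE := ext0_31.{u, v, w} ι p hF hp (Ne.symm hij) hi hj hr hex
    obtain ⟨X, Y, hX, hY, -, hV, -⟩ := split_one ι p ρ (b := 3 * p ^ i + p ^ j) (by
      rw [hcf, Multiset.insert_eq_cons, Multiset.insert_eq_cons, Multiset.count_cons_self, Multiset.count_cons_of_ne hne,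
        Multiset.count_singleton, if_neg hne]) (by
      intro c hc hcb
      rw [hcf] at hc
      simp only [Multiset.insert_eq_cons, Multiset.mem_cons, Multiset.mem_singleton] at hc
      have hc8 : c = 8 * p ^ r := by (clear * - hcb hc; tauto)
      rw [hc8]
      exact ⟨ext0_symm ι p hE, hE⟩)
    exact (hsoc ⟨X, hX, hV⟩).1 rfl

end Cfsg.Agent.R2.F4T
end

-- part: R2/F4T/D13
section
/-!
# The pattern `[2],[4],[8],[8]` (helper6, S5931)

* `no_288` : no selfdual module with factors `2, 8, 8` for `SL(2,11)`, `SL(2,13)` and `2` not in the socle;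
* `d13` : the pattern `[2],[4],[8],[8]` : `q = 13` and the socle is simple.
-/

set_option autoImplicit false
set_option linter.unusedSectionVars false

namespace Cfsg.Agent.R2.F4T

open Matrix Cfsg.Agent.H943.SL2Rel Cfsg.Agent.H943.SL2Mod Cfsg.Agent.H943.RepAdd Cfsg.Agent.R2.H28.SL2
open Cfsg.Agent.R2.SL2 (typ tyl coe_tyl typ_step typ_zero tyl_eq_nil mem_typ listF4)
open Cfsg.Agent.R2.H22.Q7 (Ew mem_Ew Uf mem_Uf finrank_Ew_le Uf_le finrank_ker_pow_le)

universe u v w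

variable {k : Type u} [Field k] [DecidableEq k] {F : Type w} [Field F] [Fintype F] [DecidableEq F] {ι : F →+* k}
variable {p : ℕ} [Fact p.Prime] [CharP k p] [CharP F p] [IsAlgClosed k]
variable {V : Type v} [AddCommGroup V] [Module k V] [FiniteDimensional k V]
variable {ρ : Representation k (_root_.Matrix.SpecialLinearGroup (Fin 2) F) V} {P : V →ₗ[k] V →ₗ[k] k}

theorem card_Bf_small' {b : ℕ} (hb : b < p) : (Bf k b).card = b + 1 := by
  have h1 := card_Bf_low k p b
  rw [Nat.mod_eq_of_lt hb, Nat.div_eq_of_lt hb, card_Bf_zero, mul_one] at h1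
  exact h1

theorem dim_small {X : Type v} [AddCommGroup X] [Module k X] [FiniteDimensional k X]
    {σ : Representation k (_root_.Matrix.SpecialLinearGroup (Fin 2) F) X} {b : ℕ} (hb : b < p) (h : IsV ι p σ b) :
    Module.finrank k X = b + 1 := by
  rw [IsV.finrank ι h, card_Bf_small' (p := p) hb]

/-- two submodules `V_8` -/
theorem SD.uniq8 (S : SD ρ P) (hp : 8 < p) {N : ℕ} (hV : Module.finrank k V = 18 + (N + 1)) (hN : N < 8)
    (hsoc : ∀ c, InSoc ι p ρ c → c = 8) {X Z : Submodule k V} {hX : ∀ g, ∀ x ∈ X, ρ g x ∈ X} {hZ : ∀ g, ∀ x ∈ Z, ρ g x ∈ Z}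
    (hXb : IsV ι p (subRep ρ X hX) 8) (hZb : IsV ι p (subRep ρ Z hZ) 8) : Z = X := by
  have hX9 := dim_small hp hXb
  have hZ9 := dim_small hp hZb
  rcases IsV.inf_or_le ι p hXb hZ with h | h
  · exfalso
    have hXY : ∀ g, ∀ x ∈ X ⊔ Z, ρ g x ∈ X ⊔ Z := by
      intro g x hx
      obtain ⟨y, hy, z, hz, rfl⟩ := Submodule.mem_sup.1 hx
      rw [map_add]
      exact Submodule.add_mem_sup (hX g y hy) (hZ g z hz)
    have h1 := Submodule.finrank_sup_add_finrank_inf_eq X Z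
    rw [h, finrank_bot, hX9, hZ9] at h1
    have h2 := S.finrank_orth hXY
    rw [hV] at h2
    have hO := S.orth_inv hXY
    have hO0 : orth P (X ⊔ Z) ≠ ⊥ := by
      intro h3
      rw [h3, finrank_bot] at h2
      omega
    obtain ⟨e, ⟨Y, hY, hYe⟩, he⟩ := exists_inSoc_sub ι p hO hO0
    obtain rfl := hsoc e he
    have hY9 := dim_small hp hYe
    have h3 := Submodule.finrank_le Y
    omega
  · exact (Submodule.eq_of_le_of_finrank_eq h (by omega)).symm

/-- **no module `8 | 2 | 8`** -/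
theorem no_288 (S : SD ρ P) (hF : Fintype.card F = p) (hp : p = 11 ∨ p = 13) (hcf : cf (Sy.{u, v, w} ι p) ρ = {2, 8, 8})
    (h2 : ¬ InSoc ι p ρ 2) : False := by
  have hpp : p.Prime := Fact.out
  have hF1 : Fintype.card F = p ^ 1 := by rw [pow_one]; exact hF
  have hV : Module.finrank k V = 18 + (2 + 1) := by
    rw [finrank_cf ι p _ V ρ le_rfl, hcf]
    simp only [Multiset.insert_eq_cons, Multiset.map_cons, Multiset.sum_cons, Multiset.map_singleton,
      Multiset.sum_singleton]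
    rw [card_Bf_small' (p := p) (by omega), card_Bf_small' (p := p) (by omega)]
    norm_num
  have hmem : ∀ b ∈ cf (Sy.{u, v, w} ι p) ρ, b = 2 ∨ b = 8 := by
    intro b hb
    rw [hcf] at hb
    simp only [Multiset.insert_eq_cons, Multiset.mem_cons, Multiset.mem_singleton] at hb
    (clear * - hb; tauto)
  have hsoc : ∀ c, InSoc ι p ρ c → c = 8 := by
    intro c hc
    rcases hmem c hc.mem_cf with rfl | h
    · exact absurd hc h2
    · exact h
  have hnt : Nontrivial V := Module.nontrivial_of_finrank_pos (R := k) (by omega)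
  obtain ⟨c, X, hX, hXb⟩ := exists_inSoc ι p ρ
  obtain rfl := hsoc c ⟨X, hX, hXb⟩
  have huniq : ∀ (Z : Submodule k V) (hZ : ∀ g, ∀ x ∈ Z, ρ g x ∈ Z), IsV ι p (subRep ρ Z hZ) 8 → Z = X :=
    fun Z hZ hZb => S.uniq8 (by omega) hV (by norm_num) hsoc hXb hZb
  rcases hp with hp | hp
  · -- `p = 11`
    have hiso : Iso P X := by
      rcases S.nd_or_iso hXb with h | h
      · exfalso
        have h3 := S.cf_eq (ι := ι) (p := p) hX h
        rw [cf_irr (Sy.{u, v, w} ι p) hXb, hcf] at h3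
        have h4 : cf (Sy.{u, v, w} ι p) (subRep ρ (orth P X) (S.orth_inv hX)) = {2, 8} := by
          have h5 : ({2, 8, 8} : Multiset ℕ) = {8} + {2, 8} := by decide
          rw [h5] at h3
          exact (add_left_cancel h3).symm
        have hS := S.restrict (S.orth_inv hX) (S.nd_orth h)
        have hall := hS.all_soc (ι := ι) (p := p) fun Y hY b hb => hS.nd_of_count hb (by
          rw [h4, Multiset.insert_eq_cons, Multiset.count_cons, Multiset.count_singleton]
          split_ifs <;> omega)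
        exact h2 ((hall 2 (by rw [h4]; exact Multiset.mem_cons_self _ _)).iso ι p (orth P X).subtype (fun _ _ => rfl)
          (orth P X).injective_subtype)
      · exact h
    obtain ⟨B₁, D₁, -⟩ := S.dul.sub hX
    have hK := S.orth_inv hX
    have hq : IsV ι p (quotRep ρ (orth P X) hK) 8 := IsV.dual ι p hXb D₁.flip.flip
    obtain ⟨m, hm0, hmu, hmh, -⟩ := IsV.hw ι p hq
    obtain ⟨x₀, hx₀⟩ := (orth P X).mkQ_surjective m
    have hm : ∀ z : V, (orth P X).mkQ z = 0 → z ∈ orth P X := fun z hz => (Submodule.Quotient.mk_eq_zero _).1 hz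
    obtain ⟨n, hn⟩ := cf_spec (Sy.{u, v, w} ι p) (subRep ρ (orth P X) hK)
    obtain ⟨x, hx, hxu, hxh⟩ := lift_hw' ι p hF1 (c := 8) n (orth P X) hK hn (by
      intro b hb i hi _
      have hi0 : i = 0 := by omega
      subst hi0
      unfold en
      rcases hmem b (Multiset.mem_of_le (cf_sub_le (Sy.{u, v, w} ι p) ρ _ hK) hb) with rfl | rfl <;>
        subst hp <;> norm_num) x₀ (fun t => hm _ (by rw [map_sub, ← quotRep_mk ρ _ hK, hx₀, hmu, sub_self]))
      (fun a => hm _ (by rw [map_sub, ← quotRep_mk ρ _ hK, hx₀, hmh, map_smul, hx₀, sub_self]))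
    have hxm : (orth P X).mkQ x = m := by
      have h1 : (orth P X).mkQ (x - x₀) = 0 := (Submodule.Quotient.mk_eq_zero _).2 hx
      rw [map_sub, sub_eq_zero] at h1
      rw [h1, hx₀]
    have hx0 : x ≠ 0 := by
      rintro rfl
      rw [map_zero] at hxm
      exact hm0 hxm.symm
    obtain ⟨Z, hZ, hZb, hxZ⟩ := hw_soc ι p hF (c := 8) (by norm_num) (by omega)
      (by rw [show p - 1 - 8 = 2 by omega]; exact h2) ⟨hxu, hxh⟩ hx0
    rw [huniq Z hZ hZb] at hxZ
    exact hm0 (by rw [← hxm]; exact (Submodule.Quotient.mk_eq_zero _).2 (hiso.le hxZ))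
  · -- `p = 13`
    obtain ⟨m, hm0, hmu, hmh, -, hm⟩ := IsV.hw ι p hXb
    have h3 : Uf ρ ≤ Submodule.span k {(m : V)} := by
      refine (Uf_le ι p ρ).trans (iSup₂_le fun e he => ?_)
      intro x hx
      by_cases hx0 : x = 0
      · rw [hx0]
        exact Submodule.zero_mem _
      · obtain ⟨b, hb, hbe⟩ := mem_cf_of_hw ι p hx0 hx.1 hx.2
        rw [Finset.mem_range] at he
        have he2 : e = b := by
          rw [hF, show p - 1 = 12 by omega] at he hbe
          rcases hmem b hb with rfl | rfl <;> omega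
        subst he2
        rcases hmem e hb with rfl | rfl
        · exfalso
          obtain ⟨Z, hZ, hZb, -⟩ := hw_soc ι p hF (c := 2) (by norm_num) (by omega) (fun h => by
            have := hsoc _ h
            omega) hx hx0
          exact h2 ⟨Z, hZ, hZb⟩
        · obtain ⟨Z, hZ, hZb, hxZ⟩ := hw_soc ι p hF (c := 8) (by norm_num) (by omega) (fun h => by
            have := hsoc _ h
            omega) hx hx0
          rw [huniq Z hZ hZb] at hxZ
          obtain ⟨c, hc⟩ := hm ⟨x, hxZ⟩ fun t => Subtype.ext (hx.1 t)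
          have hc' : x = c • (m : V) := congrArg Subtype.val hc
          rw [hc']
          exact Submodule.smul_mem _ _ (Submodule.mem_span_singleton_self _)
    have h4 := Submodule.finrank_mono h3
    have h5 : Module.finrank k (Submodule.span k {(m : V)}) ≤ 1 := (finrank_span_le_card _).trans (by simp)
    have h6 := finrank_le_uf' p hF (ρ := ρ)
    have h7 : p * Module.finrank k (Uf ρ) ≤ 13 * 1 := Nat.mul_le_mul (by omega) (by omega)
    omega

variable {a : ℕ} (hF : Fintype.card F = p ^ a) (S : SD ρ P) (R : Rl ι p a ρ P)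

include hF R S

/-- **the pattern `[2],[4],[8],[8]`** -/
theorem d13 (hV : Module.finrank k V = 26) {i j r s : ℕ} (hp : 11 ≤ p) (hi : i < a) (hj : j < a) (hr : r < a) (hs : s < a)
    (hcf : cf (Sy.{u, v, w} ι p) ρ = {2 * p ^ i, 4 * p ^ j, 8 * p ^ r, 8 * p ^ s}) :
    p = 13 ∧ a = 1 ∧ cf (Sy.{u, v, w} ι p) ρ = {2, 4, 8, 8} ∧
      ∃ (X : Submodule k V) (hX : ∀ g, ∀ x ∈ X, ρ g x ∈ X), IsV ι p (subRep ρ X hX) 8 ∧
        ∀ (Y : Submodule k V) (hY : ∀ g, ∀ x ∈ Y, ρ g x ∈ Y), Irrd (subRep ρ Y hY) → Y = X := by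
  have hpp : p.Prime := Fact.out
  have t2 : tyl p (2 * p ^ i) = [2] := tyl_single (by norm_num) (by omega) _
  have t4 : tyl p (4 * p ^ j) = [4] := tyl_single (by norm_num) (by omega) _
  have t8 : ∀ r, tyl p (8 * p ^ r) = [8] := fun r => tyl_single (by norm_num) (by omega) _
  have n24 : 2 * p ^ i ≠ 4 * p ^ j := fun h => by rw [h, t4] at t2; exact absurd t2 (by decide)
  have n28 : ∀ r, 2 * p ^ i ≠ 8 * p ^ r := fun r h => by rw [h, t8] at t2; exact absurd t2 (by decide)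
  have n48 : ∀ r, 4 * p ^ j ≠ 8 * p ^ r := fun r h => by rw [h, t8] at t4; exact absurd t4 (by decide)
  have hn2 := R.n2 i hi
  have hm2 : 2 * p ^ i ∈ cf (Sy.{u, v, w} ι p) ρ := by
    rw [hcf]
    exact Multiset.mem_cons_self _ _
  -- the positions of the `8`s
  have hrs : r = s := by
    by_contra hrs
    have hne : 8 * p ^ r ≠ 8 * p ^ s := fun h => hrs (pow_inj' (by norm_num) h)
    have hall := S.all_soc (ι := ι) (p := p) (fun X hX c hc => S.nd_of_count hc (by
      rw [hcf]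
      refine Multiset.nodup_iff_count_le_one.1 ?_ c
      simp only [Multiset.insert_eq_cons, Multiset.nodup_cons, Multiset.mem_cons, Multiset.mem_singleton,
        Multiset.nodup_singleton, and_true]
      have h1 := n28 r
      have h2 := n28 s
      have h3 := n48 r
      have h4 := n48 s
      (clear * - n24 hne h1 h2 h3 h4; tauto)))
    exact hn2 (hall _ hm2)
  subst hrs
  have hc2 : (cf (Sy.{u, v, w} ι p) ρ).count (2 * p ^ i) = 1 := by
    rw [hcf, Multiset.insert_eq_cons, Multiset.insert_eq_cons, Multiset.insert_eq_cons, Multiset.count_cons_self,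
      Multiset.count_cons_of_ne n24, Multiset.count_cons_of_ne (n28 r), Multiset.count_singleton, if_neg (n28 r)]
  have hmem : ∀ c ∈ cf (Sy.{u, v, w} ι p) ρ, c = 2 * p ^ i ∨ c = 4 * p ^ j ∨ c = 8 * p ^ r := by
    intro c hc
    rw [hcf] at hc
    simp only [Multiset.insert_eq_cons, Multiset.mem_cons, Multiset.mem_singleton] at hc
    (clear * - hc; tauto)
  -- no splitting
  have key : Ext0 (Sy.{u, v, w} ι p) (2 * p ^ i) (4 * p ^ j) → Ext0 (Sy.{u, v, w} ι p) (2 * p ^ i) (8 * p ^ r) → False := by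
    intro e4 e8
    obtain ⟨X, Y, hX, hY, -, hXb, -⟩ := split_one ι p ρ hc2 (by
      intro c hc hne
      rcases hmem c hc with rfl | rfl | rfl
      · exact absurd rfl hne
      · exact ⟨ext0_symm ι p e4, e4⟩
      · exact ⟨ext0_symm ι p e8, e8⟩)
    exact hn2 ⟨X, hX, hXb⟩
  have ha : a = 1 := by
    by_contra ha
    have ha2 : 2 ≤ a := by omega
    refine key ?_ ?_
    · by_cases hij : i = j
      · subst hij
        exact ext0_same ι p hF (by omega) (by omega) (by omega) hi (by omega)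
      · exact ext0_diff ι p hF (by omega) (by omega) (by omega) hij hi hj (by omega) (by omega)
    · by_cases hij : i = r
      · subst hij
        exact ext0_same ι p hF (by omega) (by omega) (by omega) hi (by omega)
      · exact ext0_diff ι p hF (by omega) (by omega) (by omega) hij hi hr (by omega) (by omega)
  subst ha
  obtain rfl : i = 0 := by omega
  obtain rfl : j = 0 := by omega
  obtain rfl : r = 0 := by omega
  have hF1 : Fintype.card F = p := by rw [hF, pow_one]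
  have h12 : p ≠ 12 := fun h => by
    rw [h] at hpp
    revert hpp
    decide
  have hp1113 : p = 11 ∨ p = 13 := by
    by_contra h
    exact key (ext0_same ι p hF (by omega) (by omega) (by omega) hi (by omega))
      (ext0_same ι p hF (by omega) (by omega) (by omega) hi (by (clear * - hp h12 h; omega)))
  simp only [pow_zero, mul_one] at hn2 hcf n24 hmem
  -- `4` is not in the socle
  have hn4 : ¬ InSoc ι p ρ 4 := by
    rintro ⟨N, hN, hNb⟩
    have hc4 : (cf (Sy.{u, v, w} ι p) ρ).count 4 ≤ 1 := by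
      rw [hcf]
      decide
    have hnd := S.nd_of_count hNb hc4
    have h3 := S.cf_eq (ι := ι) (p := p) hN hnd
    rw [cf_irr (Sy.{u, v, w} ι p) hNb, hcf] at h3
    have h4 : cf (Sy.{u, v, w} ι p) (subRep ρ (orth P N) (S.orth_inv hN)) = {2, 8, 8} := by
      have h5 : ({2, 4, 8, 8} : Multiset ℕ) = {4} + {2, 8, 8} := by decide
      rw [h5] at h3
      exact (add_left_cancel h3).symm
    exact no_288 (S.restrict (S.orth_inv hN) (S.nd_orth hnd)) hF1 hp1113 h4 fun h =>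
      hn2 (h.iso ι p (orth P N).subtype (fun _ _ => rfl) (orth P N).injective_subtype)
  have hp13 : p = 13 := by
    rcases hp1113 with h11 | h13
    · exfalso
      have e24 : Ext0 (Sy.{u, v, w} ι p) 2 4 := by
        have h := ext0_same.{u, v, w} ι p hF (n := 2) (m := 4) (i := 0) (by omega) (by omega) (by omega) hi (by omega)
        rwa [pow_zero, mul_one, mul_one] at h
      have e84 : Ext0 (Sy.{u, v, w} ι p) 8 4 := by
        refine ext0_one ι p hF rfl ?_ ?_ ?_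
        · subst h11; norm_num
        · subst h11; norm_num
        · subst h11
          intro j h1 h2
          have h3 : j = 9 ∨ j = 10 := by omega
          rcases h3 with rfl | rfl <;> norm_num
      obtain ⟨X, Y, hX, hY, -, hXb, -⟩ := split_one ι p ρ (b := 4) (by rw [hcf]; decide) (by
        intro c hc hne
        rcases hmem c hc with rfl | rfl | rfl
        · exact ⟨e24, ext0_symm ι p e24⟩
        · exact absurd rfl hne
        · exact ⟨e84, ext0_symm ι p e84⟩)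
      exact hn4 ⟨X, hX, hXb⟩
    · exact h13
  refine ⟨hp13, rfl, hcf, ?_⟩
  have hsoc : ∀ c, InSoc ι p ρ c → c = 8 := by
    intro c hc
    rcases hmem c hc.mem_cf with rfl | rfl | h
    · exact absurd hc hn2
    · exact absurd hc hn4
    · exact h
  have hnt : Nontrivial V := Module.nontrivial_of_finrank_pos (R := k) (by omega)
  obtain ⟨c, X, hX, hXb⟩ := exists_inSoc ι p ρ
  obtain rfl := hsoc c ⟨X, hX, hXb⟩
  refine ⟨X, hX, hXb, fun Y hY hYi => ?_⟩
  obtain ⟨d, hd⟩ := (Sy.{u, v, w} ι p).ex (subRep ρ Y hY) hYi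
  obtain rfl := hsoc d ⟨Y, hY, hd⟩
  exact S.uniq8 (N := 7) (by omega) hV (by norm_num) hsoc hXb hd

end Cfsg.Agent.R2.F4T
end

-- part: R2/F4T/SdX
section
/-!
# More on self-dual modules (helper6, S5931)

* `isV_comap`, `cf_sup2` : submodules of submodules;
* `SD.iso_count` : `2 cf(Z) ≤ cf(V)` for isotropic `Z`;
* `SD.two_iso` : two isotropic submodules with the same label.
-/

set_option autoImplicit false
set_option linter.unusedSectionVars false

namespace Cfsg.Agent.R2.F4T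

open Matrix Cfsg.Agent.H943.SL2Rel Cfsg.Agent.H943.SL2Mod Cfsg.Agent.H943.RepAdd Cfsg.Agent.R2.H28.SL2

universe u v w

section gen

variable {k : Type u} [Field k] {G : Type w} [Group G] {V : Type v} [AddCommGroup V] [Module k V]
variable {ρ : Representation k G V}

theorem stab_comap {X Z : Submodule k V} (hX : ∀ g, ∀ x ∈ X, ρ g x ∈ X) (hZ : ∀ g, ∀ x ∈ Z, ρ g x ∈ Z) :
    ∀ g, ∀ x ∈ X.comap Z.subtype, subRep ρ Z hZ g x ∈ X.comap Z.subtype := fun g x hx => hX g x hx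

theorem stab_sup {X Z : Submodule k V} (hX : ∀ g, ∀ x ∈ X, ρ g x ∈ X) (hZ : ∀ g, ∀ x ∈ Z, ρ g x ∈ Z) :
    ∀ g, ∀ x ∈ X ⊔ Z, ρ g x ∈ X ⊔ Z := by
  intro g x hx
  obtain ⟨y, hy, z, hz, rfl⟩ := Submodule.mem_sup.1 hx
  rw [map_add]
  exact Submodule.add_mem_sup (hX g y hy) (hZ g z hz)

theorem stab_inf {X Z : Submodule k V} (hX : ∀ g, ∀ x ∈ X, ρ g x ∈ X) (hZ : ∀ g, ∀ x ∈ Z, ρ g x ∈ Z) :
    ∀ g, ∀ x ∈ X ⊓ Z, ρ g x ∈ X ⊓ Z := fun g x hx => ⟨hX g x hx.1, hZ g x hx.2⟩

end gen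

variable {k : Type u} [Field k] [DecidableEq k] {F : Type w} [Field F] [Fintype F] [DecidableEq F] {ι : F →+* k}
variable {p : ℕ} [Fact p.Prime] [CharP k p] [CharP F p] [IsAlgClosed k] {a : ℕ}
variable {V : Type v} [AddCommGroup V] [Module k V] [FiniteDimensional k V]
  {ρ : Representation k (_root_.Matrix.SpecialLinearGroup (Fin 2) F) V} {P : V →ₗ[k] V →ₗ[k] k}

theorem isV_comap {X Z : Submodule k V} (hXZ : X ≤ Z) {hX : ∀ g, ∀ x ∈ X, ρ g x ∈ X} {hZ : ∀ g, ∀ x ∈ Z, ρ g x ∈ Z} {b : ℕ}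
    (hb : IsV ι p (subRep ρ X hX) b) : IsV ι p (subRep (subRep ρ Z hZ) (X.comap Z.subtype) (stab_comap hX hZ)) b :=
  IsV.iso ι p (Submodule.comapSubtypeEquivOfLe hXZ).symm (fun _ _ => rfl) hb

theorem isV_map' {Z : Submodule k V} {hZ : ∀ g, ∀ x ∈ Z, ρ g x ∈ Z} {X : Submodule k Z}
    {hX : ∀ g, ∀ x ∈ X, subRep ρ Z hZ g x ∈ X} {b : ℕ} (hb : IsV ι p (subRep (subRep ρ Z hZ) X hX) b) :
    ∃ hX' : ∀ g, ∀ x ∈ X.map Z.subtype, ρ g x ∈ X.map Z.subtype, IsV ι p (subRep ρ (X.map Z.subtype) hX') b := by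
  obtain ⟨hX', e, he⟩ := eqv_map (subRep ρ Z hZ) ρ Z.subtype (fun _ _ => rfl) Z.injective_subtype X hX
  exact ⟨hX', IsV.iso ι p e he hb⟩

/-- the factors of the sum of two irreducible submodules -/
theorem cf_sup2 {X Y : Submodule k V} {hX : ∀ g, ∀ x ∈ X, ρ g x ∈ X} {hY : ∀ g, ∀ x ∈ Y, ρ g x ∈ Y} {b c : ℕ}
    (hb : IsV ι p (subRep ρ X hX) b) (hc : IsV ι p (subRep ρ Y hY) c) (h : X ⊓ Y = ⊥) :
    cf (Sy.{u, v, w} ι p) (subRep ρ (X ⊔ Y) (stab_sup hX hY)) = {b, c} := by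
  have hZ := stab_sup hX hY
  have h1 := isV_comap (Z := X ⊔ Y) le_sup_left (hZ := hZ) hb
  have h2 := isV_comap (Z := X ⊔ Y) le_sup_right (hZ := hZ) hc
  rw [cf_sup (S := Sy.{u, v, w} ι p) (ρ := subRep ρ (X ⊔ Y) hZ) (W := X.comap (X ⊔ Y).subtype) (X := Y.comap (X ⊔ Y).subtype)
    (stab_comap hX hZ) (stab_comap hY hZ), cf_irr (Sy.{u, v, w} ι p) h1, cf_irr (Sy.{u, v, w} ι p) h2]
  · rfl
  · rw [isCompl_iff, disjoint_iff, codisjoint_iff]
    constructor
    · rw [eq_bot_iff]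
      rintro x ⟨hx, hy⟩
      have h3 : (x : V) ∈ X ⊓ Y := ⟨hx, hy⟩
      rw [h, Submodule.mem_bot] at h3
      exact (Submodule.mem_bot k).2 (Subtype.ext h3)
    · rw [eq_top_iff]
      rintro ⟨x, hx⟩ _
      obtain ⟨y, hy, z, hz, rfl⟩ := Submodule.mem_sup.1 hx
      exact Submodule.mem_sup.2 ⟨⟨y, Submodule.mem_sup_left hy⟩, hy, ⟨z, Submodule.mem_sup_right hz⟩, hz, Subtype.ext rfl⟩

/-- isotropic submodules -/
theorem SD.iso_count (S : SD ρ P) {Z : Submodule k V} (hZ : ∀ g, ∀ x ∈ Z, ρ g x ∈ Z) (h : Iso P Z) :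
    cf (Sy.{u, v, w} ι p) (subRep ρ Z hZ) + cf (Sy.{u, v, w} ι p) (subRep ρ Z hZ) ≤ cf (Sy.{u, v, w} ι p) ρ := by
  obtain ⟨B₁, D₁, -⟩ := S.dul.sub hZ
  have hK := S.orth_inv hZ
  have h3 := cf_add (Sy.{u, v, w} ι p) ρ (orth P Z) hK
  rw [cf_dual ι p D₁] at h3
  rw [h3]
  refine add_le_add ?_ le_rfl
  have h4 := cf_sub_le (Sy.{u, v, w} ι p) (subRep ρ (orth P Z) hK) (Z.comap (orth P Z).subtype) (stab_comap hZ hK)
  refine le_trans (le_of_eq ?_) h4
  exact cf_iso (Sy.{u, v, w} ι p) ⟨(Submodule.comapSubtypeEquivOfLe h.le).symm, fun _ _ => rfl⟩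

/-- two isotropic submodules with the same label -/
theorem SD.two_iso (S : SD ρ P) {X Y : Submodule k V} {hX : ∀ g, ∀ x ∈ X, ρ g x ∈ X} {hY : ∀ g, ∀ x ∈ Y, ρ g x ∈ Y} {b : ℕ}
    (hXb : IsV ι p (subRep ρ X hX) b) (hYb : IsV ι p (subRep ρ Y hY) b) (hXi : Iso P X) (hYi : Iso P Y) (h : X ⊓ Y = ⊥) :
    4 ≤ (cf (Sy.{u, v, w} ι p) ρ).count b ∨
      (Nd P (X ⊔ Y) ∧ cf (Sy.{u, v, w} ι p) (subRep ρ (X ⊔ Y) (stab_sup hX hY)) = {b, b}) := by
  have hcf := cf_sup2 hXb hYb h
  have hZ := stab_sup hX hY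
  by_cases hXY : ∀ x ∈ X, ∀ y ∈ Y, P x y = 0
  · left
    have hiso : Iso P (X ⊔ Y) := by
      intro x hx y hy
      obtain ⟨x₁, hx₁, x₂, hx₂, rfl⟩ := Submodule.mem_sup.1 hx
      obtain ⟨y₁, hy₁, y₂, hy₂, rfl⟩ := Submodule.mem_sup.1 hy
      rw [map_add, map_add, LinearMap.add_apply, LinearMap.add_apply, hXi _ hx₁ _ hy₁, hYi _ hx₂ _ hy₂, hXY _ hx₁ _ hy₂,
        S.symm x₂, hXY _ hy₁ _ hx₂]
      ring
    have h1 := Multiset.count_le_of_le b (S.iso_count (ι := ι) (p := p) hZ hiso)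
    rw [hcf, Multiset.count_add, Multiset.insert_eq_cons, Multiset.count_cons_self, Multiset.count_singleton_self] at h1
    omega
  · right
    refine ⟨?_, hcf⟩
    unfold Nd
    by_contra hR
    have hRi := stab_inf hZ (S.orth_inv hZ)
    obtain ⟨c, ⟨R', hR', hRc⟩, -⟩ := exists_inSoc_sub ι p hRi hR
    obtain ⟨hR1, hRb⟩ := isV_map' hRc
    obtain ⟨R, hRd⟩ : ∃ R, R = R'.map ((X ⊔ Y) ⊓ orth P (X ⊔ Y)).subtype := ⟨_, rfl⟩
    have hR2 : ∀ g, ∀ x ∈ R, ρ g x ∈ R := by rw [hRd]; exact hR1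
    have hRb' : IsV ι p (subRep ρ R hR2) c := by
      subst hRd
      exact hRb
    have hRle : R ≤ X ⊔ Y ∧ R ≤ orth P (X ⊔ Y) := by
      rw [hRd]
      constructor
      · rintro _ ⟨y, -, rfl⟩
        exact y.2.1
      · rintro _ ⟨y, -, rfl⟩
        exact y.2.2
    -- the label
    have hcb : c = b := by
      have h1 := (show InSoc ι p (subRep ρ (X ⊔ Y) hZ) c from ⟨_, _, isV_comap hRle.1 (hZ := hZ) hRb'⟩).mem_cf
      rw [hcf] at h1
      simpa using h1
    subst hcb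
    have hXf := IsV.finrank ι hXb
    have hYf := IsV.finrank ι hYb
    have hRf := IsV.finrank ι hRb'
    apply hXY
    rcases IsV.inf_or_le ι p hXb hR2 with h3 | h3
    · -- `X ⊔ R = X ⊔ Y`
      have h4 : X ⊔ R = X ⊔ Y := by
        apply Submodule.eq_of_le_of_finrank_eq (sup_le le_sup_left hRle.1)
        have h5 := Submodule.finrank_sup_add_finrank_inf_eq X R
        have h6 := Submodule.finrank_sup_add_finrank_inf_eq X Y
        rw [h3, finrank_bot] at h5
        rw [h, finrank_bot] at h6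
        omega
      intro x hx y hy
      have h5 : y ∈ X ⊔ R := by
        rw [h4]
        exact Submodule.mem_sup_right hy
      obtain ⟨y₁, hy₁, y₂, hy₂, rfl⟩ := Submodule.mem_sup.1 h5
      rw [map_add, hXi _ hx _ hy₁, hRle.2 hy₂ x (Submodule.mem_sup_left hx), add_zero]
    · intro x hx y hy
      rw [S.symm]
      exact hRle.2 (h3 hx) y (Submodule.mem_sup_right hy)

/-- **orthogonal decompositions in two steps** -/
theorem SD.flat (S : SD ρ P) {X : Submodule k V} (hX : ∀ g, ∀ x ∈ X, ρ g x ∈ X) (hnd : Nd P X)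
    {Z : Submodule k (orth P X)} (hZ : ∀ g, ∀ x ∈ Z, subRep ρ (orth P X) (S.orth_inv hX) g x ∈ Z)
    (hZn : Nd (P.compl₁₂ (orth P X).subtype (orth P X).subtype) Z) :
    ∃ (Z' W' : Submodule k V) (hZ' : ∀ g, ∀ x ∈ Z', ρ g x ∈ Z') (hW' : ∀ g, ∀ x ∈ W', ρ g x ∈ W'),
      Eqv (subRep (subRep ρ (orth P X) (S.orth_inv hX)) Z hZ) (subRep ρ Z' hZ') ∧
      Eqv (subRep (subRep ρ (orth P X) (S.orth_inv hX)) (orth (P.compl₁₂ (orth P X).subtype (orth P X).subtype) Z)
        ((S.restrict (S.orth_inv hX) (S.nd_orth hnd)).orth_inv hZ)) (subRep ρ W' hW') ∧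
      X ⊔ Z' ⊔ W' = ⊤ ∧ Nd P Z' ∧ Nd P W' ∧ (∀ x ∈ X, ∀ y ∈ Z', P x y = 0) ∧ (∀ x ∈ X, ∀ y ∈ W', P x y = 0) ∧
      (∀ x ∈ Z', ∀ y ∈ W', P x y = 0) ∧ Z' = Z.map (orth P X).subtype ∧
      W' = (orth (P.compl₁₂ (orth P X).subtype (orth P X).subtype) Z).map (orth P X).subtype := by
  have hO := S.orth_inv hX
  have hS := S.restrict hO (S.nd_orth hnd)
  obtain ⟨hZ', e1⟩ := eqv_map (subRep ρ (orth P X) hO) ρ (orth P X).subtype (fun _ _ => rfl) (orth P X).injective_subtype Z hZ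
  obtain ⟨hW', e2⟩ := eqv_map (subRep ρ (orth P X) hO) ρ (orth P X).subtype (fun _ _ => rfl) (orth P X).injective_subtype
    (orth (P.compl₁₂ (orth P X).subtype (orth P X).subtype) Z) (hS.orth_inv hZ)
  refine ⟨_, _, hZ', hW', e1, e2, ?_, nd_map' hZn, nd_map' (hS.nd_orth hZn), ?_, ?_, ?_, rfl, rfl⟩
  · rw [eq_top_iff]
    intro x _
    obtain ⟨y, hy, z, hz, rfl⟩ := Submodule.mem_sup.1 (show x ∈ X ⊔ orth P X by rw [(S.compl hX hnd).sup_eq_top]; trivial)
    obtain ⟨z₁, hz₁, z₂, hz₂, e⟩ := Submodule.mem_sup.1 (show (⟨z, hz⟩ : orth P X) ∈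
      Z ⊔ orth (P.compl₁₂ (orth P X).subtype (orth P X).subtype) Z by rw [(hS.compl hZ hZn).sup_eq_top]; trivial)
    have e' : (z₁ : V) + (z₂ : V) = z := congrArg Subtype.val e
    rw [← e', ← add_assoc]
    exact Submodule.add_mem_sup (Submodule.add_mem_sup hy ⟨z₁, hz₁, rfl⟩) ⟨z₂, hz₂, rfl⟩
  · rintro x hx _ ⟨y, -, rfl⟩
    exact y.2 x hx
  · rintro x hx _ ⟨y, -, rfl⟩
    exact y.2 x hx
  · rintro _ ⟨x, hx, rfl⟩ _ ⟨y, hy, rfl⟩
    exact hy x hx

end Cfsg.Agent.R2.F4T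
end

private theorem dce_59b1684695f7 : _root_.True := by
  try have : _root_.True := by simp only [_root_.Cfsg.Agent.R2.H28.SL2.IsV.congr_simp]
  try have : _root_.True := by simp only [_root_.Cfsg.Agent.H943.RepAdd.subRep.congr_simp]
  exact _root_.True.intro
end

-- part: R2/F4T/Table
section
prune_inst 0x4040000002000000000010000040c80004200000000088400c040c0020000000084010a0040212228001480900400010001000000000000004000004000000800200a008a00004000e000000000000000000000000000000000000010000000000000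
set_option linter.all false
open scoped Cfsg.Agent.FastGrp

-- part: R2/F4T/Pres
section
/-!
# Strict pressure for the patterns of `F₄` (helper6, S5931)

`no_trivial4` : for `p ≥ 5` a pattern of `listF4` with a trivial factor does not occur, except three patterns for
`p = 5 < q` and two for `q = 7`.
-/

set_option autoImplicit false
set_option linter.unusedSectionVars false

namespace Cfsg.Agent.R2.F4T

open Matrix Cfsg.Agent.H943.SL2Rel Cfsg.Agent.H943.SL2Mod Cfsg.Agent.H943.RepAdd Cfsg.Agent.R2.H28.SL2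
open Cfsg.Agent.R2.SL2 (typ tyl coe_tyl typ_step typ_zero listF4 tyl_eq_nil mem_typ)

universe u v w

variable {k : Type u} [Field k] [DecidableEq k] {F : Type w} [Field F] [Fintype F] [DecidableEq F] (ι : F →+* k)
variable (p : ℕ) [Fact p.Prime] [CharP k p] [CharP F p] [IsAlgClosed k] {a : ℕ} (hF : Fintype.card F = p ^ a)

include hF in
/-- **no trivial factors** -/
theorem no_trivial4 {V : Type v} [AddCommGroup V] [Module k V] [FiniteDimensional k V]
    {ρ : Representation k (_root_.Matrix.SpecialLinearGroup (Fin 2) F) V} (hp5 : 5 ≤ p) (hq7 : 7 ≤ p ^ a) (hfx : ∀ x, (∀ g, ρ g x = x) → x = 0)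
    (hco : ∀ f : V →ₗ[k] k, (∀ g x, f (ρ g x) = f x) → f = 0) {W : List (List ℕ)} (hW : W ∈ listF4)
    (hw : (W : Multiset (List ℕ)) = (cf (Sy.{u, v, w} ι p) ρ).map (tyl p)) :
    [] ∉ W ∨ (a = 1 ∧ p = 7 ∧ (W = [[], [], [2], [2], [2], [4], [4], [4]] ∨ W = [[], [2], [4], [4], [4], [6]])) ∨
      (2 ≤ a ∧ p = 5 ∧ (W = [[], [], [1, 3], [1, 3], [1, 3]] ∨ W = [[], [1, 1], [1, 3], [1, 3], [4]] ∨
        W = [[], [1, 3], [1, 3], [2, 2]])) := by
  have hp : p.Prime := Fact.out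
  by_cases hmem : [] ∉ W
  · exact Or.inl hmem
  right
  rw [not_not] at hmem
  have ha := ha_pos p hF
  have h9 := ne_nine p hp5 a
  have h0 : hb p a 0 = 0 := by
    have h1 := hb_le_typ (p := p) hp5 (a := a) (b := 0) (Nat.pow_pos hp.pos) h9
    rw [tyl_eq_nil.2 rfl, if_neg] at h1
    · omega
    · unfold hty
      split_ifs <;> simp
  -- the count of `[]`
  have h2 : (W : Multiset (List ℕ)).count [] = (cf (Sy.{u, v, w} ι p) ρ).count 0 := by
    rw [hw, Multiset.count_map, Multiset.count_eq_card_filter_eq]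
    congr 1
    refine Multiset.filter_congr fun b _ => ?_
    rw [eq_comm, tyl_eq_nil, eq_comm]
  have h3 : 0 < (cf (Sy.{u, v, w} ι p) ρ).count 0 := by
    rw [← h2]
    exact Multiset.count_pos.2 hmem
  have h4 := strict_pressure ι p hF h0 hfx hco h3
  have h5 := Hs_le_count (p := p) hp5 h9 (cf_lt ι p hF ρ)
  rw [← hw] at h5
  rw [← h2] at h4
  have h6 : (W : Multiset (List ℕ)).count [] < (W : Multiset (List ℕ)).count (hty p a) := lt_of_lt_of_le h4 h5
  have hlt : ∀ t ∈ W, ∀ d ∈ t, d < p := by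
    intro t ht d hd
    have h8 : t ∈ (cf (Sy.{u, v, w} ι p) ρ).map (tyl p) := by
      rw [← hw]
      exact ht
    obtain ⟨b, hb, rfl⟩ := Multiset.mem_map.1 h8
    exact (Cfsg.Agent.R2.SL2.tyl_mem hd).2
  by_cases ha1 : a = 1
  · left
    -- labels below `p`
    have h7 : ∀ t ∈ W, t.length ≤ 1 := by
      intro t ht
      have h8 : t ∈ (cf (Sy.{u, v, w} ι p) ρ).map (tyl p) := by
        rw [← hw]
        exact ht
      obtain ⟨b, hb, rfl⟩ := Multiset.mem_map.1 h8
      have h9 := cf_lt ι p hF ρ b hb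
      have := Cfsg.Agent.R2.SL2.length_tyl_le h9
      omega
    have key : ∀ W ∈ listF4, [] ∈ W → (∀ t ∈ W, t.length ≤ 1) → ∀ n ∈ List.range 30, 4 ≤ n → (∀ t ∈ W, ∀ d ∈ t, d < n + 3) →
        (W : Multiset (List ℕ)).count [] < (W : Multiset (List ℕ)).count [n] →
        (n = 4 ∧ (W = [[], [], [2], [2], [2], [4], [4], [4]] ∨ W = [[], [2], [4], [4], [4], [6]])) := by
      decide +kernel
    have key2 : ∀ W ∈ listF4, ∀ t ∈ W, ∀ d ∈ t, d < 30 := by decide +kernel
    have h8 : hty p a = [p - 3] := by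
      unfold hty
      rw [if_pos ha1]
    rw [h8] at h6
    have h10' : 0 < (W : Multiset (List ℕ)).count [p - 3] := by omega
    have h10 : [p - 3] ∈ W := Multiset.count_pos.1 h10'
    have h11 := key2 W hW _ h10 (p - 3) (List.mem_singleton_self _)
    rw [ha1, pow_one] at hq7
    obtain ⟨h12, h13⟩ := key W hW hmem h7 (p - 3) (List.mem_range.2 h11) (by omega) (fun t ht d hd => by
      have := hlt t ht d hd
      omega) h6
    exact ⟨ha1, by omega, h13⟩
  · right
    have h8 : hty p a = [1, p - 2] := by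
      unfold hty
      rw [if_neg ha1]
    rw [h8] at h6
    have key : ∀ W ∈ listF4, [] ∈ W → ∀ n ∈ List.range 30, 3 ≤ n → (∀ t ∈ W, ∀ d ∈ t, d < n + 2) →
        (W : Multiset (List ℕ)).count [] < (W : Multiset (List ℕ)).count [1, n] → n = 3 ∧
        W ∈ ([[[], [], [1, 3], [1, 3], [1, 3]], [[], [1, 1], [1, 3], [1, 3], [4]],
          [[], [1, 3], [1, 3], [2, 2]]] : List (List (List ℕ))) := by decide +kernel
    have key2 : ∀ W ∈ listF4, ∀ t ∈ W, ∀ d ∈ t, d < 30 := by decide +kernel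
    have h10' : 0 < (W : Multiset (List ℕ)).count [1, p - 2] := by omega
    have h10 : [1, p - 2] ∈ W := Multiset.count_pos.1 h10'
    have h11 := key2 W hW _ h10 (p - 2) (by simp)
    obtain ⟨h12, h13⟩ := key W hW hmem (p - 2) (List.mem_range.2 h11) (by omega) (fun t ht d hd => by
      have := hlt t ht d hd
      omega) h6
    simp only [List.mem_cons, List.not_mem_nil, or_false] at h13
    exact ⟨by omega, by omega, h13⟩

end Cfsg.Agent.R2.F4T
end

-- part: R2/F4T/Tab7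
section
/-!
# The patterns for `p = 5`, `p = 7` without trivial factors (helper6, S5931)

`tab5` : contradiction; `tab7` : the surviving patterns contain the summand `T(8)` (factors `4 p^r, 4 p^r, p^r + p^(r+1)`);
the complement is `[1,1,2]`, `[1,5]` or `4 p^r, 6 p^r`.
-/

set_option autoImplicit false
set_option linter.unusedSectionVars false

namespace Cfsg.Agent.R2.F4T

open Matrix Cfsg.Agent.H943.SL2Rel Cfsg.Agent.H943.SL2Mod Cfsg.Agent.H943.RepAdd Cfsg.Agent.R2.H28.SL2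
open Cfsg.Agent.R2.SL2 (typ tyl coe_tyl typ_step typ_zero tyl_eq_nil mem_typ listF4)

universe u v w

variable {k : Type u} [Field k] [DecidableEq k] {F : Type w} [Field F] [Fintype F] [DecidableEq F] {ι : F →+* k}
variable {p : ℕ} [Fact p.Prime] [CharP k p] [CharP F p] [IsAlgClosed k] {a : ℕ}
variable {V : Type v} [AddCommGroup V] [Module k V] [FiniteDimensional k V]
variable {ρ : Representation k (_root_.Matrix.SpecialLinearGroup (Fin 2) F) V} {P : V →ₗ[k] V →ₗ[k] k}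

theorem key5 : ∀ W ∈ listF4, [] ∉ W → (∀ t ∈ W, ∀ e ∈ t, e < 5) →
    ((∀ t ∈ W, okC W t = true → (W : Multiset (List ℕ)).count t ≤ 1) ∧ ¬ ∀ t ∈ W, okC W t = true) := by
  decide +kernel

theorem key7 : ∀ W ∈ listF4, [] ∉ W → (∀ t ∈ W, ∀ e ∈ t, e < 7) →
    ((∀ t ∈ W, okB W false t = true → (W : Multiset (List ℕ)).count t ≤ 1) ∧ ¬ ∀ t ∈ W, okB W false t = true) := by
  decide +kernel

theorem key7' : ∀ W ∈ listF4, [] ∉ W → (∀ t ∈ W, ∀ e ∈ t, e < 7) → 2 ≤ (W : Multiset (List ℕ)).count [4] → [1, 1] ∈ W →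
    W ∈ ([[[1, 1], [1, 1], [1, 3], [4], [4]], [[1, 1], [1, 1], [2], [4], [4], [4]], [[1, 1], [1, 1, 2], [4], [4]],
      [[1, 1], [1, 5], [4], [4]], [[1, 1], [2], [2, 2], [4], [4]], [[1, 1], [4], [4], [4], [6]]] :
      List (List (List ℕ))) := by decide +kernel

theorem key7'' : ∀ W ∈ listF4, [] ∉ W → (∀ t ∈ W, ∀ e ∈ t, e < 7) →
    (([2, 2] ∈ W → (W : Multiset (List ℕ)).count [1, 1] ≤ 1) ∧
      ((W : Multiset (List ℕ)).count [1, 1] ≤ 1 ∨ (W : Multiset (List ℕ)).count [4] ≤ 2)) ∨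
      W = [[1, 1], [1, 1], [2], [4], [4], [4]] := by decide +kernel

variable (S : SD ρ P) (R : Rl ι p a ρ P) (hF : Fintype.card F = p ^ a) {W : List (List ℕ)}
  (hw : (W : Multiset (List ℕ)) = (cf (Sy.{u, v, w} ι p) ρ).map (tyl p))

include S R hF hw

/-- **`p = 5`, no trivial factors: impossible** -/
theorem tab5 (hp5 : p = 5) (hWm : W ∈ listF4) (h0 : [] ∉ W) : False := by
  obtain ⟨hc4, hc22⟩ := keyC W hWm h0
  exact S.kp hw (okC W) (fun c hc => R.okC hF hw hc4 hc22 hp5 h0 hc)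
    (key5 W hWm h0 fun t ht e he => by have := lt_p ι p hw ht he; omega)

omit S in
/-- the pattern `[1,1]², [2], [4]³` -/
theorem no_exc7 (hp7 : p = 7) (ha : 2 ≤ a) (hW : W = [[1, 1], [1, 1], [2], [4], [4], [4]]) : False := by
  have hp : p.Prime := Fact.out
  subst hW
  have h2 : [2] ∈ (([[1, 1], [1, 1], [2], [4], [4], [4]] : List (List ℕ)) : Multiset (List ℕ)) := by decide
  rw [hw] at h2
  obtain ⟨c, hc, hct⟩ := Multiset.mem_map.1 h2
  obtain ⟨j, hj, rfl⟩ := lab1 hF hc hct (by norm_num)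
  have hcount := count_tyl hw (2 * p ^ j)
  rw [hct] at hcount
  have h3 : ((([[1, 1], [1, 1], [2], [4], [4], [4]] : List (List ℕ)) : Multiset (List ℕ))).count [2] = 1 := by decide
  rw [h3] at hcount
  have h4 := Multiset.count_pos.2 hc
  obtain ⟨X, Y, hX, hY, -, hV, -⟩ := split_one ι p ρ (b := 2 * p ^ j) (by omega) (by
    intro d hd hne
    have hdW := cf_typ_mem ι p hw hd
    have hdl := cf_lt ι p hF ρ d hd
    simp only [List.mem_cons, List.not_mem_nil, or_false] at hdW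
    have h11 : tyl p d = [1, 1] → Ext0 (Sy.{u, v, w} ι p) d (2 * p ^ j) ∧ Ext0 (Sy.{u, v, w} ι p) (2 * p ^ j) d := by
      intro h
      obtain ⟨i, hi, l, hl, hil, rfl⟩ := tyl_pair_inv h hdl (by norm_num) (by norm_num)
      rw [one_mul, one_mul] at hdl ⊢
      have h9 : ∀ m, (p ^ i + p ^ l) / p ^ m % p + 2 * p ^ j / p ^ m % p < p - 2 := by
        intro m
        rw [dg_pair p hp.one_lt hil, dg_single hp.one_lt (show 2 < p by omega)]
        split_ifs <;> omega
      exact ⟨ext0_digits ι p hF (by omega) ha (single_lt p (by omega) hj) hdl fun l _ => h9 l,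
        ext0_digits ι p hF (by omega) ha hdl (single_lt p (by omega) hj) fun l _ => by rw [add_comm]; exact h9 l⟩
    have h44 : tyl p d = [4] → Ext0 (Sy.{u, v, w} ι p) d (2 * p ^ j) ∧ Ext0 (Sy.{u, v, w} ι p) (2 * p ^ j) d := by
      intro h
      obtain ⟨i, hi, rfl⟩ := lab1 hF hd h (by norm_num)
      by_cases hij : i = j
      · subst hij
        exact ⟨ext0_same ι p hF (by omega) (by omega) (by omega) hi (by omega),
          ext0_same ι p hF (by omega) (by omega) (by omega) hi (by omega)⟩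
      · exact ⟨ext0_diff ι p hF (by omega) (by omega) (by omega) hij hi hj (by omega) (by omega),
          ext0_diff ι p hF (by omega) (by omega) (by omega) (Ne.symm hij) hj hi (by omega) (by omega)⟩
    rcases hdW with h | h | h | h | h | h
    · exact h11 h
    · exact h11 h
    · exfalso
      obtain ⟨i, hi, rfl⟩ := lab1 hF hd h (by norm_num)
      have h5 : {2 * p ^ j, 2 * p ^ i} ≤ cf (Sy.{u, v, w} ι p) ρ := by
        refine (Multiset.le_iff_subset ?_).2 ?_
        · simp only [Multiset.insert_eq_cons, Multiset.nodup_cons, Multiset.mem_singleton, Multiset.nodup_singleton, and_true]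
          exact Ne.symm hne
        · intro x hx
          simp only [Multiset.insert_eq_cons, Multiset.mem_cons, Multiset.mem_singleton] at hx
          rcases hx with rfl | rfl
          · exact hc
          · exact hd
      have h6 := Multiset.count_le_of_le [2] (Multiset.map_le_map h5 (f := tyl p))
      rw [← hw, h3, Multiset.insert_eq_cons, Multiset.map_cons, Multiset.map_singleton, hct, h] at h6
      revert h6
      decide
    · exact h44 h
    · exact h44 h
    · exact h44 h)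
  exact R.n2 j hj ⟨X, hX, hV⟩

/-- **the patterns for `p = 7` without trivial factors** -/
theorem tab7 (hp7 : p = 7) (ha : 2 ≤ a) (hWm : W ∈ listF4) (h0 : [] ∉ W) :
    ∃ r < a, ∃ (Y : Submodule k V) (hY : ∀ g, ∀ x ∈ Y, ρ g x ∈ Y), Nd P Y ∧
      cf (Sy.{u, v, w} ι p) (subRep ρ Y hY) = {4 * p ^ r, 4 * p ^ r, p ^ r + p ^ ((r + 1) % a)} ∧
      ((∃ b, (tyl p b = [1, 1, 2] ∨ tyl p b = [1, 5]) ∧
          IsV ι p (subRep ρ (orth P Y) (S.orth_inv hY)) b) ∨
        cf (Sy.{u, v, w} ι p) (subRep ρ (orth P Y) (S.orth_inv hY)) = {4 * p ^ r, 6 * p ^ r}) := by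
  have hp : p.Prime := Fact.out
  obtain ⟨hc4, hc22⟩ := keyC W hWm h0
  have hlt : ∀ t ∈ W, ∀ e ∈ t, e < 7 := fun t ht e he => by have := lt_p ι p hw ht he; omega
  -- a `[4]` in the socle
  obtain ⟨c, hc, hct⟩ : ∃ c, InSoc ι p ρ c ∧ tyl p c = [4] := by
    by_contra hcon
    push Not at hcon
    exact S.kp hw (okB W false) (fun c hc => R.okB hF hw hc22 hp7 (fun _ => hcon) hc) (key7 W hWm h0 hlt)
  obtain ⟨hA, hB⟩ := (key7'' W hWm h0 hlt).resolve_right fun h => no_exc7 R hF hw hp7 ha h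
  obtain ⟨r, hr, rfl, Y, hY, hnd, hYc⟩ := R.T8 hF hw hc22 hc4 hp7 ha h0 hA hB hc hct
  have hii := succ_mod_ne ha hr
  have ht4 : tyl p (4 * p ^ r) = [4] := hct
  have ht11 : tyl p (p ^ r + p ^ ((r + 1) % a)) = [1, 1] := by
    have h := tyl_pair (p := p) (n := 1) (m := 1) (by norm_num) (by omega) (by norm_num) (by omega) hii
    rwa [one_mul, one_mul] at h
  refine ⟨r, hr, Y, hY, hnd, hYc, ?_⟩
  -- the types of the complement
  have hcf := S.cf_eq (ι := ι) (p := p) hY hnd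
  have hZi := S.orth_inv hY
  have hSZ := S.restrict hZi (S.nd_orth hnd)
  have hsum : (W : Multiset (List ℕ)) = ([4] ::ₘ [4] ::ₘ {[1, 1]}) +
      (cf (Sy.{u, v, w} ι p) (subRep ρ (orth P Y) hZi)).map (tyl p) := by
    rw [hw, hcf, hYc, Multiset.map_add, Multiset.insert_eq_cons, Multiset.insert_eq_cons, Multiset.map_cons,
      Multiset.map_cons, Multiset.map_singleton, ht4, ht11]
  have hWW := key7' W hWm h0 hlt (by
    rw [hsum, Multiset.count_add]
    have : (([4] ::ₘ [4] ::ₘ {[1, 1]} : Multiset (List ℕ))).count [4] = 2 := by decide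
    omega) (by
    have h1 : [1, 1] ∈ (W : Multiset (List ℕ)) := by
      rw [hsum, Multiset.mem_add]
      left
      decide
    exact h1)
  -- the labels of the socle of the complement
  have hzs : ∀ c, InSoc ι p (subRep ρ (orth P Y) hZi) c → InSoc ι p ρ c := fun c hc =>
    hc.iso ι p (orth P Y).subtype (fun _ _ => rfl) (Submodule.injective_subtype _)
  have hrest : ∀ (U : List (List ℕ)), (W : Multiset (List ℕ)) = ([4] ::ₘ [4] ::ₘ {[1, 1]}) + (U : Multiset (List ℕ)) →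
      (U : Multiset (List ℕ)) = (cf (Sy.{u, v, w} ι p) (subRep ρ (orth P Y) hZi)).map (tyl p) := by
    intro U hU
    rw [hU] at hsum
    exact add_left_cancel hsum
  have hokz : ∀ c, InSoc ι p (subRep ρ (orth P Y) hZi) c → okB W true (tyl p c) = true := fun c hc =>
    R.okB hF hw hc22 hp7 (fun h => absurd h (by decide)) (hzs c hc)
  simp only [List.mem_cons, List.not_mem_nil, or_false] at hWW
  rcases hWW with rfl | rfl | rfl | rfl | rfl | rfl
  · exact (hSZ.kp (hrest [[1, 1], [1, 3]] (by decide)) _ hokz (by decide)).elim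
  · exact (hSZ.kp (hrest [[1, 1], [2], [4]] (by decide)) _ hokz (by decide)).elim
  · left
    obtain ⟨l, hl, hlW⟩ := exists_list (tyl p) [[1, 1, 2]] _ (hrest [[1, 1, 2]] (by decide))
    obtain ⟨b, l1, rfl, hb, hl1⟩ := List.map_eq_cons_iff.1 hlW
    obtain rfl := List.map_eq_nil_iff.1 hl1
    exact ⟨b, Or.inl hb, irr_of_cf (S := Sy.{u, v, w} ι p) hl⟩
  · left
    obtain ⟨l, hl, hlW⟩ := exists_list (tyl p) [[1, 5]] _ (hrest [[1, 5]] (by decide))
    obtain ⟨b, l1, rfl, hb, hl1⟩ := List.map_eq_cons_iff.1 hlW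
    obtain rfl := List.map_eq_nil_iff.1 hl1
    exact ⟨b, Or.inr hb, irr_of_cf (S := Sy.{u, v, w} ι p) hl⟩
  · exact (hSZ.kp (hrest [[2], [2, 2]] (by decide)) _ hokz (by decide)).elim
  · right
    have hwz := hrest [[4], [6]] (by decide)
    obtain ⟨l, hl, hlW⟩ := exists_list (tyl p) [[4], [6]] _ hwz
    obtain ⟨b, l1, rfl, hb, hl1⟩ := List.map_eq_cons_iff.1 hlW
    obtain ⟨c, l2, rfl, hc, hl2⟩ := List.map_eq_cons_iff.1 hl1
    obtain rfl := List.map_eq_nil_iff.1 hl2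
    have hk := hSZ.kp' hwz (okB _ true) hokz (by decide)
    have hall := hSZ.all_soc (ι := ι) (p := p) hk.1
    have hbm : b ∈ cf (Sy.{u, v, w} ι p) (subRep ρ (orth P Y) hZi) := by rw [hl]; simp
    have hcm : c ∈ cf (Sy.{u, v, w} ι p) (subRep ρ (orth P Y) hZi) := by rw [hl]; simp
    obtain ⟨s, hs, rfl⟩ := lab1 (ρ := subRep ρ (orth P Y) hZi) hF hbm hb (by norm_num)
    obtain ⟨t, ht, rfl⟩ := lab1 (ρ := subRep ρ (orth P Y) hZi) hF hcm hc (by norm_num)
    have hcf' : cf (Sy.{u, v, w} ι p) ρ = {4 * p ^ r, 4 * p ^ r, p ^ r + p ^ ((r + 1) % a)} + {4 * p ^ s, 6 * p ^ t} := by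
      rw [hcf, hYc, hl]
      rfl
    have ht6 : tyl p (6 * p ^ t) = [6] := hc
    have key : ∀ x < a, InSoc ι p ρ (4 * p ^ x) → x = r := by
      intro x hx hxs
      by_contra hne
      have hne' : 4 * p ^ x ≠ 4 * p ^ r := fun h => hne (pow_inj' (by norm_num) h)
      have htx : tyl p (4 * p ^ x) = [4] := tyl_single (by norm_num) (by omega) _
      obtain ⟨y, hy, hyx, Y', hY', -, hYc'⟩ := R.T8 hF hw hc22 hc4 hp7 ha h0 hA hB hxs htx
      have h1 : 2 ≤ (cf (Sy.{u, v, w} ι p) ρ).count (4 * p ^ x) := by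
        have h2 := Multiset.count_le_of_le (4 * p ^ x) (cf_sub_le (Sy.{u, v, w} ι p) ρ Y' hY')
        have h3 : (cf (Sy.{u, v, w} ι p) (subRep ρ Y' hY')).count (4 * p ^ x) ≥ 2 := by
          rw [hYc', hyx, Multiset.insert_eq_cons, Multiset.count_cons_self, Multiset.insert_eq_cons,
            Multiset.count_cons_self]
          omega
        omega
      have h11 : 4 * p ^ x ≠ p ^ r + p ^ ((r + 1) % a) := fun h => by
        rw [h, ht11] at htx
        exact absurd htx (by decide)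
      have h6 : 4 * p ^ x ≠ 6 * p ^ t := fun h => by
        rw [h, ht6] at htx
        exact absurd htx (by decide)
      rw [hcf', Multiset.count_add, Multiset.insert_eq_cons, Multiset.insert_eq_cons, Multiset.insert_eq_cons,
        Multiset.count_cons_of_ne hne', Multiset.count_cons_of_ne hne', Multiset.count_singleton, if_neg h11,
        Multiset.count_cons, Multiset.count_singleton, if_neg h6] at h1
      split_ifs at h1 <;> omega
    have hsr := key s hs (hzs _ (hall _ hbm))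
    obtain ⟨x, hx, hx0, hxs⟩ := R.sq1 hF (by omega) ht (hzs _ (hall _ hcm))
    have hxW := cf_typ_mem ι p hw hxs.mem_cf
    have hx11 : tyl p x ≠ [1, 1] := fun h => absurd (R.soc11 hF hw (by omega) hxs h) (by decide)
    have hx4 : x = 4 * p ^ t := by
      have e : sqs p a t 6 = H28.SL2.one p a t 12 + (H28.SL2.one p a t 8 + (H28.SL2.one p a t 4 + {0})) := rfl
      rw [e] at hx
      simp only [Multiset.mem_add] at hx
      subst hp7
      have hit := succ_mod_ne (a := a) (i := t) (by omega) ht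
      rcases hx with hx | hx | hx | hx
      · exfalso
        unfold Cfsg.Agent.R2.H28.SL2.one ov at hx
        rw [if_neg (by norm_num), if_neg (by omega)] at hx
        simp only [Multiset.insert_eq_cons, Multiset.mem_cons, Multiset.mem_singleton] at hx
        norm_num at hx
        rcases hx with hx | hx
        · have h4 := tyl_pair' (p := 7) (n := 1) (m := 5) (by norm_num) (by omega) (by norm_num) (by omega) hit
          rw [one_mul] at h4
          rw [hx, h4] at hxW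
          revert hxW
          decide
        · exact hx0 hx
      · unfold Cfsg.Agent.R2.H28.SL2.one ov at hx
        rw [if_neg (by norm_num), if_neg (by omega)] at hx
        simp only [Multiset.insert_eq_cons, Multiset.mem_cons, Multiset.mem_singleton] at hx
        norm_num at hx
        rcases hx with hx | hx
        · exfalso
          have h4 := tyl_pair (p := 7) (n := 1) (m := 1) (by norm_num) (by omega) (by norm_num) (by omega) hit
          rw [one_mul, one_mul] at h4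
          rw [hx, h4] at hx11
          exact hx11 rfl
        · exact hx
      · unfold Cfsg.Agent.R2.H28.SL2.one at hx
        rwa [if_pos (by omega), Multiset.mem_singleton] at hx
      · exact absurd (Multiset.mem_singleton.1 hx) hx0
    have htr := key t ht (by rw [← hx4]; exact hxs)
    rw [hl, hsr, htr]
    rfl

end Cfsg.Agent.R2.F4T
end

-- part: R2/F4T/KLM
section
/-!
# The patterns for `p = 5` with trivial factors (helper6, S5931)

* `SD.co`, `SD.tp` : strict pressure for the types; `SD.not_nd`, `SD.exc`;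
* `sq_E` : the symmetric square of `V_{3p^i+p^(i+1)}`, `p = 5`;
* `no_K`, `no_M` : the patterns `[]²[1,3]³`, `[][1,3]²[2,2]`;
* `L_str` : the pattern `[],[1,1],[1,3]²,[4]`.
-/

set_option autoImplicit false
set_option linter.unusedSectionVars false

namespace Cfsg.Agent.R2.F4T

open Matrix Cfsg.Agent.H943.SL2Rel Cfsg.Agent.H943.SL2Mod Cfsg.Agent.H943.RepAdd Cfsg.Agent.R2.H28.SL2
open Cfsg.Agent.R2.SL2 (typ tyl coe_tyl typ_step typ_zero tyl_eq_nil mem_typ listF4)

universe u v w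

section gen

variable {k : Type u} [Field k] {G : Type w} [Group G] {V : Type v} [AddCommGroup V] [Module k V] [FiniteDimensional k V]
variable {ρ : Representation k G V} {P : V →ₗ[k] V →ₗ[k] k}

theorem SD.co (S : SD ρ P) (hfx : ∀ x, (∀ g, ρ g x = x) → x = 0) :
    ∀ f : V →ₗ[k] k, (∀ g x, f (ρ g x) = f x) → f = 0 := by
  intro f hf
  obtain ⟨y, hy⟩ := S.dul.surj f
  have hy0 : y = 0 := hfx y fun g => by
    rw [← sub_eq_zero]
    refine S.dul.right _ fun x => ?_
    rw [map_sub, S.dul.inv', hy, hf, hy, sub_self]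
  ext x
  rw [← hy, hy0, map_zero]
  rfl

theorem fx_sub (hfx : ∀ x, (∀ g, ρ g x = x) → x = 0) {X : Submodule k V} (hX : ∀ g, ∀ x ∈ X, ρ g x ∈ X) :
    ∀ x, (∀ g, subRep ρ X hX g x = x) → x = 0 := fun x hx =>
  Subtype.ext (hfx x fun g => congrArg Subtype.val (hx g))

end gen

variable {k : Type u} [Field k] [DecidableEq k] {F : Type w} [Field F] [Fintype F] [DecidableEq F] {ι : F →+* k}
variable {p : ℕ} [Fact p.Prime] [CharP k p] [CharP F p] [IsAlgClosed k] {a : ℕ} (hF : Fintype.card F = p ^ a)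

section sq

include hF in
/-- the symmetric square of `V_{3p^i+p^(i+1)}`, `p = 5` -/
theorem sq_E {X : Type v} [AddCommGroup X] [Module k X] [FiniteDimensional k X]
    {σ : Representation k (_root_.Matrix.SpecialLinearGroup (Fin 2) F) X} {i : ℕ} (hp5 : p = 5) (ha : 2 ≤ a) (hi : i < a)
    (h : IsV ι p σ (3 * p ^ i + p ^ ((i + 1) % a))) :
    cf (Sy.{u, v, w} ι p) (Sq σ) = {3 * p ^ ((i + 1) % a) + p ^ i, p ^ i + p ^ ((i + 1) % a),
      2 * p ^ i + 2 * p ^ ((i + 1) % a), 2 * p ^ i + 2 * p ^ ((i + 1) % a), 4 * p ^ i, 0} := by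
  have hpp : p.Prime := Fact.out
  have hij := succ_mod_ne ha hi
  have hj : (i + 1) % a < a := Nat.mod_lt _ (by omega)
  obtain ⟨j, hjd⟩ : ∃ j, j = (i + 1) % a := ⟨_, rfl⟩
  have h' : IsV ι p σ (3 * p ^ i + 1 * p ^ j) := by rwa [one_mul, hjd]
  have e6 : ∀ {z : ℂ}, Zs (p ^ a) z → chi 6 (z ^ p ^ i) = chi 1 (z ^ p ^ i) * chi 1 (z ^ p ^ j) + chi 2 (z ^ p ^ i) := by
    intro z hz
    rw [← cs_one (k := k) p hF hi (by omega) hz]
    unfold H28.SL2.one ov
    have e1 : (6 - p) * p ^ i + p ^ ((i + 1) % a) = 1 * p ^ i + 1 * p ^ j := by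
      rw [hp5, hjd]
      norm_num
    have e2 : (p - (6 - p) - 2) * p ^ i = 2 * p ^ i := by rw [hp5]
    rw [if_neg (by omega), if_neg (by omega), e1, e2, Multiset.insert_eq_cons, cs_cons, cs_singleton,
      chB_pair k p (by omega) (by omega) (hjd ▸ hij), chB_single k p (by omega)]
  rw [← hjd] at hij hj ⊢
  refine cf_of_cs ι p hF ?_ fun z hz => ?_
  · intro b hb
    simp only [Multiset.insert_eq_cons, Multiset.mem_cons, Multiset.mem_singleton] at hb
    rcases hb with rfl | rfl | rfl | rfl | rfl | rfl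
    · have := pair_lt (n := 3) (m := 1) p (by omega) (by omega) (Ne.symm hij) hj hi
      rwa [one_mul] at this
    · have := pair_lt (n := 1) (m := 1) p (by omega) (by omega) hij hi hj
      rwa [one_mul, one_mul] at this
    · exact pair_lt p (by omega) (by omega) hij hi hj
    · exact pair_lt p (by omega) (by omega) hij hi hj
    · exact single_lt p (by omega) hi
    · exact Nat.pow_pos hpp.pos
  · have hz0 := hz.ne_zero (two_le_q p hF)
    have hi0 := pow_ne_zero (p ^ i) hz0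
    have hj0 := pow_ne_zero (p ^ j) hz0
    have c12 : chi 1 (z ^ p ^ j) * chi 2 (z ^ p ^ j) = chi 3 (z ^ p ^ j) + chi 1 (z ^ p ^ j) := by
      rw [chi_mul' 1 2 hj0]
      simp only [Nat.min_def, Finset.sum_range_succ, Finset.sum_range_zero]
      norm_num only [Finset.sum_range_succ, _root_.ite_true, _root_.Finset.range_one, _root_.Finset.sum_singleton, _root_.mul_one]
    have b1 : chB k (3 * p ^ j + p ^ i) z = chi 3 (z ^ p ^ j) * chi 1 (z ^ p ^ i) := by
      have := chB_pair (n := 3) (m := 1) k p (by omega) (by omega) (Ne.symm hij) (z := z)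
      rwa [one_mul] at this
    have b2 : chB k (p ^ i + p ^ j) z = chi 1 (z ^ p ^ i) * chi 1 (z ^ p ^ j) := by
      have := chB_pair (n := 1) (m := 1) k p (by omega) (by omega) hij (z := z)
      rwa [one_mul, one_mul] at this
    rw [cs_sq_pair ι p hF (by omega) (by omega) hij h' hz, s2_three hi0, s2_one hj0, a2_three hi0, a2_one hj0, e6 hz,
      Multiset.insert_eq_cons, Multiset.insert_eq_cons, Multiset.insert_eq_cons, Multiset.insert_eq_cons,
      Multiset.insert_eq_cons, cs_cons, cs_cons, cs_cons, cs_cons, cs_cons, cs_singleton, b1, b2,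
      chB_pair k p (by omega) (by omega) hij, chB_single k p (by omega), chB_zero]
    linear_combination (chi 1 (z ^ p ^ i)) * c12

end sq

variable {V : Type v} [AddCommGroup V] [Module k V] [FiniteDimensional k V]
variable {ρ : Representation k (_root_.Matrix.SpecialLinearGroup (Fin 2) F) V} {P : V →ₗ[k] V →ₗ[k] k}
variable (S : SD ρ P)

/-- `0` is not exceptional -/
theorem hb_zero_zero (hp5 : 5 ≤ p) (a : ℕ) : hb p a 0 = 0 := by
  have hp : p.Prime := Fact.out
  have h9 := ne_nine p hp5 a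
  have h1 := hb_le_typ (p := p) hp5 (a := a) (b := 0) (Nat.pow_pos hp.pos) h9
  rw [tyl_eq_nil.2 rfl, if_neg] at h1
  · omega
  · unfold hty
    split_ifs <;> simp

theorem count_nil (s : Multiset ℕ) : (s.map (tyl p)).count [] = s.count 0 := by
  rw [Multiset.count_map, Multiset.count_eq_card_filter_eq]
  congr 1
  refine Multiset.filter_congr fun b _ => ?_
  rw [eq_comm, tyl_eq_nil, eq_comm]

include hF S in
/-- **strict pressure** -/
theorem SD.tp (hp5 : 5 ≤ p) (hfx : ∀ x, (∀ g, ρ g x = x) → x = 0) (h0 : 0 ∈ cf (Sy.{u, v, w} ι p) ρ) :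
    ((cf (Sy.{u, v, w} ι p) ρ).map (tyl p)).count [] < Hs p a (cf (Sy.{u, v, w} ι p) ρ) := by
  rw [count_nil]
  exact strict_pressure ι p hF (hb_zero_zero hp5 a) hfx (S.co hfx) (Multiset.count_pos.2 h0)

variable {W : List (List ℕ)} (hw : (W : Multiset (List ℕ)) = (cf (Sy.{u, v, w} ι p) ρ).map (tyl p))

theorem nil_mem {s : Multiset ℕ} (hw : (W : Multiset (List ℕ)) = s.map (tyl p)) (h0 : [] ∈ W) : 0 ∈ s := by
  have h1 : [] ∈ (W : Multiset (List ℕ)) := h0
  rw [hw] at h1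
  obtain ⟨c, hc, hct⟩ := Multiset.mem_map.1 h1
  rwa [tyl_eq_nil.1 hct] at hc

include hF S hw in
/-- factors of the exceptional type are isotropic -/
theorem SD.not_nd (hp5 : 5 ≤ p) (hfx : ∀ x, (∀ g, ρ g x = x) → x = 0) (h0 : [] ∈ W)
    (hc : (W : Multiset (List ℕ)).count (hty p a) ≤ (W : Multiset (List ℕ)).count [] + 1)
    {X : Submodule k V} {hX : ∀ g, ∀ x ∈ X, ρ g x ∈ X} {b : ℕ} (hb : IsV ι p (subRep ρ X hX) b) (ht : tyl p b = hty p a) :
    ¬ Nd P X := by
  intro hnd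
  have h1 := S.cf_eq (ι := ι) (p := p) hX hnd
  have hfx' := fx_sub hfx (S.orth_inv hX)
  have hS := S.restrict (S.orth_inv hX) (S.nd_orth hnd)
  have hty0 : hty p a ≠ [] := by
    unfold hty
    split_ifs <;> simp
  rw [cf_irr (Sy.{u, v, w} ι p) hb] at h1
  have h2 : (W : Multiset (List ℕ)) = {hty p a} + (cf (Sy.{u, v, w} ι p) (subRep ρ (orth P X) (S.orth_inv hX))).map (tyl p) := by
    rw [hw, h1, Multiset.map_add, Multiset.map_singleton, ht]
  have h3 : 0 ∈ cf (Sy.{u, v, w} ι p) (subRep ρ (orth P X) (S.orth_inv hX)) := by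
    have h4 := nil_mem hw h0
    rw [h1, Multiset.mem_add, Multiset.mem_singleton] at h4
    rcases h4 with h4 | h4
    · exfalso
      rw [← h4, tyl_eq_nil.2 rfl] at ht
      exact hty0 ht.symm
    · exact h4
  have h4 := hS.tp (ι := ι) hF hp5 hfx' h3
  have h5 := Hs_le_count (p := p) hp5 (ne_nine p hp5 a) (cf_lt ι p hF (subRep ρ (orth P X) (S.orth_inv hX)))
  rw [h2, Multiset.count_add, Multiset.count_add, Multiset.count_singleton_self, Multiset.count_singleton,
    if_neg hty0.symm] at hc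
  omega

include hF S hw in
/-- factors of the exceptional type are exceptional -/
theorem SD.exc (hp5 : 5 ≤ p) (hfx : ∀ x, (∀ g, ρ g x = x) → x = 0) (h0 : [] ∈ W)
    (hc : (W : Multiset (List ℕ)).count (hty p a) ≤ (W : Multiset (List ℕ)).count [] + 1)
    {b : ℕ} (hb : b ∈ cf (Sy.{u, v, w} ι p) ρ) (ht : tyl p b = hty p a) : H28.SL2.hb p a b ≠ 0 := by
  intro hb0
  have h1 := S.tp (ι := ι) hF hp5 hfx (nil_mem hw h0)
  obtain ⟨s, hs⟩ := Multiset.exists_cons_of_mem hb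
  have h2 : Hs p a (cf (Sy.{u, v, w} ι p) ρ) = Hs p a s := by
    rw [hs]
    unfold Hs
    rw [Multiset.map_cons, Multiset.sum_cons, hb0, zero_add]
  have h3 := Hs_le_count (p := p) hp5 (ne_nine p hp5 a) (s := s) (fun c hc => cf_lt ι p hF ρ c (by
    rw [hs]
    exact Multiset.mem_cons_of_mem hc))
  have h4 : (W : Multiset (List ℕ)).count (hty p a) = (s.map (tyl p)).count (hty p a) + 1 := by
    rw [hw, hs, Multiset.map_cons, ht, Multiset.count_cons_self]
  rw [h2, ← hw] at h1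
  omega

include hF in
theorem exc_form (hp5 : p = 5) (ha : 2 ≤ a) {b : ℕ} (hlt : b < p ^ a) (hb : hb p a b ≠ 0) :
    ∃ r < a, b = 3 * p ^ r + p ^ ((r + 1) % a) := by
  have hp : p.Prime := Fact.out
  unfold H28.SL2.hb at hb
  rw [Ne, Finset.card_eq_zero, ← Ne, ← Finset.nonempty_iff_ne_empty] at hb
  obtain ⟨l, hl⟩ := hb
  rw [Finset.mem_filter, Finset.mem_range] at hl
  have h3 := (exc_odd hp (by omega) hl.1 hlt hl.2).resolve_left (by omega)
  refine ⟨l, hl.1, ?_⟩
  rw [h3.2, show p - 2 = 3 by omega]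

/-- no trivial submodules -/
theorem soc_ne_nil (hfx : ∀ x, (∀ g, ρ g x = x) → x = 0) {c : ℕ} (hc : InSoc ι p ρ c) : tyl p c ≠ [] := by
  intro h
  rw [tyl_eq_nil] at h
  subst h
  obtain ⟨X, hX, hq, φ, hφ⟩ := hc
  have hnt : Nontrivial X := (show IsV ι p (subRep ρ X hX) 0 from ⟨hq, φ, hφ⟩).irr.1
  obtain ⟨x, hx⟩ := exists_ne (0 : X)
  apply hx
  apply Subtype.ext
  refine hfx _ fun g => ?_
  have h1 := hφ g (φ.symm x)
  rw [rb_zero ι p rfl, φ.apply_symm_apply] at h1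
  exact (congrArg Subtype.val h1).symm

variable (R : Rl ι p a ρ P)

include hF S hw R

/-- the common part of the three patterns -/
theorem common5 (hp5 : p = 5) (ha : 2 ≤ a) (hfx : ∀ x, (∀ g, ρ g x = x) → x = 0) (h0 : [] ∈ W)
    (hc : (W : Multiset (List ℕ)).count [1, 3] ≤ (W : Multiset (List ℕ)).count [] + 1)
    (hc3 : (W : Multiset (List ℕ)).count [1, 3] ≤ 3)
    {c : ℕ} (hc' : InSoc ι p ρ c) (ht : tyl p c = [1, 3]) :
    (∀ (X : Submodule k V) (hX : ∀ g, ∀ x ∈ X, ρ g x ∈ X), IsV ι p (subRep ρ X hX) c → Iso P X) ∧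
    (∀ d, InSoc ι p ρ d → tyl p d = [1, 3] → d = c) ∧
    ∃ i < a, c = 3 * p ^ i + p ^ ((i + 1) % a) ∧
      ((InSoc ι p ρ (p ^ i + p ^ ((i + 1) % a)) ∨ InSoc ι p ρ (2 * p ^ i + 2 * p ^ ((i + 1) % a))) ∨
        InSoc ι p ρ (4 * p ^ i)) := by
  have hty5 : hty p a = [1, 3] := by rw [hty_two p ha, hp5]
  have hiso : ∀ d, tyl p d = [1, 3] → ∀ (X : Submodule k V) (hX : ∀ g, ∀ x ∈ X, ρ g x ∈ X),
      IsV ι p (subRep ρ X hX) d → Iso P X := fun d hd X hX hV =>
    (S.nd_or_iso hV).resolve_left (S.not_nd hF hw (by omega) hfx h0 (by rw [hty5]; exact hc) hV (by rw [hty5, hd]))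
  have huniq : ∀ d, InSoc ι p ρ d → tyl p d = [1, 3] → d = c := by
    intro d hd hdt
    by_contra hne
    obtain ⟨X, hX, hXV⟩ := hc'
    obtain ⟨Y, hY, hYV⟩ := hd
    have h1 := S.two_le_count hXV (hiso c ht X hX hXV)
    have h2 := S.two_le_count hYV (hiso d hdt Y hY hYV)
    have h3 : 2 • {c} + 2 • {d} ≤ cf (Sy.{u, v, w} ι p) ρ := by
      rw [Multiset.le_iff_count]
      intro x
      rw [Multiset.count_add, Multiset.count_nsmul, Multiset.count_nsmul, Multiset.count_singleton, Multiset.count_singleton]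
      split_ifs with h4 h5 h5
      · subst h4
        exact absurd h5.symm hne
      · subst h4
        omega
      · subst h5
        omega
      · omega
    have h4 := Multiset.count_le_of_le [1, 3] (Multiset.map_le_map h3 (f := tyl p))
    rw [← hw, Multiset.map_add, Multiset.map_nsmul, Multiset.map_nsmul, Multiset.map_singleton, Multiset.map_singleton, ht, hdt,
      Multiset.count_add, Multiset.count_nsmul, Multiset.count_singleton_self] at h4
    omega
  refine ⟨hiso c ht, huniq, ?_⟩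
  obtain ⟨i, hi, rfl⟩ := exc_form hF hp5 ha (cf_lt ι p hF ρ c hc'.mem_cf)
    (S.exc hF hw (by omega) hfx h0 (by rw [hty5]; exact hc) hc'.mem_cf (by rw [hty5, ht]))
  refine ⟨i, hi, rfl, ?_⟩
  obtain ⟨X, hX, hV⟩ := hc'
  have hX0 : X ≠ ⊥ := Submodule.nontrivial_iff_ne_bot.1 hV.irr.1
  obtain ⟨d, h1, h2, h3⟩ := R.sS X hX hX0
  rw [sq_E hF hp5 ha hi hV] at h1
  simp only [Multiset.insert_eq_cons, Multiset.mem_cons, Multiset.mem_singleton] at h1
  have hij := succ_mod_ne ha hi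
  rcases h1 with rfl | rfl | rfl | rfl | rfl | rfl
  · exfalso
    have h4 : tyl p (3 * p ^ ((i + 1) % a) + p ^ i) = [1, 3] := by
      have := tyl_pair' (p := p) (n := 1) (m := 3) (by norm_num) (by omega) (by norm_num) (by omega) (Ne.symm hij)
      rwa [one_mul] at this
    have h5 := huniq _ h3 h4
    have h6 : p ^ ((i + 1) % a) = p ^ i := by omega
    exact hij (Nat.pow_right_injective (le_refl 2 |>.trans (by omega)) h6).symm
  · exact Or.inl (Or.inl h3)
  · exact Or.inl (Or.inr h3)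
  · exact Or.inl (Or.inr h3)
  · exact Or.inr h3
  · exact absurd rfl h2

/-- there is a factor `[1,3]` in the socle unless all types of the socle have multiplicity one -/
theorem exists_13 (ok : List ℕ → Bool) (hok : ∀ c, InSoc ι p ρ c → tyl p c ≠ [1, 3] → ok (tyl p c) = true)
    (h1 : (∀ t ∈ W, ok t = true → (W : Multiset (List ℕ)).count t ≤ 1) ∧ ¬ ∀ t ∈ W, ok t = true) :
    ∃ c, InSoc ι p ρ c ∧ tyl p c = [1, 3] := by
  by_contra hcon
  push Not at hcon
  exact S.kp hw ok (fun c hc => hok c hc (hcon c hc)) h1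

/-- the pattern `[]²[1,3]³` -/
theorem no_K (hp5 : p = 5) (ha : 2 ≤ a) (hfx : ∀ x, (∀ g, ρ g x = x) → x = 0)
    (hW : W = [[], [], [1, 3], [1, 3], [1, 3]]) : False := by
  have hW2 : ∀ c, InSoc ι p ρ c → tyl p c = [1, 3] := by
    intro c hc
    have h1 := cf_typ_mem ι p hw hc.mem_cf
    have h2 := soc_ne_nil hfx hc
    rw [hW] at h1
    simp only [List.mem_cons, List.not_mem_nil, or_false] at h1
    (clear * - h2 h1; tauto)
  subst hW
  obtain ⟨c, hc, hct⟩ := exists_13 hF S hw R (fun _ => false) (fun c hc h => absurd (hW2 c hc) h) (by decide)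
  obtain ⟨-, -, i, hi, -, h⟩ := common5 hF S hw R hp5 ha hfx (by decide) (by decide) (by decide) hc hct
  have hij := succ_mod_ne ha hi
  rcases h with (h | h) | h
  · have h1 := hW2 _ h
    have h2 := tyl_pair (p := p) (n := 1) (m := 1) (by norm_num) (by omega) (by norm_num) (by omega) hij
    rw [one_mul, one_mul, h1] at h2
    exact absurd h2 (by decide)
  · have h1 := hW2 _ h
    rw [tyl_pair (by norm_num) (by omega) le_rfl (by omega) hij] at h1
    exact absurd h1 (by decide)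
  · have h1 := hW2 _ h
    rw [tyl_single (by norm_num) (by omega)] at h1
    exact absurd h1 (by decide)

/-- the pattern `[][1,3]²[2,2]` -/
theorem no_M (hp5 : p = 5) (ha : 2 ≤ a) (hfx : ∀ x, (∀ g, ρ g x = x) → x = 0)
    (hW : W = [[], [1, 3], [1, 3], [2, 2]]) : False := by
  subst hW
  have hW2 : ∀ c, InSoc ι p ρ c → tyl p c = [1, 3] := by
    intro c hc
    have h1 := cf_typ_mem ι p hw hc.mem_cf
    have h2 := soc_ne_nil hfx hc
    simp only [List.mem_cons, List.not_mem_nil, or_false] at h1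
    have h3 : tyl p c ≠ [2, 2] := by
      intro h
      rcases R.soc22 hF hw (by decide) (by omega) hc h with ⟨d, hd, hd4⟩ | h4
      · have h5 := cf_typ_mem ι p hw hd.mem_cf
        rw [hd4] at h5
        exact absurd h5 (by decide)
      · exact absurd h4 (by decide)
    (clear * - h2 h1 h3; tauto)
  obtain ⟨c, hc, hct⟩ := exists_13 hF S hw R (fun _ => false) (fun c hc h => absurd (hW2 c hc) h) (by decide)
  obtain ⟨-, -, i, hi, -, h⟩ := common5 hF S hw R hp5 ha hfx (by decide) (by decide) (by decide) hc hct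
  have hij := succ_mod_ne ha hi
  rcases h with (h | h) | h
  · have h1 := hW2 _ h
    have h2 := tyl_pair (p := p) (n := 1) (m := 1) (by norm_num) (by omega) (by norm_num) (by omega) hij
    rw [one_mul, one_mul, h1] at h2
    exact absurd h2 (by decide)
  · have h1 := hW2 _ h
    rw [tyl_pair (by norm_num) (by omega) le_rfl (by omega) hij] at h1
    exact absurd h1 (by decide)
  · have h1 := hW2 _ h
    rw [tyl_single (by norm_num) (by omega)] at h1
    exact absurd h1 (by decide)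

/-- the pattern `[],[1,1],[1,3]²,[4]` -/
theorem L_str (hp5 : p = 5) (ha : 2 ≤ a) (hfx : ∀ x, (∀ g, ρ g x = x) → x = 0)
    (hW : W = [[], [1, 1], [1, 3], [1, 3], [4]]) :
    ∃ i < a, (∀ c, InSoc ι p ρ c → c = 3 * p ^ i + p ^ ((i + 1) % a) ∨ c = 4 * p ^ i) ∧
      (cf (Sy.{u, v, w} ι p) ρ).count (4 * p ^ i) ≤ 1 ∧
      ∃ (X : Submodule k V) (hX : ∀ g, ∀ x ∈ X, ρ g x ∈ X), IsV ι p (subRep ρ X hX) (3 * p ^ i + p ^ ((i + 1) % a)) ∧
        Iso P X ∧ ∃ (N : Submodule k V) (hN : ∀ g, ∀ x ∈ N, ρ g x ∈ N), IsV ι p (subRep ρ N hN) (4 * p ^ i) ∧ Nd P N := by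
  subst hW
  have hW2 : ∀ c, InSoc ι p ρ c → tyl p c = [1, 3] ∨ tyl p c = [4] := by
    intro c hc
    have h1 := cf_typ_mem ι p hw hc.mem_cf
    have h2 := soc_ne_nil hfx hc
    simp only [List.mem_cons, List.not_mem_nil, or_false] at h1
    have h3 : tyl p c ≠ [1, 1] := fun h => absurd (R.soc11 hF hw (by omega) hc h) (by decide)
    (clear * - h2 h1 h3; tauto)
  obtain ⟨c, hc, hct⟩ := exists_13 hF S hw R (fun t => decide (t = [4])) (fun c hc h => by
    rw [decide_eq_true_iff]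
    exact (hW2 c hc).resolve_left h) (by decide)
  obtain ⟨hiso, huniq, i, hi, rfl, h⟩ := common5 hF S hw R hp5 ha hfx (by decide) (by decide) (by decide) hc hct
  have hij := succ_mod_ne ha hi
  have t4 : ∀ j, tyl p (4 * p ^ j) = [4] := fun j => tyl_single (by norm_num) (by omega) _
  have h4 : InSoc ι p ρ (4 * p ^ i) := by
    rcases h with (h | h) | h
    · exfalso
      have h2 := tyl_pair (p := p) (n := 1) (m := 1) (by norm_num) (by omega) (by norm_num) (by omega) hij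
      rw [one_mul, one_mul] at h2
      rcases hW2 _ h with h1 | h1
      · rw [h1] at h2
        exact absurd h2 (by decide)
      · rw [h1] at h2
        exact absurd h2 (by decide)
    · exfalso
      have h2 := tyl_pair (p := p) (n := 2) (m := 2) (by norm_num) (by omega) le_rfl (by omega) hij
      rcases hW2 _ h with h1 | h1
      · rw [h1] at h2
        exact absurd h2 (by decide)
      · rw [h1] at h2
        exact absurd h2 (by decide)
    · exact h
  have hc4 : (cf (Sy.{u, v, w} ι p) ρ).count (4 * p ^ i) ≤ 1 := by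
    have h5 := count_tyl hw (4 * p ^ i)
    rw [t4] at h5
    exact h5.trans (by decide)
  refine ⟨i, hi, fun d hd => ?_, hc4, ?_⟩
  · rcases hW2 d hd with h1 | h1
    · exact Or.inl (huniq d hd h1)
    · right
      obtain ⟨j, hj, rfl⟩ := tyl_single_inv h1 (cf_lt ι p hF ρ d hd.mem_cf) (by norm_num)
      by_contra hne
      have h5 : {4 * p ^ i, 4 * p ^ j} ≤ cf (Sy.{u, v, w} ι p) ρ := by
        refine (Multiset.le_iff_subset ?_).2 ?_
        · simp only [Multiset.insert_eq_cons, Multiset.nodup_cons, Multiset.mem_singleton, Multiset.nodup_singleton, and_true]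
          exact fun h6 => hne h6.symm
        · intro x hx
          simp only [Multiset.insert_eq_cons, Multiset.mem_cons, Multiset.mem_singleton] at hx
          rcases hx with rfl | rfl
          · exact h4.mem_cf
          · exact hd.mem_cf
      have h6 := Multiset.count_le_of_le [4] (Multiset.map_le_map h5 (f := tyl p))
      rw [← hw, Multiset.insert_eq_cons, Multiset.map_cons, Multiset.map_singleton, t4, t4] at h6
      revert h6
      decide
  · obtain ⟨X, hX, hV⟩ := hc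
    obtain ⟨N, hN, hNV⟩ := h4
    exact ⟨X, hX, hV, hiso X hX hV, N, hN, hNV, S.nd_of_count hNV hc4⟩

end Cfsg.Agent.R2.F4T
end

-- part: R2/F4T/NoL
section
/-!
# The pattern `[],[1,1],[1,3]²,[4]` (helper6, S5931)

* `Prd ρ P B` : an invariant commutative product `B` with the quartic identity and without white submodules;
* `Prd.white_hw` : `B m m = 0`, `B m (w m) = 0` for a highest weight vector is impossible;
* `no_L` : the pattern `[],[1,1],[1,3]²,[4]`, `p = 5`, is impossible.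
-/

set_option autoImplicit false
set_option linter.unusedSectionVars false

namespace Cfsg.Agent.R2.F4T

open Matrix Cfsg.Agent.H943.SL2Rel Cfsg.Agent.H943.SL2Mod Cfsg.Agent.H943.RepAdd Cfsg.Agent.R2.H28.SL2
open Cfsg.Agent.R2.SL2 (typ tyl coe_tyl typ_step typ_zero tyl_eq_nil mem_typ listF4)
open Cfsg.Agent.R2.H22.Q7 (Ew mem_Ew mod_of_Ew)

universe u v w

section arith

theorem cop5 {a i : ℕ} (ha : 2 ≤ a) : Nat.gcd (5 ^ a - 1) (5 ^ i) = 1 := by
  refine Nat.Coprime.pow_right i ?_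
  rw [Nat.coprime_comm, Nat.Prime.coprime_iff_not_dvd (by norm_num)]
  intro h
  have h1 : 5 ∣ 5 ^ a := dvd_pow_self 5 (by omega)
  have h2 : 0 < 5 ^ a := by positivity
  omega

theorem pow5_ge {a : ℕ} (ha : 2 ≤ a) : 25 ≤ 5 ^ a := by
  calc 25 = 5 ^ 2 := by norm_num
    _ ≤ 5 ^ a := Nat.pow_le_pow_right (by norm_num) ha

theorem wrap5 {a r : ℕ} (hr : r < a) : 5 * 5 ^ r ≡ 5 ^ ((r + 1) % a) [MOD 5 ^ a - 1] := by
  rw [← pow_succ']
  by_cases h : r + 1 = a
  · rw [h, Nat.mod_self, pow_zero]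
    have h1 : 1 ≤ 5 ^ a := Nat.one_le_pow _ _ (by norm_num)
    exact ((Nat.modEq_iff_dvd' h1).2 dvd_rfl).symm
  · rw [Nat.mod_eq_of_lt (by omega)]

theorem arith5 {a i : ℕ} (ha : 2 ≤ a) (hi : i < a) :
    (4 * 5 ^ i) % (5 ^ a - 1) ≠ (2 * (3 * 5 ^ i + 5 ^ ((i + 1) % a))) % (5 ^ a - 1) := by
  intro h
  have h1 : 4 * 5 ^ i ≡ 2 * (3 * 5 ^ i + 5 ^ ((i + 1) % a)) [MOD 5 ^ a - 1] := h
  have h2 : 2 * (3 * 5 ^ i + 5 * 5 ^ i) ≡ 2 * (3 * 5 ^ i + 5 ^ ((i + 1) % a)) [MOD 5 ^ a - 1] :=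
    ((wrap5 hi).add_left _).mul_left _
  have h3 : 4 * 5 ^ i ≡ 16 * 5 ^ i [MOD 5 ^ a - 1] := by
    refine h1.trans (h2.symm.trans ?_)
    rw [show 2 * (3 * 5 ^ i + 5 * 5 ^ i) = 16 * 5 ^ i by ring]
  have h4 := Nat.ModEq.cancel_right_of_coprime (cop5 ha) h3
  have h5 := pow5_ge ha
  have h6 := h4.eq_of_lt_of_lt (by omega) (by omega)
  omega

theorem arith5' {a i s : ℕ} (ha : 2 ≤ a) (hs : s ≤ 4) (h : (2 * s * 5 ^ i) % (5 ^ a - 1) = (4 * 5 ^ i) % (5 ^ a - 1)) :
    s = 2 := by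
  have h3 : 2 * s * 5 ^ i ≡ 4 * 5 ^ i [MOD 5 ^ a - 1] := h
  have h4 := Nat.ModEq.cancel_right_of_coprime (cop5 ha) h3
  have h5 := pow5_ge ha
  have h6 := h4.eq_of_lt_of_lt (by omega) (by omega)
  omega

end arith

variable {k : Type u} [Field k] [DecidableEq k] {F : Type w} [Field F] [Fintype F] [DecidableEq F] {ι : F →+* k}
variable {V : Type v} [AddCommGroup V] [Module k V]
variable {ρ : Representation k (_root_.Matrix.SpecialLinearGroup (Fin 2) F) V} {P : V →ₗ[k] V →ₗ[k] k}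

/-- an invariant commutative product -/
structure Prd (ρ : Representation k (_root_.Matrix.SpecialLinearGroup (Fin 2) F) V) (P : V →ₗ[k] V →ₗ[k] k) (B : V →ₗ[k] V →ₗ[k] V) :
    Prop where
  comm : ∀ x y, B x y = B y x
  eqv : ∀ g x y, B (ρ g x) (ρ g y) = ρ g (B x y)
  four : ∀ x y z t, P (B x y) (B z t) + P (B x z) (B y t) + P (B x t) (B y z) =
    2 / 3 * (P x y * P z t + P x z * P y t + P x t * P y z)
  white : ∀ X : Submodule k V, (∀ g, ∀ x ∈ X, ρ g x ∈ X) → (∀ x ∈ X, B x x = 0) → X = ⊥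

/-- the submodule generated by a highest weight vector -/
theorem gen_le {e : ℕ} {x : V} (hx : x ∈ Ew ι ρ e) {A : Submodule k V} (hxA : x ∈ A)
    (hA : ∀ t, ρ (u t) (ρ w x) ∈ A) : ∃ N : Submodule k V, (∀ g, ∀ y ∈ N, ρ g y ∈ N) ∧ x ∈ N ∧ N ≤ A := by
  obtain ⟨s, hsd⟩ : ∃ s : Set V, s = insert x (Set.range fun t : F => ρ (u t) (ρ w x)) := ⟨_, rfl⟩
  have hsub : ∀ t : F, ρ (u t) (ρ w x) ∈ Submodule.span k s := fun t =>
    Submodule.subset_span (by rw [hsd]; exact Set.mem_insert_of_mem _ ⟨t, rfl⟩)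
  have hxs : x ∈ Submodule.span k s := Submodule.subset_span (by rw [hsd]; exact Set.mem_insert _ _)
  have hD : UFix ρ (Submodule.span k {x}) := by
    intro t d hd
    obtain ⟨c, rfl⟩ := Submodule.mem_span_singleton.1 hd
    rw [map_smul, hx.1]
  have key : ∀ g : _root_.Matrix.SpecialLinearGroup (Fin 2) F, (∀ y ∈ s, ρ g y ∈ Submodule.span k s) →
      ∀ y ∈ Submodule.span k s, ρ g y ∈ Submodule.span k s := by
    intro g hg y hy
    have h1 : Submodule.span k s ≤ (Submodule.span k s).comap (ρ g) := Submodule.span_le.2 hg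
    exact h1 hy
  have hs : ∀ y ∈ s, y = x ∨ ∃ t : F, y = ρ (u t) (ρ w x) := by
    intro y hy
    rw [hsd] at hy
    rcases Set.mem_insert_iff.1 hy with h1 | ⟨t, rfl⟩
    · exact Or.inl h1
    · exact Or.inr ⟨t, rfl⟩
  refine ⟨Submodule.span k s, fun g => ?_, hxs, Submodule.span_le.2 fun y hy => ?_⟩
  · refine induct (P := fun g => ∀ y ∈ Submodule.span k s, ρ g y ∈ Submodule.span k s) ?_ ?_ ?_ ?_ g
    · intro r
      refine key _ fun y hy => ?_
      rcases hs y hy with rfl | ⟨t, rfl⟩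
      · rw [hx.1]; exact hxs
      · rw [apply_mul, ← u_add]; exact hsub _
    · intro a
      refine key _ fun y hy => ?_
      rcases hs y hy with rfl | ⟨t, rfl⟩
      · rw [hx.2]; exact Submodule.smul_mem _ _ hxs
      · rw [apply_mul3, h_u, mul_assoc, h_w, map_mul, map_mul]
        show ρ (u ((a : F) ^ 2 * t)) (ρ w (ρ (h a⁻¹) x)) ∈ _
        rw [hx.2, map_smul, map_smul]
        exact Submodule.smul_mem _ _ (hsub _)
    · refine key _ fun y hy => ?_
      rcases hs y hy with rfl | ⟨t, rfl⟩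
      · have h1 := hsub 0
        rwa [u_zero, map_one, Module.End.one_apply] at h1
      · by_cases ht : t = 0
        · rw [ht, u_zero, map_one, Module.End.one_apply, ww, hx.2]
          exact Submodule.smul_mem _ _ hxs
        · rw [wuw ρ hD ht (Submodule.mem_span_singleton_self x), hx.2, map_smul, map_smul]
          exact Submodule.smul_mem _ _ (hsub _)
    · intro a b ha hb y hy
      rw [map_mul, Module.End.mul_apply]
      exact ha _ (hb _ hy)
  · rcases hs y hy with rfl | ⟨t, rfl⟩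
    · exact hxA
    · exact hA t

variable {B : V →ₗ[k] V →ₗ[k] V} (D : Prd ρ P B)

include D in
/-- **highest weight vectors** -/
theorem Prd.white_hw {X : Submodule k V} {hX : ∀ g, ∀ x ∈ X, ρ g x ∈ X} (hXi : Irrd (subRep ρ X hX)) {m : V} (hmX : m ∈ X)
    (hm0 : m ≠ 0) {e : ℕ} (hm : m ∈ Ew ι ρ e) (h1 : B m m = 0) (h2 : B m (ρ w m) = 0) : False := by
  have hirr : ∀ M : Submodule k V, (∀ g, ∀ y ∈ M, ρ g y ∈ M) → m ∈ M → X ≤ M := by
    intro M hM hmM
    rcases hXi.2 (M.comap X.subtype) (fun g y hy => hM g _ hy) with h | h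
    · exfalso
      have h3 : (⟨m, hmX⟩ : X) ∈ M.comap X.subtype := hmM
      rw [h, Submodule.mem_bot] at h3
      exact hm0 (congrArg Subtype.val h3)
    · intro y hy
      have h3 : (⟨y, hy⟩ : X) ∈ M.comap X.subtype := by
        rw [h]
        trivial
      exact h3
  obtain ⟨N, hN, hmN, hNA⟩ := gen_le hm (A := LinearMap.ker (B m)) h1 (fun t => by
    rw [LinearMap.mem_ker]
    have h3 := D.eqv (u t) m (ρ w m)
    rw [hm.1, h2, map_zero] at h3
    exact h3)
  have hmX0 : ∀ y ∈ X, B m y = 0 := fun y hy => LinearMap.mem_ker.1 (hNA (hirr N hN hmN hy))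
  -- the annihilator
  obtain ⟨A, hA⟩ : ∃ A : Submodule k V, ∀ y, y ∈ A ↔ ∀ x ∈ X, B y x = 0 :=
    ⟨{ carrier := {y | ∀ x ∈ X, B y x = 0}
       zero_mem' := fun x _ => by rw [map_zero]; rfl
       add_mem' := fun {y z} hy hz x hx => by rw [map_add, LinearMap.add_apply, hy x hx, hz x hx, add_zero]
       smul_mem' := fun c y hy x hx => by rw [map_smul, LinearMap.smul_apply, hy x hx, smul_zero] }, fun y => Iff.rfl⟩
  have hXA : X ≤ A := hirr A (fun g y hy => by
    rw [hA] at hy ⊢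
    intro x hx
    have h3 := D.eqv g y (ρ g⁻¹ x)
    have e1 : ρ g (ρ g⁻¹ x) = x := by rw [apply_mul, mul_inv_cancel, map_one, Module.End.one_apply]
    rw [e1, hy _ (hX _ x hx), map_zero] at h3
    exact h3) ((hA m).2 hmX0)
  have h3 := D.white X hX fun x hx => (hA x).1 (hXA hx) x hx
  rw [h3, Submodule.mem_bot] at hmX
  exact hm0 hmX

variable {p : ℕ} [Fact p.Prime] [CharP k p] [CharP F p] [IsAlgClosed k] {a : ℕ} (hF : Fintype.card F = p ^ a)
variable [FiniteDimensional k V]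
variable {W : List (List ℕ)} (hw : (W : Multiset (List ℕ)) = (cf (Sy.{u, v, w} ι p) ρ).map (tyl p))
variable (S : SD ρ P) (R : Rl ι p a ρ P)

include hF S hw R D in
/-- **the pattern `[],[1,1],[1,3]²,[4]`** -/
theorem no_L (hp5 : p = 5) (ha : 2 ≤ a) (hfx : ∀ x, (∀ g, ρ g x = x) → x = 0)
    (hW : W = [[], [1, 1], [1, 3], [1, 3], [4]]) : False := by
  obtain ⟨i, hi, hsoc, hc4, X, hX, hXV, hiso, N, hN, hNV, hnd⟩ := L_str hF S hw R hp5 ha hfx hW
  have hij := succ_mod_ne ha hi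
  have h2 : (2 : k) ≠ 0 := two_ne (p := p) (by omega)
  have t4 : tyl p (4 * p ^ i) = [4] := tyl_single (by norm_num) (by omega) _
  have t13 : tyl p (3 * p ^ i + p ^ ((i + 1) % a)) = [1, 3] := by
    have h := tyl_pair' (p := p) (n := 1) (m := 3) (by norm_num) (by omega) (by norm_num) (by omega) hij
    rwa [one_mul] at h
  -- the products are in `N`
  have hcompl := S.compl hN hnd
  have hOi := S.orth_inv hN
  obtain ⟨π, hπN, hπe⟩ : ∃ π : V →ₗ[k] orth P N, (∀ x, π x = 0 → x ∈ N) ∧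
      ∀ g x, π (ρ g x) = subRep ρ (orth P N) hOi g (π x) := by
    refine ⟨(orth P N).projectionOnto N hcompl.symm, fun x hx => ?_, fun g x => ?_⟩
    · exact (Submodule.projectionOnto_apply_eq_zero_iff hcompl.symm).1 hx
    · obtain ⟨y, hy, z, hz, rfl⟩ := Submodule.mem_sup.1 (show x ∈ N ⊔ orth P N by rw [hcompl.sup_eq_top]; trivial)
      have e1 : ∀ y ∈ N, (orth P N).projectionOnto N hcompl.symm y = 0 := fun y hy =>
        (Submodule.projectionOnto_apply_eq_zero_iff hcompl.symm).2 hy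
      have e2 : ∀ (z : V) (hz : z ∈ orth P N), (orth P N).projectionOnto N hcompl.symm z = ⟨z, hz⟩ := fun z hz =>
        Submodule.projectionOnto_apply_left hcompl.symm ⟨z, hz⟩
      rw [map_add, map_add, map_add, e1 y hy, e1 _ (hN g y hy), e2 z hz, e2 _ (hOi g z hz), zero_add, zero_add]
      rfl
  have hBN : ∀ x ∈ X, ∀ y ∈ X, B x y ∈ N := by
    have h0 : (B.compl₁₂ X.subtype X.subtype).compr₂ π = 0 := by
      by_contra h0
      obtain ⟨c, hc1, hc2⟩ := soc_of_sq ι p (σ := subRep ρ X hX) (ρ := subRep ρ (orth P N) hOi)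
        ((B.compl₁₂ X.subtype X.subtype).compr₂ π) (fun x y => by
          show π (B x y) = π (B y x)
          rw [D.comm]) (fun g x y => by
          show π (B (ρ g x) (ρ g y)) = subRep ρ (orth P N) hOi g (π (B x y))
          rw [D.eqv, hπe]) h0
      have hc3 : InSoc ι p ρ c := hc2.iso ι p (orth P N).subtype (fun _ _ => rfl) (orth P N).injective_subtype
      rcases hsoc c hc3 with h | h
      · rw [sq_E hF hp5 ha hi hXV, h] at hc1
        simp only [Multiset.insert_eq_cons, Multiset.mem_cons, Multiset.mem_singleton] at hc1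
        have t11 : tyl p (p ^ i + p ^ ((i + 1) % a)) = [1, 1] := by
          have h := tyl_pair (p := p) (n := 1) (m := 1) (by norm_num) (by omega) (by norm_num) (by omega) hij
          rwa [one_mul, one_mul] at h
        have t22 : tyl p (2 * p ^ i + 2 * p ^ ((i + 1) % a)) = [2, 2] :=
          tyl_pair (by norm_num) (by omega) le_rfl (by omega) hij
        rcases hc1 with h1 | h1 | h1 | h1 | h1 | h1
        · have h6 : p ^ ((i + 1) % a) = p ^ i := by omega
          exact hij (Nat.pow_right_injective (le_refl 2 |>.trans (by omega)) h6).symm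
        · rw [h1, t11] at t13
          exact absurd t13 (by decide)
        · rw [h1, t22] at t13
          exact absurd t13 (by decide)
        · rw [h1, t22] at t13
          exact absurd t13 (by decide)
        · rw [h1, t4] at t13
          exact absurd t13 (by decide)
        · rw [h1, tyl_eq_nil.2 rfl] at t13
          exact absurd t13 (by decide)
      · subst h
        have h1 := S.cf_eq (ι := ι) (p := p) hN hnd
        rw [cf_irr (Sy.{u, v, w} ι p) hNV] at h1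
        rw [h1, Multiset.count_add, Multiset.count_singleton_self] at hc4
        have h3 := Multiset.one_le_count_iff_mem.2 hc2.mem_cf
        omega
    intro x hx y hy
    have h3 := LinearMap.congr_fun (LinearMap.congr_fun h0 ⟨x, hx⟩) ⟨y, hy⟩
    exact hπN _ h3
  -- the highest weight vector
  obtain ⟨m, hm0, hmu, hmh, -, -⟩ := IsV.hw ι p hXV
  have hmE : (m : V) ∈ Ew ι ρ (3 * p ^ i + p ^ ((i + 1) % a)) :=
    ⟨fun t => congrArg Subtype.val (hmu t), fun a => congrArg Subtype.val (hmh a)⟩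
  have hwm : ρ w (m : V) ∈ X := hX _ _ m.2
  have hmm : B m m = 0 := by
    by_contra h0
    have h3 := mod_of_Ew ι p hNV (e := 2 * (3 * p ^ i + p ^ ((i + 1) % a))) (x := ⟨B m m, hBN m m.2 m m.2⟩)
      ⟨fun t => Subtype.ext (by
        show ρ (u t) (B m m) = B m m
        rw [← D.eqv, hmE.1]), fun a => Subtype.ext (by
        show ρ (h a) (B m m) = ι a ^ (2 * (3 * p ^ i + p ^ ((i + 1) % _))) • B m m
        rw [← D.eqv, hmE.2, map_smul, map_smul, LinearMap.smul_apply, smul_smul, ← pow_add, two_mul])⟩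
      (fun h => h0 (congrArg Subtype.val h))
    rw [hF] at h3
    subst hp5
    exact arith5 ha hi h3
  have hww : B (ρ w m) (ρ w m) = 0 := by rw [D.eqv, hmm, map_zero]
  obtain ⟨z, hz⟩ : ∃ z, z = B m (ρ w m) := ⟨_, rfl⟩
  have hzN : z ∈ N := by
    rw [hz]
    exact hBN _ m.2 _ hwm
  have hzz : P z z = 0 := by
    have h3 := D.four m (ρ w m) m (ρ w m)
    rw [hmm, hww, map_zero, D.comm (ρ w m) m, ← hz, hiso _ m.2 _ hwm, hiso _ m.2 _ m.2, hiso _ hwm _ m.2] at h3
    have h4 : 2 * P z z = 0 := by linear_combination h3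
    exact (mul_eq_zero.1 h4).resolve_left h2
  have hzh : ∀ a : Fˣ, ρ (h a) z = z := by
    intro b
    have h3 : ρ (h b) (ρ w m) = ι ((b⁻¹ : Fˣ) : F) ^ (3 * p ^ i + p ^ ((i + 1) % a)) • ρ w (m : V) := by
      rw [apply_mul, h_w, ← apply_mul, hmE.2, map_smul]
    rw [hz, ← D.eqv, hmE.2, h3, map_smul, map_smul, LinearMap.smul_apply, smul_smul, ← mul_pow, ← map_mul, Units.inv_mul,
      map_one, one_pow, one_smul]
  -- `z = 0`
  have hz0 : z = 0 := by
    obtain ⟨v, hv⟩ := IsV.basS ι p (by omega) hNV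
    have hv2 : ∀ s ≤ 4, P z (v s) ≠ 0 → s = 2 := by
      intro s hs hne
      have h3 : ∀ a : Fˣ, ι (a : F) ^ (2 * s * p ^ i) = ι (a : F) ^ (4 * p ^ i) := by
        intro b
        have hb0 : ι (b : F) ≠ 0 := (map_ne_zero ι).2 b.ne_zero
        have h4 := S.dul.inv (h b) z (v s)
        have h5 : ρ (h b) (v s : V) = ((ι b ^ p ^ i) ^ s * ((ι b ^ p ^ i)⁻¹) ^ (4 - s)) • (v s : V) :=
          congrArg Subtype.val (hv.h s hs b)
        rw [hzh, h5, map_smul, smul_eq_mul] at h4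
        have h6 : (ι (b : F) ^ p ^ i) ^ s * ((ι b ^ p ^ i)⁻¹) ^ (4 - s) = 1 := mul_right_cancel₀ hne (by rw [h4, one_mul])
        have h7 : (ι (b : F) ^ p ^ i) ≠ 0 := pow_ne_zero _ hb0
        have h8 : (ι (b : F) ^ p ^ i) ^ s = (ι (b : F) ^ p ^ i) ^ (4 - s) := by
          rw [inv_pow, mul_inv_eq_one₀ (pow_ne_zero _ h7)] at h6
          exact h6
        calc ι (b : F) ^ (2 * s * p ^ i) = (ι (b : F) ^ p ^ i) ^ s * (ι (b : F) ^ p ^ i) ^ s := by ring
          _ = (ι (b : F) ^ p ^ i) ^ (4 - s) * (ι (b : F) ^ p ^ i) ^ s := by rw [h8]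
          _ = (ι (b : F) ^ p ^ i) ^ 4 := by rw [← pow_add, Nat.sub_add_cancel hs]
          _ = ι (b : F) ^ (4 * p ^ i) := by ring
      have h4 := mod_of_pow ι h3
      rw [hF] at h4
      subst hp5
      exact arith5' ha hs h4
    obtain ⟨c, hsum, hcs⟩ := basS_wt hv (y := ⟨z, hzN⟩) (e := 0) (fun b => Subtype.ext (by
      show ρ (h b) z = ι b ^ 0 • z
      rw [hzh, pow_zero, one_smul]))
    have hcs2 : ∀ s, c s ≠ 0 → (s : ℕ) = 2 := by
      intro s hs
      have h3 := hcs s hs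
      rw [hF, add_zero] at h3
      subst hp5
      exact arith5' ha (by omega) h3
    have hzc : z = c 2 • (v 2 : V) := by
      have h3 : (⟨z, hzN⟩ : N) = c 2 • v 2 := by
        rw [hsum]
        refine Finset.sum_eq_single (2 : Fin (4 + 1)) (fun s _ hs => ?_) (fun h => absurd (Finset.mem_univ _) h)
        by_contra h0
        exact hs (Fin.ext (hcs2 s fun h1 => h0 (by rw [h1, zero_smul])))
      exact congrArg Subtype.val h3
    by_contra hne
    have hc2 : c 2 ≠ 0 := fun h => hne (by rw [hzc, h, zero_smul])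
    have h22 : P z (v 2 : V) = 0 := by
      have h3 : P (c 2 • (v 2 : V)) z = 0 := by
        rw [← hzc]
        exact hzz
      rw [map_smul, LinearMap.smul_apply, smul_eq_mul, S.symm] at h3
      exact (mul_eq_zero.1 h3).resolve_left hc2
    refine hne (hnd.eq_zero hzN fun y hy => ?_)
    rw [S.symm]
    obtain ⟨d, hd⟩ := (Submodule.mem_span_range_iff_exists_fun k).1 (hv.sp (show (⟨y, hy⟩ : N) ∈ ⊤ from trivial))
    have h3 : y = ∑ s : Fin (4 + 1), d s • (v s : V) := by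
      have h4 : ((∑ s : Fin (4 + 1), d s • v s : N) : V) = y := congrArg Subtype.val hd
      rw [← h4]
      simp only [_root_.Nat.reduceAdd, _root_.AddSubmonoidClass.coe_finsetSum, _root_.SetLike.val_smul]
    rw [h3, map_sum]
    refine Finset.sum_eq_zero fun s _ => ?_
    rw [map_smul]
    by_cases hs2 : (s : ℕ) = 2
    · rw [hs2, h22, smul_zero]
    · have h4 : P z (v s : V) = 0 := by
        by_contra h5
        exact hs2 (hv2 s (by omega) h5)
      rw [h4, smul_zero]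
  exact D.white_hw hXV.irr m.2 (fun h => hm0 (Subtype.ext h)) hmE hmm (by rw [← hz, hz0])

end Cfsg.Agent.R2.F4T
end

-- part: R2/F4T/Seven
section
/-!
# `q = 7` (helper6, S5931)

* `exists_quot_soc`, `six_mem` : the Steinberg module is in the socle;
* `dim7`, `reduce7`;
* `no_I` : the pattern `[]²[2]³[4]³`; `J_str` : the pattern `[],[2],[4]³,[6]`.
-/

set_option autoImplicit false
set_option linter.unusedSectionVars false

namespace Cfsg.Agent.R2.F4T

open Matrix Cfsg.Agent.H943.SL2Rel Cfsg.Agent.H943.SL2Mod Cfsg.Agent.H943.RepAdd Cfsg.Agent.R2.H28.SL2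
open Cfsg.Agent.R2.SL2 (typ tyl coe_tyl typ_step typ_zero tyl_eq_nil mem_typ listF4)
open Cfsg.Agent.R2.H22.Q7 (Ew mem_Ew Uf mem_Uf six_soc four_soc finrank_le_uf finrank_uf_le card_Bf_small)

universe u v w

section general

variable {k : Type u} [Field k] [DecidableEq k] {F : Type w} [Field F] [Fintype F] [DecidableEq F] (ι : F →+* k)
variable (p : ℕ) [Fact p.Prime] [CharP k p] [CharP F p] [IsAlgClosed k]

theorem exists_quot_soc' {b : ℕ} (n : ℕ) : ∀ {V : Type v} [AddCommGroup V] [Module k V] [FiniteDimensional k V]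
    {ρ : Representation k (_root_.Matrix.SpecialLinearGroup (Fin 2) F) V} {s : Multiset ℕ}, JHn (Sy.{u, v, w} ι p) n ρ s → b ∈ s →
    ∃ (W : Submodule k V) (hW : ∀ g, ∀ x ∈ W, ρ g x ∈ W), InSoc ι p (quotRep ρ W hW) b := by
  induction n with
  | zero =>
    intro V _ _ _ ρ s hs hb
    rw [hs.2] at hb
    exact absurd hb (Multiset.notMem_zero b)
  | succ n ih =>
    intro V _ _ _ ρ s hs hb
    obtain ⟨W₀, hW₀, c, t, hc, rfl, ht⟩ := hs
    rcases Multiset.mem_cons.1 hb with rfl | hbt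
    · have hbot : ∀ g, ∀ x ∈ (⊥ : Submodule k V), ρ g x ∈ (⊥ : Submodule k V) := fun g x hx => by
        rw [Submodule.mem_bot] at hx ⊢
        rw [hx, map_zero]
      have h1 : InSoc ι p ρ b := ⟨W₀, hW₀, hc⟩
      exact ⟨⊥, hbot, h1.iso ι p (⊥ : Submodule k V).mkQ (fun g x => rfl) (by
        rw [← LinearMap.ker_eq_bot, Submodule.ker_mkQ])⟩
    · obtain ⟨W₁, hW₁, h1⟩ := ih (ρ := quotRep ρ W₀ hW₀) ht hbt
      have hW : ∀ g, ∀ x ∈ W₁.comap W₀.mkQ, ρ g x ∈ W₁.comap W₀.mkQ := fun g x hx => by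
        show W₀.mkQ (ρ g x) ∈ W₁
        rw [← quotRep_mk ρ W₀ hW₀]
        exact hW₁ g _ hx
      obtain ⟨e, he, -⟩ := quot_iso ρ (quotRep (quotRep ρ W₀ hW₀) W₁ hW₁) (W₁.mkQ ∘ₗ W₀.mkQ) (fun g x => rfl)
        (W₁.mkQ_surjective.comp W₀.mkQ_surjective) (W₁.comap W₀.mkQ) hW (fun x => by
          rw [LinearMap.comp_apply, Submodule.mkQ_apply, Submodule.Quotient.mk_eq_zero]
          exact Iff.rfl)
      exact ⟨_, hW, h1.iso ι p (e.symm : _ →ₗ[k] _) (fun g x => e.injective (by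
        show e (e.symm _) = e _
        rw [e.apply_symm_apply, he]
        show _ = quotRep (quotRep ρ W₀ hW₀) W₁ hW₁ g (e (e.symm x))
        rw [e.apply_symm_apply])) e.symm.injective⟩

theorem exists_quot_soc {V : Type v} [AddCommGroup V] [Module k V] [FiniteDimensional k V]
    {ρ : Representation k (_root_.Matrix.SpecialLinearGroup (Fin 2) F) V} {b : ℕ} (hb : b ∈ cf (Sy.{u, v, w} ι p) ρ) :
    ∃ (W : Submodule k V) (hW : ∀ g, ∀ x ∈ W, ρ g x ∈ W), InSoc ι p (quotRep ρ W hW) b := by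
  obtain ⟨n, hn⟩ := cf_spec (Sy.{u, v, w} ι p) ρ
  exact exists_quot_soc' ι p n hn hb

end general

variable {k : Type u} [Field k] [DecidableEq k] [IsAlgClosed k] {F : Type w} [Field F] [Fintype F] [DecidableEq F]
  {ι : F →+* k} [Fact (Nat.Prime 7)] [CharP k 7] [CharP F 7] (hF : Fintype.card F = 7)

variable {V : Type v} [AddCommGroup V] [Module k V] [FiniteDimensional k V]
  {ρ : Representation k (_root_.Matrix.SpecialLinearGroup (Fin 2) F) V} {P : V →ₗ[k] V →ₗ[k] k}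

include hF in
/-- **the Steinberg module is in the socle** -/
theorem six_mem (fix : ∀ x, (∀ g, ρ g x = x) → x = 0) (h6 : 6 ∈ cf (Sy.{u, v, w} ι 7) ρ) : InSoc ι 7 ρ 6 := by
  obtain ⟨W, hW, Z, hZ, hZ6⟩ := exists_quot_soc ι 7 h6
  obtain ⟨m, hm0, hmu, hmh, hmS, -⟩ := IsV.hw ι 7 hZ6
  have hmh' : ∀ a : Fˣ, quotRep ρ W hW (h a) (m : V ⧸ W) = ι (a : F) ^ 6 • (m : V ⧸ W) := fun a => congrArg Subtype.val (hmh a)
  obtain ⟨x, hx⟩ := W.mkQ_surjective (quotRep ρ W hW Cfsg.Agent.H943.SL2Rel.w (m : V ⧸ W))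
  have hmem : ∀ z : V, W.mkQ z = 0 → z ∈ W := fun z hz => (Submodule.Quotient.mk_eq_zero _).1 hz
  have hpow : ∀ a : Fˣ, ι (a : F) ^ 6 = 1 := by
    intro a
    have h3 := powQ ι (F := F) a.ne_zero
    rwa [hF] at h3
  obtain ⟨x₀, hx₀, hx₀h⟩ := exists_tavg ι 7 ρ W (c := 0) (x := x) (fun a => by
    refine hmem _ ?_
    rw [map_sub, ← quotRep_mk ρ _ hW, pow_zero, one_smul, hx, apply_mul, h_w, map_mul, Module.End.mul_apply, hmh',
      hpow, one_smul, sub_self])
  have hy : ∑ t : F, ρ (u t) x₀ ∈ Ew ι ρ 0 := by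
    refine ⟨fun s => ?_, fun a => ?_⟩
    · rw [map_sum]
      refine Fintype.sum_equiv (Equiv.addLeft s) _ _ fun t => ?_
      rw [apply_mul, ← u_add]
      rfl
    · rw [map_sum, pow_zero, one_smul]
      have ha : (a : F) ^ 2 ≠ 0 := pow_ne_zero _ a.ne_zero
      refine Fintype.sum_equiv (Equiv.mulLeft₀ ((a : F) ^ 2) ha) _ _ fun t => ?_
      rw [apply_mul, h_u, map_mul, Module.End.mul_apply, hx₀h, pow_zero, one_smul]
      rfl
  have hy0 : ∑ t : F, ρ (u t) x₀ ≠ 0 := by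
    intro h0
    have h3 : W.mkQ x₀ = quotRep ρ W hW Cfsg.Agent.H943.SL2Rel.w (m : V ⧸ W) := by
      rw [← hx, ← sub_eq_zero, ← map_sub]
      exact (Submodule.Quotient.mk_eq_zero _).2 hx₀
    have h4 : SS (quotRep ρ W hW) (m : V ⧸ W) = 0 := by
      rw [SS_apply, ← h3]
      have h5 : ∀ t : F, quotRep ρ W hW (u t) (W.mkQ x₀) = W.mkQ (ρ (u t) x₀) := fun t => rfl
      rw [Finset.sum_congr rfl fun t _ => h5 t, ← map_sum, h0, map_zero]
    have h5 : SS (subRep (quotRep ρ W hW) Z hZ) m = 0 := by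
      apply Subtype.ext
      rw [SS_apply] at h4 ⊢
      refine Eq.trans ?_ h4
      simp only [Submodule.coe_sum]
      rfl
    rw [hmS] at h5
    unfold cb at h5
    rw [if_neg (by omega), neg_one_smul, neg_eq_zero] at h5
    exact hm0 h5
  obtain ⟨X, hX, hb, -⟩ := six_soc ι hF fix hy hy0
  exact ⟨X, hX, hb⟩

include hF in
theorem e2_le (h2 : ¬ InSoc ι 7 ρ 2) : Module.finrank k (Ew ι ρ 2) ≤ Module.finrank k (Ew ι ρ 4) := by
  let f : Ew ι ρ 2 →ₗ[k] Ew ι ρ 4 := LinearMap.codRestrict _ (SS ρ ∘ₗ (Ew ι ρ 2).subtype)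
    (fun x => SS_mem_Ew ι (by rw [hF]) x.2)
  refine LinearMap.finrank_le_finrank_of_injective (f := f) ?_
  rw [← LinearMap.ker_eq_bot, LinearMap.ker_eq_bot']
  intro x hx
  by_contra hx0
  obtain ⟨X, hX, hV, -⟩ := gen_one ι 7 hF (c := 2) (by norm_num) (by norm_num) x.2 (congrArg Subtype.val hx)
    (fun h => hx0 (Subtype.ext h))
  exact h2 ⟨X, hX, hV⟩

include hF in
/-- **the dimension** -/
theorem dim7 (fix : ∀ x, (∀ g, ρ g x = x) → x = 0) (hev : ∀ b ∈ cf (Sy.{u, v, w} ι 7) ρ, b % 2 = 0)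
    (h6 : 6 ∉ cf (Sy.{u, v, w} ι 7) ρ) (h2 : ¬ InSoc ι 7 ρ 2) : Module.finrank k V ≤ 14 * Module.finrank k (Ew ι ρ 4) := by
  have h3 := finrank_le_uf hF (ρ := ρ)
  have h4 := finrank_uf_le ι hF hev
  have h5 := e2_le hF h2
  have h0 : Ew ι ρ 0 = ⊥ := by
    rw [eq_bot_iff]
    intro x hx
    by_contra hx0
    obtain ⟨X, hX, hb, -⟩ := six_soc ι hF fix hx (fun h => hx0 ((Submodule.mem_bot k).2 h))
    exact h6 (show InSoc ι 7 ρ 6 from ⟨X, hX, hb⟩).mem_cf
  rw [h0, finrank_bot] at h4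
  omega

/-- the irreducible submodules of weight 4 -/
theorem four_soc' (h6 : ¬ InSoc ι 7 ρ 2) (hF : Fintype.card F = 7) {x : V} (hx : x ∈ Ew ι ρ 4) (hx0 : x ≠ 0) :
    ∃ (X : Submodule k V) (hX : ∀ g, ∀ y ∈ X, ρ g y ∈ X), IsV ι 7 (subRep ρ X hX) 4 ∧ x ∈ X :=
  hw_soc ι 7 hF (c := 4) (by norm_num) (by norm_num) h6 hx hx0

/-- the dimension from the factors -/
theorem dim_cf7 {s : Multiset ℕ} (hs : ∀ b ∈ s, b < 7) (hcf : cf (Sy.{u, v, w} ι 7) ρ = s) :
    Module.finrank k V = (s.map fun b => b + 1).sum := by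
  rw [finrank_cf ι 7 _ V ρ le_rfl, hcf]
  congr 1
  exact Multiset.map_congr rfl fun b hb => card_Bf_small (hs b hb)

/-- no socle -/
theorem no_soc (hd : 0 < Module.finrank k V) (hsoc : ∀ b, InSoc ι 7 ρ b → b = 4) (h4 : 4 ∉ cf (Sy.{u, v, w} ι 7) ρ) : False := by
  have hnt : Nontrivial V := Module.nontrivial_of_finrank_pos hd
  obtain ⟨c, hc⟩ := exists_inSoc ι 7 ρ
  obtain rfl := hsoc c hc
  exact h4 hc.mem_cf

theorem soc_sub (hsoc : ∀ b, InSoc ι 7 ρ b → b = 4) {Z : Submodule k V} (hZ : ∀ g, ∀ x ∈ Z, ρ g x ∈ Z) :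
    ∀ b, InSoc ι 7 (subRep ρ Z hZ) b → b = 4 := fun b hb =>
  hsoc b (hb.iso ι 7 Z.subtype (fun _ _ => rfl) Z.injective_subtype)

include hF in
/-- a nondegenerate submodule -/
theorem reduce7 (S : SD ρ P) (fix : ∀ x, (∀ g, ρ g x = x) → x = 0) (hev : ∀ b ∈ cf (Sy.{u, v, w} ι 7) ρ, b % 2 = 0)
    (h6 : 6 ∉ cf (Sy.{u, v, w} ι 7) ρ) (hsoc : ∀ b, InSoc ι 7 ρ b → b = 4)
    (hd : 14 < Module.finrank k V) (hc : (cf (Sy.{u, v, w} ι 7) ρ).count 4 ≤ 3) :
    ∃ (Z : Submodule k V) (hZ : ∀ g, ∀ x ∈ Z, ρ g x ∈ Z), Nd P Z ∧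
      (IsV ι 7 (subRep ρ Z hZ) 4 ∨ cf (Sy.{u, v, w} ι 7) (subRep ρ Z hZ) = {4, 4}) := by
  have h2 : ¬ InSoc ι 7 ρ 2 := fun h => by
    have := hsoc _ h
    omega
  have h1 := dim7 hF fix hev h6 h2
  obtain ⟨X, Y, hX, hY, hXb, hYb, hXY⟩ := Cfsg.Agent.R2.H22.Q7.exists_two ι (b := 4) (e := 4) (fun x hx hx0 => four_soc' h2 hF hx hx0)
    (by omega)
  rcases S.nd_or_iso hXb with h3 | h3
  · exact ⟨X, hX, h3, Or.inl hXb⟩
  rcases S.nd_or_iso hYb with h4 | h4
  · exact ⟨Y, hY, h4, Or.inl hYb⟩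
  rcases S.two_iso hXb hYb h3 h4 hXY with h5 | ⟨h5, h6⟩
  · omega
  · exact ⟨X ⊔ Y, stab_sup hX hY, h5, Or.inr h6⟩

/-- the factors of the complement of `V_4` -/
theorem compl_cf (S : SD ρ P) {Z : Submodule k V} {hZ : ∀ g, ∀ x ∈ Z, ρ g x ∈ Z} (hnd : Nd P Z) {s t : Multiset ℕ}
    (hs : cf (Sy.{u, v, w} ι 7) (subRep ρ Z hZ) = s) (hcf : cf (Sy.{u, v, w} ι 7) ρ = s + t) :
    cf (Sy.{u, v, w} ι 7) (subRep ρ (orth P Z) (S.orth_inv hZ)) = t := by
  have h1 := S.cf_eq (ι := ι) (p := 7) hZ hnd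
  rw [hcf, hs] at h1
  exact (add_left_cancel h1).symm

include hF in
/-- **the pattern `[]²[2]³[4]^m`** -/
theorem no_I' (n m : ℕ) : m ≤ n → m ≤ 3 → ∀ {V : Type v} [AddCommGroup V] [Module k V] [FiniteDimensional k V]
    {ρ : Representation k (_root_.Matrix.SpecialLinearGroup (Fin 2) F) V} {P : V →ₗ[k] V →ₗ[k] k} (_ : SD ρ P)
    (_ : ∀ x, (∀ g, ρ g x = x) → x = 0) (_ : ∀ b, InSoc ι 7 ρ b → b = 4)
    (_ : cf (Sy.{u, v, w} ι 7) ρ = {0, 0, 2, 2, 2} + Multiset.replicate m 4), False := by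
  induction n generalizing m with
  | zero =>
    intro hmn _ V _ _ _ ρ P S fix hsoc hcf
    obtain rfl : m = 0 := by omega
    have hd := dim_cf7 (s := {0, 0, 2, 2, 2}) (by decide) (by rw [hcf]; rfl)
    exact no_soc (by rw [hd]; decide) hsoc (by rw [hcf]; decide)
  | succ n ih =>
    intro hmn hm3 V _ _ _ ρ P S fix hsoc hcf
    rcases Nat.eq_zero_or_pos m with rfl | hm
    · have hd := dim_cf7 (s := {0, 0, 2, 2, 2}) (by decide) (by rw [hcf]; rfl)
      exact no_soc (by rw [hd]; decide) hsoc (by rw [hcf]; decide)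
    have hd := dim_cf7 (s := {0, 0, 2, 2, 2} + Multiset.replicate m 4) (by
      intro b hb
      rw [Multiset.mem_add, Multiset.mem_replicate] at hb
      rcases hb with hb | hb
      · revert b hb
        decide
      · omega) hcf
    have hd2 : Module.finrank k V = 11 + 5 * m := by
      rw [hd, Multiset.map_add, Multiset.sum_add, Multiset.map_replicate, Multiset.sum_replicate, smul_eq_mul]
      have : (Multiset.map (fun b => b + 1) ({0, 0, 2, 2, 2} : Multiset ℕ)).sum = 11 := by decide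
      omega
    have hmem : ∀ b ∈ cf (Sy.{u, v, w} ι 7) ρ, b = 0 ∨ b = 2 ∨ b = 4 := by
      intro b hb
      rw [hcf, Multiset.mem_add, Multiset.mem_replicate] at hb
      simp only [Multiset.insert_eq_cons, Multiset.mem_cons, Multiset.mem_singleton] at hb
      (clear * - hb; tauto)
    obtain ⟨Z, hZ, hnd, hZ4⟩ := reduce7 hF S fix (fun b hb => by rcases hmem b hb with rfl | rfl | rfl <;> rfl)
      (fun h => by have := hmem _ h; omega) hsoc (by omega) (by
        rw [hcf, Multiset.count_add, Multiset.count_replicate_self]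
        have : Multiset.count 4 ({0, 0, 2, 2, 2} : Multiset ℕ) = 0 := by decide
        omega)
    have hS := S.restrict (S.orth_inv hZ) (S.nd_orth hnd)
    have hfix : ∀ x, (∀ g, subRep ρ (orth P Z) (S.orth_inv hZ) g x = x) → x = 0 := fun x hx =>
      Subtype.ext (fix x fun g => congrArg Subtype.val (hx g))
    rcases hZ4 with h4 | h4
    · obtain ⟨m', rfl⟩ : ∃ m', m = m' + 1 := ⟨m - 1, by omega⟩
      refine ih m' (by omega) (by omega) hS hfix (soc_sub hsoc _) (compl_cf S hnd (cf_irr (Sy.{u, v, w} ι 7) h4) ?_)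
      rw [hcf, Multiset.replicate_succ, ← Multiset.singleton_add]
      abel
    · have hm2 : 2 ≤ m := by
        have h5 := Multiset.count_le_of_le 4 (cf_sub_le (Sy.{u, v, w} ι 7) ρ Z hZ)
        rw [h4, hcf, Multiset.count_add, Multiset.count_replicate_self] at h5
        have h6 : Multiset.count 4 ({0, 0, 2, 2, 2} : Multiset ℕ) = 0 := by decide
        have h7 : Multiset.count 4 ({4, 4} : Multiset ℕ) = 2 := by decide
        omega
      obtain ⟨m', rfl⟩ : ∃ m', m = m' + 2 := ⟨m - 2, by omega⟩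
      refine ih m' (by omega) (by omega) hS hfix (soc_sub hsoc _) (compl_cf S hnd h4 ?_)
      rw [hcf, Multiset.replicate_add, add_comm (Multiset.replicate m' 4), ← add_assoc, ← add_assoc,
        add_comm ({4, 4} : Multiset ℕ)]
      rfl

/-- `0, 2, 4` -/
theorem no_024 (S : SD ρ P) (hsoc : ∀ b, InSoc ι 7 ρ b → b = 4) (hcf : cf (Sy.{u, v, w} ι 7) ρ = {0, 2, 4}) : False := by
  have hd := dim_cf7 (s := {0, 2, 4}) (by decide) hcf
  have hd2 : (Multiset.map (fun b => b + 1) ({0, 2, 4} : Multiset ℕ)).sum = 9 := by decide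
  have hnt : Nontrivial V := Module.nontrivial_of_finrank_pos (R := k) (by omega)
  obtain ⟨c, X, hX, hXb⟩ := exists_inSoc ι 7 ρ
  obtain rfl := hsoc c ⟨X, hX, hXb⟩
  have hnd := S.nd_of_count hXb (by rw [hcf]; decide)
  have h1 := compl_cf S hnd (cf_irr (Sy.{u, v, w} ι 7) hXb) (t := {0, 2}) (by rw [hcf]; decide)
  have hd3 := dim_cf7 (s := {0, 2}) (by decide) h1
  exact no_soc (by rw [hd3]; decide) (soc_sub hsoc _) (by rw [h1]; decide)

/-- `0, 2, 4, 4` : the socle is simple and isotropic -/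
theorem uniq_0244 (S : SD ρ P) (hsoc : ∀ b, InSoc ι 7 ρ b → b = 4) (hcf : cf (Sy.{u, v, w} ι 7) ρ = {0, 2, 4, 4}) :
    ∃ (X : Submodule k V) (hX : ∀ g, ∀ x ∈ X, ρ g x ∈ X), IsV ι 7 (subRep ρ X hX) 4 ∧ Iso P X ∧
      ∀ (Y : Submodule k V) (hY : ∀ g, ∀ x ∈ Y, ρ g x ∈ Y), Irrd (subRep ρ Y hY) → Y = X := by
  have hd := dim_cf7 (s := {0, 2, 4, 4}) (by decide) hcf
  have hd2 : (Multiset.map (fun b => b + 1) ({0, 2, 4, 4} : Multiset ℕ)).sum = 14 := by decide
  have hnt : Nontrivial V := Module.nontrivial_of_finrank_pos (R := k) (by omega)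
  obtain ⟨c, X, hX, hXb⟩ := exists_inSoc ι 7 ρ
  obtain rfl := hsoc c ⟨X, hX, hXb⟩
  have hiso : ∀ (X : Submodule k V) (hX : ∀ g, ∀ x ∈ X, ρ g x ∈ X), IsV ι 7 (subRep ρ X hX) 4 → Iso P X := by
    intro X hX hXb
    rcases S.nd_or_iso hXb with h | h
    · exfalso
      have h1 := compl_cf S h (cf_irr (Sy.{u, v, w} ι 7) hXb) (t := {0, 2, 4}) (by rw [hcf]; decide)
      exact no_024 (S.restrict (S.orth_inv hX) (S.nd_orth h)) (soc_sub hsoc _) h1
    · exact h
  refine ⟨X, hX, hXb, hiso X hX hXb, fun Y hY hYi => ?_⟩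
  obtain ⟨d, hd'⟩ := (Sy.{u, v, w} ι 7).ex (subRep ρ Y hY) hYi
  obtain rfl := hsoc d ⟨Y, hY, hd'⟩
  rcases IsV.inf_or_le ι 7 hXb hY with h | h
  · exfalso
    rcases S.two_iso hXb hd' (hiso X hX hXb) (hiso Y hY hd') h with h5 | ⟨h5, h6⟩
    · rw [hcf] at h5
      revert h5
      decide
    · have h1 := compl_cf S h5 h6 (t := {0, 2}) (by rw [hcf]; decide)
      have hd3 := dim_cf7 (s := {0, 2}) (by decide) h1
      exact no_soc (by rw [hd3]; decide) (soc_sub hsoc _) (by rw [h1]; decide)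
  · have h1 := IsV.finrank ι hXb
    have h2 := IsV.finrank ι (show IsV ι 7 (subRep ρ Y hY) 4 from hd')
    exact (Submodule.eq_of_le_of_finrank_eq h (by omega)).symm

include hF in
/-- **the pattern `[],[2],[4]³,[6]`** -/
theorem J_str (S : SD ρ P) (fix : ∀ x, (∀ g, ρ g x = x) → x = 0) (h2 : ¬ InSoc ι 7 ρ 2)
    (hcf : cf (Sy.{u, v, w} ι 7) ρ = {0, 2, 4, 4, 4, 6}) :
    ∃ (X Z Y : Submodule k V) (hX : ∀ g, ∀ x ∈ X, ρ g x ∈ X) (hZ : ∀ g, ∀ x ∈ Z, ρ g x ∈ Z)
      (hY : ∀ g, ∀ x ∈ Y, ρ g x ∈ Y), IsV ι 7 (subRep ρ X hX) 6 ∧ IsV ι 7 (subRep ρ Z hZ) 4 ∧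
      cf (Sy.{u, v, w} ι 7) (subRep ρ Y hY) = {0, 2, 4, 4} ∧ X ⊔ Z ⊔ Y = ⊤ ∧ Nd P X ∧ Nd P Z ∧ Nd P Y ∧
      (∀ x ∈ X, ∀ y ∈ Z, P x y = 0) ∧ (∀ x ∈ X, ∀ y ∈ Y, P x y = 0) ∧ (∀ x ∈ Z, ∀ y ∈ Y, P x y = 0) ∧
      ∃ (N : Submodule k V) (hN : ∀ g, ∀ x ∈ N, ρ g x ∈ N), N ≤ Y ∧ IsV ι 7 (subRep ρ N hN) 4 ∧ Iso P N ∧
        ∀ (M : Submodule k V) (hM : ∀ g, ∀ x ∈ M, ρ g x ∈ M), M ≤ Y → Irrd (subRep ρ M hM) → M = N := by
  have hsoc : ∀ b, InSoc ι 7 ρ b → b = 4 ∨ b = 6 := by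
    intro b hb
    have h1 := hb.mem_cf
    rw [hcf] at h1
    simp only [Multiset.insert_eq_cons, Multiset.mem_cons, Multiset.mem_singleton] at h1
    have h0 : b ≠ 0 := by
      rintro rfl
      obtain ⟨X, hX, hq, φ, hφ⟩ := hb
      have hnt : Nontrivial X := (show IsV ι 7 (subRep ρ X hX) 0 from ⟨hq, φ, hφ⟩).irr.1
      obtain ⟨x, hx⟩ := exists_ne (0 : X)
      apply hx
      apply Subtype.ext
      refine fix _ fun g => ?_
      have h1 := hφ g (φ.symm x)
      rw [rb_zero ι 7 rfl, φ.apply_symm_apply] at h1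
      exact (congrArg Subtype.val h1).symm
    have h2' : b ≠ 2 := by
      rintro rfl
      exact h2 hb
    (clear * - h1 h0 h2'; tauto)
  obtain ⟨X, hX, hXb⟩ := six_mem hF fix (by rw [hcf]; decide)
  have hXn := S.nd_of_count hXb (by rw [hcf]; decide)
  have c1 := compl_cf S hXn (cf_irr (Sy.{u, v, w} ι 7) hXb) (t := {0, 2, 4, 4, 4}) (by rw [hcf]; decide)
  have hO := S.orth_inv hX
  have hS1 := S.restrict hO (S.nd_orth hXn)
  have hfix1 : ∀ x, (∀ g, subRep ρ (orth P X) hO g x = x) → x = 0 := fun x hx =>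
    Subtype.ext (fix x fun g => congrArg Subtype.val (hx g))
  have hsoc1 : ∀ b, InSoc ι 7 (subRep ρ (orth P X) hO) b → b = 4 := by
    intro b hb
    rcases hsoc b (hb.iso ι 7 (orth P X).subtype (fun _ _ => rfl) (orth P X).injective_subtype) with h | h
    · exact h
    · exfalso
      have h1 := hb.mem_cf
      rw [c1, h] at h1
      revert h1
      decide
  have hd := dim_cf7 (s := {0, 2, 4, 4, 4}) (by decide) c1
  have hd2 : (Multiset.map (fun b => b + 1) ({0, 2, 4, 4, 4} : Multiset ℕ)).sum = 19 := by decide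
  obtain ⟨Z, hZ, hZn, hZ4⟩ := reduce7 hF hS1 hfix1 (by rw [c1]; decide) (by rw [c1]; decide) hsoc1 (by omega)
    (by rw [c1]; decide)
  have hZb : IsV ι 7 (subRep (subRep ρ (orth P X) hO) Z hZ) 4 := by
    rcases hZ4 with h | h
    · exact h
    · exfalso
      have c2 := compl_cf hS1 hZn h (t := {0, 2, 4}) (by rw [c1]; decide)
      exact no_024 (hS1.restrict (hS1.orth_inv hZ) (hS1.nd_orth hZn)) (soc_sub hsoc1 _) c2
  have c2 := compl_cf hS1 hZn (cf_irr (Sy.{u, v, w} ι 7) hZb) (t := {0, 2, 4, 4}) (by rw [c1]; decide)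
  obtain ⟨Z', Y, hZ', hY, ⟨e1, he1⟩, e2, h1, h3, h4, h5, h6, h7, -, hYd⟩ := S.flat hX hXn hZ hZn
  have cY : cf (Sy.{u, v, w} ι 7) (subRep ρ Y hY) = {0, 2, 4, 4} := by
    rw [← c2]
    exact (cf_iso (Sy.{u, v, w} ι 7) e2).symm
  have hYX : Y ≤ orth P X := by
    rw [hYd]
    rintro _ ⟨y, -, rfl⟩
    exact y.2
  have hsocY : ∀ b, InSoc ι 7 (subRep ρ Y hY) b → b = 4 := by
    intro b hb
    rcases hsoc b (hb.iso ι 7 Y.subtype (fun _ _ => rfl) Y.injective_subtype) with h | h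
    · exact h
    · exfalso
      have h1 := hb.mem_cf
      rw [cY, h] at h1
      revert h1
      decide
  obtain ⟨N, hN, hNb, hNi, hNu⟩ := uniq_0244 (S.restrict hY h4) hsocY cY
  obtain ⟨hN', hNb'⟩ := isV_map' hNb
  refine ⟨X, Z', Y, hX, hZ', hY, hXb, IsV.iso ι 7 e1 he1 hZb, cY, h1, hXn, h3, h4, h5, h6, h7, N.map Y.subtype, hN',
    Submodule.map_subtype_le _ _, hNb', ?_, fun M hM hMY hMi => ?_⟩
  · rintro _ ⟨x, hx, rfl⟩ _ ⟨y, hy, rfl⟩
    exact hNi x hx y hy
  · obtain ⟨d, hd⟩ := (Sy.{u, v, w} ι 7).ex (subRep ρ M hM) hMi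
    have h8 := hNu _ (stab_comap hM hY) (isV_comap hMY (hZ := hY) (show IsV ι 7 (subRep ρ M hM) d from hd)).irr
    rw [← h8, Submodule.map_comap_subtype, inf_eq_right.2 hMY]

/-- the only pattern without trivial factors -/
theorem key71 : ∀ W ∈ listF4, [] ∉ W → (∀ t ∈ W, t.length ≤ 1) → (∀ t ∈ W, ∀ e ∈ t, e < 7) →
    ((∀ t ∈ W, (decide (t ≠ [2])) = true → (W : Multiset (List ℕ)).count t ≤ 1) ∧
      ¬ ∀ t ∈ W, (decide (t ≠ [2])) = true) := by
  decide +kernel

/-- **`q = 7`, no trivial factors: impossible** -/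
theorem no_71 (S : SD ρ P) (h2 : ¬ InSoc ι 7 ρ 2) (hF : Fintype.card F = 7) {W : List (List ℕ)} (hWm : W ∈ listF4)
    (h0 : [] ∉ W) (hw : (W : Multiset (List ℕ)) = (cf (Sy.{u, v, w} ι 7) ρ).map (tyl 7)) : False := by
  have hF1 : Fintype.card F = 7 ^ 1 := by rw [hF, pow_one]
  have hlt : ∀ t ∈ W, ∀ e ∈ t, e < 7 := fun t ht e he => lt_p ι 7 hw ht he
  refine S.kp hw (fun t => decide (t ≠ [2])) (fun c hc => ?_) (key71 W hWm h0 ?_ hlt)
  · rw [decide_eq_true_iff]
    intro h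
    obtain ⟨i, hi, rfl⟩ := tyl_single_inv h (cf_lt ι 7 hF1 ρ c hc.mem_cf) (by norm_num)
    obtain rfl : i = 0 := by omega
    exact h2 hc
  · intro t ht
    have h8 : t ∈ (cf (Sy.{u, v, w} ι 7) ρ).map (tyl 7) := by
      rw [← hw]
      exact ht
    obtain ⟨b, hb, rfl⟩ := Multiset.mem_map.1 h8
    have h9 := cf_lt ι 7 hF1 ρ b hb
    have := Cfsg.Agent.R2.SL2.length_tyl_le h9
    omega

end Cfsg.Agent.R2.F4T
end

-- part: R2/F4T/T8
section
/-!
# The summand `T(8)`, `p = 7` (helper6, S5931)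

* `SD.uniq_T8` : a self-dual module with the factors `b, b, c`, `c` not in the socle, is uniserial;
* `SD.split_nd` : two orthogonal summands;
* `SD.T8_form` : the explicit form of `T(8) + 4 + 6`.
-/

set_option autoImplicit false
set_option linter.unusedSectionVars false

namespace Cfsg.Agent.R2.F4T

open Matrix Cfsg.Agent.H943.SL2Rel Cfsg.Agent.H943.SL2Mod Cfsg.Agent.H943.RepAdd Cfsg.Agent.R2.H28.SL2
open Cfsg.Agent.R2.SL2 (typ tyl coe_tyl typ_step typ_zero tyl_eq_nil mem_typ listF4)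

universe u v w

variable {k : Type u} [Field k] [DecidableEq k] {F : Type w} [Field F] [Fintype F] [DecidableEq F] {ι : F →+* k}
variable {p : ℕ} [Fact p.Prime] [CharP k p] [CharP F p] [IsAlgClosed k] {a : ℕ}
variable {V : Type v} [AddCommGroup V] [Module k V] [FiniteDimensional k V]
  {ρ : Representation k (_root_.Matrix.SpecialLinearGroup (Fin 2) F) V} {P : V →ₗ[k] V →ₗ[k] k}

/-- the factors of the complement -/
theorem SD.cf_orth (S : SD ρ P) {Z : Submodule k V} {hZ : ∀ g, ∀ x ∈ Z, ρ g x ∈ Z} (hnd : Nd P Z) {s t : Multiset ℕ}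
    (hs : cf (Sy.{u, v, w} ι p) (subRep ρ Z hZ) = s) (hcf : cf (Sy.{u, v, w} ι p) ρ = s + t) :
    cf (Sy.{u, v, w} ι p) (subRep ρ (orth P Z) (S.orth_inv hZ)) = t := by
  have h1 := S.cf_eq (ι := ι) (p := p) hZ hnd
  rw [hcf, hs] at h1
  exact (add_left_cancel h1).symm

/-- two orthogonal summands -/
theorem SD.split_nd (S : SD ρ P) {b c : ℕ} (hbc : b ≠ c) (hcf : cf (Sy.{u, v, w} ι p) ρ = {b, c}) :
    ∃ (X : Submodule k V) (hX : ∀ g, ∀ x ∈ X, ρ g x ∈ X) (hO : ∀ g, ∀ x ∈ orth P X, ρ g x ∈ orth P X),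
      IsV ι p (subRep ρ X hX) b ∧ IsV ι p (subRep ρ (orth P X) hO) c ∧ Nd P X := by
  have hnd : ∀ (X : Submodule k V) (hX : ∀ g, ∀ x ∈ X, ρ g x ∈ X) (d : ℕ), IsV ι p (subRep ρ X hX) d → Nd P X := by
    intro X hX d hd
    refine S.nd_of_count hd ?_
    rw [hcf, Multiset.insert_eq_cons, Multiset.count_cons, Multiset.count_singleton]
    split_ifs <;> omega
  obtain ⟨X, hX, hV⟩ := S.all_soc (ι := ι) (p := p) hnd b (by rw [hcf]; simp)
  have hXn := hnd X hX b hV
  have h1 := S.cf_orth hXn (cf_irr (Sy.{u, v, w} ι p) hV) (t := {c}) (by rw [hcf]; rfl)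
  exact ⟨X, hX, S.orth_inv hX, hV, irr_of_cf (S := Sy.{u, v, w} ι p) h1, hXn⟩

/-- **uniserial modules** -/
theorem SD.uniq_T8 (S : SD ρ P) {b c : ℕ} (hbc : b ≠ c) (hcf : cf (Sy.{u, v, w} ι p) ρ = {b, b, c})
    (hc : ¬ InSoc ι p ρ c) :
    ∃ (X : Submodule k V) (hX : ∀ g, ∀ x ∈ X, ρ g x ∈ X), IsV ι p (subRep ρ X hX) b ∧ Iso P X ∧
      ∀ (Z : Submodule k V) (hZ : ∀ g, ∀ x ∈ Z, ρ g x ∈ Z) (d : ℕ), IsV ι p (subRep ρ Z hZ) d → Z = X := by
  have hlab : ∀ (Z : Submodule k V) (hZ : ∀ g, ∀ x ∈ Z, ρ g x ∈ Z) (d : ℕ), IsV ι p (subRep ρ Z hZ) d → d = b := by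
    intro Z hZ d hd
    have h1 := (show InSoc ι p ρ d from ⟨Z, hZ, hd⟩).mem_cf
    rw [hcf] at h1
    simp only [Multiset.insert_eq_cons, Multiset.mem_cons, Multiset.mem_singleton] at h1
    rcases h1 with h1 | h1 | h1
    · exact h1
    · exact h1
    · subst h1
      exact absurd ⟨Z, hZ, hd⟩ hc
  have hiso : ∀ (Z : Submodule k V) (hZ : ∀ g, ∀ x ∈ Z, ρ g x ∈ Z) (d : ℕ), IsV ι p (subRep ρ Z hZ) d → Iso P Z := by
    intro Z hZ d hd
    obtain rfl := hlab Z hZ d hd
    refine (S.nd_or_iso hd).resolve_left fun hn => ?_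
    have h1 := S.cf_orth hn (cf_irr (Sy.{u, v, w} ι p) hd) (t := {d, c}) (by rw [hcf]; rfl)
    obtain ⟨Q, hQ, hQ', _, hV, _⟩ := (S.restrict (S.orth_inv hZ) (S.nd_orth hn)).split_nd hbc h1
    exact hc ((show InSoc ι p (subRep ρ (orth P Z) (S.orth_inv hZ)) c from ⟨_, _, hV⟩).iso ι p (orth P Z).subtype
      (fun _ _ => rfl) (Submodule.injective_subtype _))
  obtain ⟨X, hX, hV⟩ : ∃ (X : Submodule k V) (hX : ∀ g, ∀ x ∈ X, ρ g x ∈ X), IsV ι p (subRep ρ X hX) b := by
    have hnt : Nontrivial V := by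
      by_contra h
      rw [not_nontrivial_iff_subsingleton] at h
      have h1 := cf_zero (Sy.{u, v, w} ι p) ρ
      rw [hcf] at h1
      simp at h1
    obtain ⟨d, X, hX, hd⟩ := exists_inSoc ι p ρ
    obtain rfl := hlab X hX d hd
    exact ⟨X, hX, hd⟩
  refine ⟨X, hX, hV, hiso X hX b hV, fun Z hZ d hd => ?_⟩
  obtain rfl := hlab Z hZ d hd
  rcases IsV.inf_or_le ι p hV hZ with h | h
  · exfalso
    rcases S.two_iso hV hd (hiso X hX _ hV) (hiso Z hZ _ hd) h with h4 | ⟨hn, h2⟩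
    · rw [hcf, Multiset.insert_eq_cons, Multiset.count_cons_self, Multiset.insert_eq_cons, Multiset.count_cons_self,
        Multiset.count_singleton, if_neg hbc] at h4
      omega
    · have h3 := S.cf_orth hn h2 (t := {c}) (by rw [hcf]; rfl)
      have h4 : IsV ι p (subRep ρ (orth P (X ⊔ Z)) _) c := irr_of_cf (S := Sy.{u, v, w} ι p) h3
      exact hc ⟨_, _, h4⟩
  · exact (Submodule.eq_of_le_of_finrank_eq h (by rw [IsV.finrank ι hV, IsV.finrank ι hd])).symm

/-- **the explicit form of `T(8) + 4 + 6`** -/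
theorem SD.T8_form (S : SD ρ P) (hF : Fintype.card F = p ^ a) (hp : p = 7) (hV : Module.finrank k V = 26) {r c : ℕ}
    (htc : tyl p c = [1, 1]) {Y : Submodule k V}
    (hY : ∀ g, ∀ x ∈ Y, ρ g x ∈ Y) (hYn : Nd P Y) (hc : ¬ InSoc ι p ρ c)
    (hYc : cf (Sy.{u, v, w} ι p) (subRep ρ Y hY) = {4 * p ^ r, 4 * p ^ r, c})
    (hOc : cf (Sy.{u, v, w} ι p) (subRep ρ (orth P Y) (S.orth_inv hY)) = {4 * p ^ r, 6 * p ^ r}) :
    ∃ (M T X : Submodule k V) (hM : ∀ g, ∀ x ∈ M, ρ g x ∈ M) (hT : ∀ g, ∀ x ∈ T, ρ g x ∈ T)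
      (hX : ∀ g, ∀ x ∈ X, ρ g x ∈ X), Nd P M ∧ Nd P T ∧ (∀ x ∈ Y, ∀ y ∈ M, P x y = 0) ∧ (∀ x ∈ Y, ∀ y ∈ T, P x y = 0) ∧
      (∀ x ∈ M, ∀ y ∈ T, P x y = 0) ∧ Y ⊔ M ⊔ T = ⊤ ∧ IsV ι p (subRep ρ M hM) (4 * p ^ r) ∧
      IsV ι p (subRep ρ T hT) (6 * p ^ r) ∧ X ≤ Y ∧ IsV ι p (subRep ρ X hX) (4 * p ^ r) ∧ Iso P X ∧
      (∀ (Z : Submodule k V) (hZ : ∀ g, ∀ x ∈ Z, ρ g x ∈ Z) (d : ℕ), IsV ι p (subRep ρ Z hZ) d → Z ≤ Y → Z = X) ∧
      Module.finrank k Y = 14 ∧ (cf (Sy.{u, v, w} ι p) ρ).count (4 * p ^ r) = 3 ∧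
      (cf (Sy.{u, v, w} ι p) ρ).count (6 * p ^ r) = 1 ∧
      ∀ d, d ≠ 4 * p ^ r → (cf (Sy.{u, v, w} ι p) ρ).count d ≤ 1 := by
  have t4 : tyl p (4 * p ^ r) = [4] := tyl_single (by norm_num) (by omega) _
  have t6 : tyl p (6 * p ^ r) = [6] := tyl_single (by norm_num) (by omega) _
  have h46 : 4 * p ^ r ≠ 6 * p ^ r := fun h => by rw [h, t6] at t4; exact absurd t4 (by decide)
  have h4c : 4 * p ^ r ≠ c := fun h => by rw [h, htc] at t4; exact absurd t4 (by decide)
  have h6c : 6 * p ^ r ≠ c := fun h => by rw [h, htc] at t6; exact absurd t6 (by decide)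
  have hcf := S.cf_eq (ι := ι) (p := p) hY hYn
  rw [hYc, hOc] at hcf
  -- the complement
  have hO := S.orth_inv hY
  have hSO := S.restrict hO (S.nd_orth hYn)
  obtain ⟨M₀, hM₀, hO₀, hM₀V, hT₀V, hM₀n⟩ := hSO.split_nd h46 hOc
  obtain ⟨M, T, hM, hT, e1, e2, hsup, hMn, hTn, hYM, hYT, hMT, -, -⟩ := S.flat hY hYn hM₀ hM₀n
  have hMV : IsV ι p (subRep ρ M hM) (4 * p ^ r) := by
    obtain ⟨e, he⟩ := e1
    exact IsV.iso ι p e he hM₀V
  have hTV : IsV ι p (subRep ρ T hT) (6 * p ^ r) := by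
    obtain ⟨e, he⟩ := e2
    exact IsV.iso ι p e he hT₀V
  -- `Y`
  obtain ⟨X₀, hX₀, hX₀V, hX₀i, hu⟩ := (S.restrict hY hYn).uniq_T8 h4c hYc fun h =>
    hc (h.iso ι p Y.subtype (fun _ _ => rfl) (Submodule.injective_subtype _))
  obtain ⟨hX, hXV⟩ := isV_map' hX₀V
  refine ⟨M, T, _, hM, hT, hX, hMn, hTn, hYM, hYT, hMT, hsup, hMV, hTV, ?_, hXV, ?_, ?_, ?_, ?_, ?_, ?_⟩
  · rintro _ ⟨y, -, rfl⟩
    exact y.2
  · rintro _ ⟨x, hx, rfl⟩ _ ⟨y, hy, rfl⟩
    exact hX₀i x hx y hy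
  · intro Z hZ d hd hZY
    have h1 := hu _ _ d (isV_comap hZY (hZ := hY) hd)
    rw [← h1, Submodule.map_comap_subtype, inf_eq_right.2 hZY]
  · have h1 := S.finrank_orth hY
    have hM5 := IsV.dim_single ι hF (show 4 < p by omega) hMV
    have hT7 := IsV.dim_single ι hF (show 6 < p by omega) hTV
    have hM0 := IsV.dim_single ι hF (show 4 < p by omega) hM₀V
    have hT0 := IsV.dim_single ι hF (show 6 < p by omega) hT₀V
    have h2 := hSO.finrank_orth hM₀
    omega
  · rw [hcf, Multiset.count_add, Multiset.insert_eq_cons, Multiset.insert_eq_cons, Multiset.insert_eq_cons,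
      Multiset.count_cons_self, Multiset.count_cons_self, Multiset.count_cons_self, Multiset.count_singleton,
      Multiset.count_singleton, if_neg h4c, if_neg h46]
  · rw [hcf, Multiset.count_add, Multiset.insert_eq_cons, Multiset.insert_eq_cons, Multiset.insert_eq_cons,
      Multiset.count_cons_of_ne h46.symm, Multiset.count_cons_of_ne h46.symm, Multiset.count_cons_of_ne h46.symm,
      Multiset.count_singleton, Multiset.count_singleton, if_neg h6c, if_pos rfl]
  · intro d hd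
    rw [hcf, Multiset.count_add, Multiset.insert_eq_cons, Multiset.insert_eq_cons, Multiset.insert_eq_cons,
      Multiset.count_cons_of_ne hd, Multiset.count_cons_of_ne hd, Multiset.count_cons_of_ne hd,
      Multiset.count_singleton, Multiset.count_singleton]
    split_ifs with h1 h2 h2
    · exact absurd (h2.symm.trans h1) h6c
    · omega
    · omega
    · omega

end Cfsg.Agent.R2.F4T
end

-- part: R2/F4T/Table
section
/-!
# The table for `p ≥ 5` (helper6, S5931)

* `split2`, `alpha_form` : explicit summands;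
* `Tb` : the surviving structures; **`table`** : the pattern of `J₀` is one of them.
-/

set_option autoImplicit false
set_option linter.unusedSectionVars false

namespace Cfsg.Agent.R2.F4T

open Matrix Cfsg.Agent.H943.SL2Rel Cfsg.Agent.H943.SL2Mod Cfsg.Agent.H943.RepAdd Cfsg.Agent.R2.H28.SL2
open Cfsg.Agent.R2.SL2 (typ tyl coe_tyl typ_step typ_zero tyl_eq_nil mem_typ listF4)

universe u v w

variable {k : Type u} [Field k] [DecidableEq k] {F : Type w} [Field F] [Fintype F] [DecidableEq F] {ι : F →+* k}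
variable {p : ℕ} [Fact p.Prime] [CharP k p] [CharP F p] [IsAlgClosed k] {a : ℕ}
variable {V : Type v} [AddCommGroup V] [Module k V] [FiniteDimensional k V]
variable {ρ : Representation k (_root_.Matrix.SpecialLinearGroup (Fin 2) F) V} {P : V →ₗ[k] V →ₗ[k] k}

/-- the factors of the complement -/
theorem SD.compl_cf (S : SD ρ P) {Z : Submodule k V} {hZ : ∀ g, ∀ x ∈ Z, ρ g x ∈ Z} (hnd : Nd P Z) {s t : Multiset ℕ}
    (hs : cf (Sy.{u, v, w} ι p) (subRep ρ Z hZ) = s) (hcf : cf (Sy.{u, v, w} ι p) ρ = s + t) :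
    cf (Sy.{u, v, w} ι p) (subRep ρ (orth P Z) (S.orth_inv hZ)) = t := by
  have h1 := S.cf_eq (ι := ι) (p := p) hZ hnd
  rw [hcf, hs] at h1
  exact (add_left_cancel h1).symm

/-- a summand with the label `b` in a multiplicity-free module -/
theorem SD.exists_nd (S : SD ρ P) (hmf : (cf (Sy.{u, v, w} ι p) ρ).Nodup) {b : ℕ} (hb : b ∈ cf (Sy.{u, v, w} ι p) ρ) :
    ∃ (X : Submodule k V) (hX : ∀ g, ∀ x ∈ X, ρ g x ∈ X), IsV ι p (subRep ρ X hX) b ∧ Nd P X := by
  have h1 := Multiset.nodup_iff_count_le_one.1 hmf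
  obtain ⟨X, hX, hV⟩ := S.all_soc (ι := ι) (p := p) (fun X hX c hc => S.nd_of_count hc (h1 c)) b hb
  exact ⟨X, hX, hV, S.nd_of_count hV (h1 b)⟩

/-- two summands -/
theorem SD.split2 (S : SD ρ P) {b c : ℕ} (hbc : b ≠ c) (hcf : cf (Sy.{u, v, w} ι p) ρ = {b, c}) :
    ∃ (X Y : Submodule k V) (hX : ∀ g, ∀ x ∈ X, ρ g x ∈ X) (hY : ∀ g, ∀ x ∈ Y, ρ g x ∈ Y),
      IsV ι p (subRep ρ X hX) b ∧ IsV ι p (subRep ρ Y hY) c ∧ X ⊔ Y = ⊤ := by
  obtain ⟨X, hX, hV, hnd⟩ := S.exists_nd (ι := ι) (p := p) (b := b) (by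
    rw [hcf]
    simp [hbc]) (by rw [hcf]; simp)
  have h1 := S.compl_cf hnd (cf_irr (Sy.{u, v, w} ι p) hV) (t := {c}) (by rw [hcf]; rfl)
  exact ⟨X, orth P X, hX, S.orth_inv hX, hV, irr_of_cf (S := Sy.{u, v, w} ι p) h1, (S.compl hX hnd).sup_eq_top⟩

/-- three summands -/
theorem SD.split3 (S : SD ρ P) {b c d : ℕ} (hbc : b ≠ c) (hbd : b ≠ d) (hcd : c ≠ d)
    (hcf : cf (Sy.{u, v, w} ι p) ρ = {b, c, d}) :
    ∃ (X Y Z : Submodule k V) (hX : ∀ g, ∀ x ∈ X, ρ g x ∈ X) (hY : ∀ g, ∀ x ∈ Y, ρ g x ∈ Y) (hZ : ∀ g, ∀ x ∈ Z, ρ g x ∈ Z),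
      IsV ι p (subRep ρ X hX) b ∧ IsV ι p (subRep ρ Y hY) c ∧ IsV ι p (subRep ρ Z hZ) d ∧ X ⊔ Y ⊔ Z = ⊤ := by
  obtain ⟨X, hX, hV, hnd⟩ := S.exists_nd (ι := ι) (p := p) (b := b) (by
    rw [hcf]
    simp [hbc, hbd, hcd]) (by rw [hcf]; simp)
  have h1 := S.compl_cf hnd (cf_irr (Sy.{u, v, w} ι p) hV) (t := {c, d}) (by rw [hcf]; rfl)
  obtain ⟨Y, Z, hY, hZ, hYV, hZV, hsup⟩ := (S.restrict (S.orth_inv hX) (S.nd_orth hnd)).split2 hcd h1
  obtain ⟨hY', hYV'⟩ := isV_map' hYV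
  obtain ⟨hZ', hZV'⟩ := isV_map' hZV
  refine ⟨X, _, _, hX, hY', hZ', hV, hYV', hZV', ?_⟩
  rw [sup_assoc, ← Submodule.map_sup, hsup, Submodule.map_subtype_top]
  exact (S.compl hX hnd).sup_eq_top

/-- the explicit summands for the type `4, 4, 6, 8` -/
theorem SD.alpha_form (S : SD ρ P) (hp : 8 < p) {r : ℕ}
    (hcf : cf (Sy.{u, v, w} ι p) ρ = {4 * p ^ r, 4 * p ^ r, 6 * p ^ r, 8 * p ^ r})
    {M : Submodule k V} {hM : ∀ g, ∀ x ∈ M, ρ g x ∈ M} (hMV : IsV ι p (subRep ρ M hM) (4 * p ^ r)) (hnd : Nd P M) :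
    ∃ (A B M M' : Submodule k V) (hA : ∀ g, ∀ x ∈ A, ρ g x ∈ A) (hB : ∀ g, ∀ x ∈ B, ρ g x ∈ B)
      (hM : ∀ g, ∀ x ∈ M, ρ g x ∈ M) (hM' : ∀ g, ∀ x ∈ M', ρ g x ∈ M'), IsV ι p (subRep ρ A hA) (8 * p ^ r) ∧
      IsV ι p (subRep ρ B hB) (6 * p ^ r) ∧ IsV ι p (subRep ρ M hM) (4 * p ^ r) ∧ IsV ι p (subRep ρ M' hM') (4 * p ^ r) ∧
      A ⊔ B ⊔ M ⊔ M' = ⊤ := by
  have t4 : tyl p (4 * p ^ r) = [4] := tyl_single (by norm_num) (by omega) _
  have t6 : tyl p (6 * p ^ r) = [6] := tyl_single (by norm_num) (by omega) _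
  have t8 : tyl p (8 * p ^ r) = [8] := tyl_single (by norm_num) (by omega) _
  have h46 : 8 * p ^ r ≠ 6 * p ^ r := fun h => by rw [h, t6] at t8; exact absurd t8 (by decide)
  have h48 : 8 * p ^ r ≠ 4 * p ^ r := fun h => by rw [h, t4] at t8; exact absurd t8 (by decide)
  have h68 : 6 * p ^ r ≠ 4 * p ^ r := fun h => by rw [h, t4] at t6; exact absurd t6 (by decide)
  have h1 := S.compl_cf hnd (cf_irr (Sy.{u, v, w} ι p) hMV) (t := {8 * p ^ r, 6 * p ^ r, 4 * p ^ r}) (by
    rw [hcf]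
    simp only [Multiset.insert_eq_cons, Multiset.singleton_add]
    congr 1
    ext t
    rw [Multiset.count_cons, Multiset.count_cons, Multiset.count_cons, Multiset.count_cons, Multiset.count_singleton,
      Multiset.count_singleton]
    omega)
  obtain ⟨A, B, M', hA, hB, h88⟩ :=
    (S.restrict (S.orth_inv hM) (S.nd_orth hnd)).split3 h46 h48 h68 h1
  revert h88; rintro ⟨hM', hAV, hBV, hMV', hsup⟩
  obtain ⟨hA1, hAV1⟩ := isV_map' hAV
  obtain ⟨hB1, hBV1⟩ := isV_map' hBV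
  obtain ⟨hM1, hMV1⟩ := isV_map' hMV'
  refine ⟨_, _, _, M, hA1, hB1, hM1, hM, hAV1, hBV1, hMV1, hMV, ?_⟩
  rw [← Submodule.map_sup, ← Submodule.map_sup, hsup, Submodule.map_subtype_top, sup_comm]
  exact (S.compl hM hnd).sup_eq_top

/-- **the surviving structures** -/
inductive Tb (ι : F →+* k) (p : ℕ) [Fact p.Prime] [CharP k p] [CharP F p] (a : ℕ)
    (ρ : Representation k (_root_.Matrix.SpecialLinearGroup (Fin 2) F) V) (P : V →ₗ[k] V →ₗ[k] k) : Prop
  /-- `4, 4, 6, 8` -/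
  | alpha (hp : 11 ≤ p) (r : ℕ) (hr : r < a) (A B M M' : Submodule k V) (hA : ∀ g, ∀ x ∈ A, ρ g x ∈ A)
      (hB : ∀ g, ∀ x ∈ B, ρ g x ∈ B) (hM : ∀ g, ∀ x ∈ M, ρ g x ∈ M) (hM' : ∀ g, ∀ x ∈ M', ρ g x ∈ M')
      (hAV : IsV ι p (subRep ρ A hA) (8 * p ^ r)) (hBV : IsV ι p (subRep ρ B hB) (6 * p ^ r))
      (hMV : IsV ι p (subRep ρ M hM) (4 * p ^ r)) (hMV' : IsV ι p (subRep ρ M' hM') (4 * p ^ r))
      (hsup : A ⊔ B ⊔ M ⊔ M' = ⊤) : Tb ι p a ρ P
  /-- `[1,1,2], 4, 8` and `[1,5], 4, 8` -/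
  | theta (hp : 11 ≤ p) (r : ℕ) (hr : r < a) (c : ℕ) (ht : tyl p c = [1, 1, 2] ∨ tyl p c = [1, 5])
      (hcf : cf (Sy.{u, v, w} ι p) ρ = {c, 4 * p ^ r, 8 * p ^ r}) (hnd : Nds ι p ρ P) : Tb ι p a ρ P
  /-- `8, 16` -/
  | e (hp : 17 ≤ p) (r : ℕ) (hr : r < a) (s : ℕ) (hs : s < a)
      (hcf : cf (Sy.{u, v, w} ι p) ρ = {8 * p ^ r, 16 * p ^ s}) (hnd : Nds ι p ρ P) : Tb ι p a ρ P
  /-- `T(16)`, `p = 13`, `2 ≤ a` -/
  | c (hp : p = 13) (ha : 2 ≤ a) (r : ℕ) (hr : r < a)
      (hcf : cf (Sy.{u, v, w} ι p) ρ = {8 * p ^ r, 8 * p ^ r, 3 * p ^ r + p ^ ((r + 1) % a)})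
      (X : Submodule k V) (hX : ∀ g, ∀ x ∈ X, ρ g x ∈ X) (hV : IsV ι p (subRep ρ X hX) (8 * p ^ r))
      (hu : ∀ (Y : Submodule k V) (hY : ∀ g, ∀ x ∈ Y, ρ g x ∈ Y), Irrd (subRep ρ Y hY) → Y = X) : Tb ι p a ρ P
  /-- `T(16)`, `q = 13` -/
  | d (hp : p = 13) (ha : a = 1) (hcf : cf (Sy.{u, v, w} ι p) ρ = {2, 4, 8, 8})
      (X : Submodule k V) (hX : ∀ g, ∀ x ∈ X, ρ g x ∈ X) (hV : IsV ι p (subRep ρ X hX) 8)
      (hu : ∀ (Y : Submodule k V) (hY : ∀ g, ∀ x ∈ Y, ρ g x ∈ Y), Irrd (subRep ρ Y hY) → Y = X) : Tb ι p a ρ P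
  /-- `T(8)` and `[1,1,2]`, `[1,5]`, `p = 7`, `2 ≤ a` -/
  | theta7 (hp : p = 7) (ha : 2 ≤ a) (r : ℕ) (hr : r < a) (Y : Submodule k V) (hY : ∀ g, ∀ x ∈ Y, ρ g x ∈ Y)
      (hO : ∀ g, ∀ x ∈ orth P Y, ρ g x ∈ orth P Y) (hYn : Nd P Y)
      (hYc : cf (Sy.{u, v, w} ι p) (subRep ρ Y hY) = {4 * p ^ r, 4 * p ^ r, p ^ r + p ^ ((r + 1) % a)}) (c : ℕ)
      (ht : tyl p c = [1, 1, 2] ∨ tyl p c = [1, 5]) (hV : IsV ι p (subRep ρ (orth P Y) hO) c) : Tb ι p a ρ P
  /-- `T(8)`, `4`, `6`, `p = 7` : `X` is the isotropic `4` in `Y = T(8)` (for `q = 7` : `cf Y = {0, 2, 4, 4}`) -/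
  | alpha7 (hp : p = 7) (r : ℕ) (hr : r < a) (Y M T X : Submodule k V) (hY : ∀ g, ∀ x ∈ Y, ρ g x ∈ Y)
      (hM : ∀ g, ∀ x ∈ M, ρ g x ∈ M) (hT : ∀ g, ∀ x ∈ T, ρ g x ∈ T) (hX : ∀ g, ∀ x ∈ X, ρ g x ∈ X) (hYn : Nd P Y)
      (hMn : Nd P M) (hTn : Nd P T) (hYM : ∀ x ∈ Y, ∀ y ∈ M, P x y = 0) (hYT : ∀ x ∈ Y, ∀ y ∈ T, P x y = 0)
      (hMT : ∀ x ∈ M, ∀ y ∈ T, P x y = 0) (hsup : Y ⊔ M ⊔ T = ⊤) (hMV : IsV ι p (subRep ρ M hM) (4 * p ^ r))
      (hTV : IsV ι p (subRep ρ T hT) (6 * p ^ r)) (hXY : X ≤ Y) (hXV : IsV ι p (subRep ρ X hX) (4 * p ^ r))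
      (hXi : Iso P X)
      (hu : ∀ (Z : Submodule k V) (hZ : ∀ g, ∀ x ∈ Z, ρ g x ∈ Z) (c : ℕ), IsV ι p (subRep ρ Z hZ) c → Z ≤ Y → Z = X)
      (hd : Module.finrank k Y = 14) (h4 : (cf (Sy.{u, v, w} ι p) ρ).count (4 * p ^ r) = 3)
      (h6 : (cf (Sy.{u, v, w} ι p) ρ).count (6 * p ^ r) = 1)
      (hc1 : ∀ c, c ≠ 4 * p ^ r → (cf (Sy.{u, v, w} ι p) ρ).count c ≤ 1) : Tb ι p a ρ P

/-- the factors for `q = 7` -/
theorem cf_seven [Fact (Nat.Prime 7)] [CharP k 7] [CharP F 7] (hF : Fintype.card F = 7) {W : List (List ℕ)}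
    (hw : (W : Multiset (List ℕ)) = (cf (Sy.{u, v, w} ι 7) ρ).map (tyl 7)) :
    cf (Sy.{u, v, w} ι 7) ρ = (W.map List.sum : List ℕ) := by
  have hlt : ∀ b ∈ cf (Sy.{u, v, w} ι 7) ρ, b < 7 := by
    intro b hb
    have := cf_lt ι 7 (a := 1) (by rw [hF, pow_one]) ρ b hb
    rwa [pow_one] at this
  have h1 := congrArg (Multiset.map List.sum) hw
  rw [Multiset.map_map, Multiset.map_coe] at h1
  rw [h1]
  conv_lhs => rw [← Multiset.map_id (cf (Sy.{u, v, w} ι 7) ρ)]
  exact Multiset.map_congr rfl fun b hb => (Cfsg.Agent.R2.H22.Q7.sum_tyl (hlt b hb)).symm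

variable {B : V →ₗ[k] V →ₗ[k] V} (hF : Fintype.card F = p ^ a) {W : List (List ℕ)}
  (hw : (W : Multiset (List ℕ)) = (cf (Sy.{u, v, w} ι p) ρ).map (tyl p))
  (S : SD ρ P) (R : Rl ι p a ρ P) (D : Prd ρ P B)

include hF hw S R D in
/-- **the table for `p ≥ 5`** -/
theorem table (hp5 : 5 ≤ p) (hq7 : 7 ≤ p ^ a) (hV : Module.finrank k V = 26) (hfx : ∀ x, (∀ g, ρ g x = x) → x = 0)
    (hWm : W ∈ listF4) : Tb ι p a ρ P := by
  have hpp : p.Prime := Fact.out
  have hnp : ∀ n, p = n → n = 5 ∨ n = 7 ∨ 11 ≤ n := by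
    intro n hn
    by_contra hc
    have h1 : n = 6 ∨ n = 8 ∨ n = 9 ∨ n = 10 := by omega
    rw [hn] at hpp
    rcases h1 with rfl | rfl | rfl | rfl <;> revert hpp <;> decide
  have ha := ha_pos p hF
  rcases no_trivial4 ι p hF hp5 hq7 hfx (S.co hfx) hWm hw with h0 | ⟨ha1, hp7, h⟩ | ⟨ha2, hp, h⟩
  · rcases hnp p rfl with h5 | h7 | h11
    · exact (tab5 S R hF hw h5 hWm h0).elim
    · rcases Nat.lt_or_ge a 2 with ha1 | ha2
      · obtain rfl : a = 1 := by omega
        have h2 := R.n2 0 (by omega)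
        rw [pow_zero, mul_one] at h2
        subst h7
        exact (no_71 S h2 (by rw [hF, pow_one]) hWm h0 hw).elim
      · obtain ⟨r, hr, Y, hY, hYn, hYc, h⟩ := tab7 S R hF hw h7 ha2 hWm h0
        rcases h with ⟨c, ht, hc⟩ | hc
        · exact Tb.theta7 h7 ha2 r hr Y hY _ hYn hYc c ht hc
        · have hii := succ_mod_ne ha2 hr
          have htc : tyl p (p ^ r + p ^ ((r + 1) % a)) = [1, 1] := by
            have h := tyl_pair (p := p) (n := 1) (m := 1) (by norm_num) (by omega) (by norm_num) (by omega) hii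
            rwa [one_mul, one_mul] at h
          have t4 : tyl p (4 * p ^ r) = [4] := tyl_single (by norm_num) (by omega) _
          have t6 : tyl p (6 * p ^ r) = [6] := tyl_single (by norm_num) (by omega) _
          have hn : ¬ InSoc ι p ρ (p ^ r + p ^ ((r + 1) % a)) := by
            intro hc1
            have h22 : [2, 2] ∈ (W : Multiset (List ℕ)) := R.soc11 hF hw (by omega) hc1 htc
            rw [hw, S.cf_eq (ι := ι) (p := p) hY hYn, hYc, hc] at h22
            simp only [Multiset.insert_eq_cons, Multiset.cons_add, Multiset.map_cons, Multiset.singleton_add,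
              Multiset.map_singleton, Multiset.mem_cons, Multiset.mem_singleton, htc, t4, t6] at h22
            revert h22
            decide
          obtain ⟨M, T, X, hM, hT, h88⟩ :=
            S.T8_form hF h7 hV htc hY hYn hn hYc hc
          revert h88; rintro ⟨hX, h1, h2, h3, h4, h88⟩
          revert h88; rintro ⟨h5, h6, g7, h8, h9, h88⟩
          revert h88; rintro ⟨h10, h11, h12, h13, h14, h88⟩
          revert h88; rintro ⟨h15, h16⟩
          exact Tb.alpha7 h7 r hr Y M T X hY hM hT hX hYn h1 h2 h3 h4 h5 h6 g7 h8 h9 h10 h11 h12 h13 h14 h15 h16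
    · rcases tab11 S R hF hw h11 hWm h0 with ⟨r, hr, hcf, -, X, hX, hXV, hXn⟩ | ⟨r, hr, c, ht, hcf, hnd⟩ |
        ⟨b, hb, r, hr, s, hs, hcf⟩ | ⟨i, hi, j, hj, r, hr, s, hs, hcf⟩ | ⟨h17, r, hr, s, hs, hcf, hnd⟩
      · obtain ⟨A, B, M, M', hA, h88⟩ := S.alpha_form (by omega) hcf hXV hXn
        revert h88; rintro ⟨hB, hM, hM', hAV, hBV, h88⟩
        revert h88; rintro ⟨hMV, hMV', hsup⟩
        exact Tb.alpha h11 r hr A B M M' hA hB hM hM' hAV hBV hMV hMV' hsup
      · exact Tb.theta h11 r hr c ht hcf hnd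
      · have hw' : (([[1, 3], [8], [8]] : List (List ℕ)) : Multiset (List ℕ)) = (cf (Sy.{u, v, w} ι p) ρ).map (tyl p) := by
          rw [hcf, Multiset.insert_eq_cons, Multiset.insert_eq_cons, Multiset.map_cons, Multiset.map_cons,
            Multiset.map_singleton, hb, tyl_single (by norm_num) (by omega), tyl_single (by norm_num) (by omega)]
          rfl
        obtain ⟨h13, ha2, hcf', X, hX, hXV, hu⟩ := c13 hF S R hV h11 hb hr hw' hcf
        exact Tb.c h13 ha2 r hr hcf' X hX hXV hu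
      · obtain ⟨h13, ha1, hcf', X, hX, hXV, hu⟩ := d13 hF S R hV h11 hi hj hr hs hcf
        exact Tb.d h13 ha1 hcf' X hX hXV hu
      · exact Tb.e h17 r hr s hs hcf hnd
  · subst ha1
    have h2 := R.n2 0 (by omega)
    rw [pow_zero, mul_one] at h2
    subst hp7
    have hF7 : Fintype.card F = 7 := by rw [hF, pow_one]
    have hcf := cf_seven hF7 hw
    rcases h with rfl | rfl
    · exfalso
      refine no_I' hF7 3 3 le_rfl le_rfl S hfx (fun b hb => ?_) (by rw [hcf]; decide)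
      have h1 := hb.mem_cf
      rw [hcf] at h1
      have h3 : b = 0 ∨ b = 2 ∨ b = 4 := by
        revert h1
        simp
      rcases h3 with rfl | rfl | rfl
      · exact absurd (tyl_eq_nil.2 rfl) (soc_ne_nil hfx hb)
      · exact absurd hb h2
      · rfl
    · have hcf' : cf (Sy.{u, v, w} ι 7) ρ = {0, 2, 4, 4, 4, 6} := by rw [hcf]; decide
      obtain ⟨X, Z, Y, hX, hZ, h88⟩ :=
        J_str hF7 S hfx h2 hcf'
      revert h88; rintro ⟨hY, hXV, hZV, hYc, hsup, h88⟩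
      revert h88; rintro ⟨hXn, hZn, hYn, hXZ, hXY, h88⟩
      revert h88; rintro ⟨hZY, N, hN, hNY, hNV, h88⟩
      revert h88; rintro ⟨hNi, hNu⟩
      have hdY : Module.finrank k Y = 14 := by
        rw [dim_cf7 (ρ := subRep ρ Y hY) (s := {0, 2, 4, 4}) (by decide) hYc]
        rfl
      exact Tb.alpha7 rfl 0 (by omega) Y Z X N hY hZ hX hN hYn hZn hXn
        (fun x hx y hy => by rw [S.symm]; exact hZY y hy x hx) (fun x hx y hy => by rw [S.symm]; exact hXY y hy x hx)
        (fun x hx y hy => by rw [S.symm]; exact hXZ y hy x hx) (by rw [← hsup, sup_assoc, sup_comm, sup_comm Z X])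
        hZV hXV hNY hNV hNi (fun M hM c hc hMY => hNu M hM hMY hc.irr) hdY (by rw [hcf']; decide) (by rw [hcf']; decide)
        (fun c hc => by
          rw [hcf']
          have h4 : c ≠ 4 := hc
          simp only [Multiset.insert_eq_cons]
          rw [Multiset.count_cons, Multiset.count_cons, Multiset.count_cons_of_ne h4, Multiset.count_cons_of_ne h4,
            Multiset.count_cons_of_ne h4, Multiset.count_singleton]
          split_ifs <;> omega)
  · exfalso
    rcases h with h | h | h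
    · exact no_K hF S hw R hp ha2 hfx h
    · exact no_L D hF hw S R hp ha2 hfx h
    · exact no_M hF S hw R hp ha2 hfx h

end Cfsg.Agent.R2.F4T
end

private theorem dce_34df0cb40d3e : _root_.True := by
  try have : _root_.True := by simp only [_root_.Cfsg.Agent.H943.RepAdd.quotRep.congr_simp]
  exact _root_.True.intro
end
end
end
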